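import Cfsg.Agent.H522.FldUntw
import Cfsg.Agent.H522.FldSixLib
import Cfsg.Agent.BpExc.Sig

/-!
# `OddFix r S` for `²E₆(q)` (helper522)

* `pow_mem_range` : a torus element of `E₆(k)` fixed by `gr * Frob` has its third power in `²E₆(q)`;
* `oddFix_twE6`.
-/

set_option autoImplicit false
set_option linter.unusedSectionVars false

namespace Cfsg.Agent.H522.FldSix

open CoxeterSystem Subgroup Cfsg Cfsg.Lie Cfsg.Lie.ChevalleyDatum
open Cfsg.Agent.ChevalleyStructure Cfsg.Agent.ChevalleyStructure.Elts Cfsg.Agent.ChevalleyStructure.CoxeterGeom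
  Cfsg.Agent.ChevalleyStructure.CoxeterGeomTypes Cfsg.Agent.ChevalleyStructure.NPerm
open Cfsg.Agent.Tits.Roots Cfsg.Agent.Tits.Core Cfsg.Agent.Nodes.BNOf
open Cfsg.Agent.Nodes.RGDChev Cfsg.Agent.KFacts.RgdChevCoord Cfsg.Agent.GpExc.Field
open Cfsg.Agent.BpExc Cfsg.Agent.BpExc.TorCent Cfsg.Agent.BpExc.TowChev Cfsg.Agent.BpExc.FamUntw
  Cfsg.Agent.BpExc.FamInst Cfsg.Agent.BpExc.LangFr Cfsg.Agent.BpExc.FamField Cfsg.Agent.BpExc.FamExt
  Cfsg.Agent.BpExc.RowsUntw
open Cfsg.Agent.BpExc.FamTw.Six (em coe_em em_injective B6 twisted_le_group)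
open Cfsg.Agent.BpExc.FamTw.Gr (gr gr_xg xg coe_gr)
open Cfsg.Agent.H522.FamTw.Frame (sig6 rho6 isFrob_sig6 fr_sig6 inListE6)
open Cfsg.Agent.ChevalleyStructure.TwE6Basic (hE6 exists_frob)
open Cfsg.Agent.ChevalleyStructure.GraphSymm (symmE6)
open Cfsg.Agent.KFacts.TwESix.Out (KF PhiE coe_PhiE_hS hv_one hv_two)
open Cfsg.Agent.Nodes.RGDFoldSL (hS mem_Fx)
open Cfsg.Agent.H522.FldUntw

universe u

/-! ### the coroot coordinates -/

section Sol

variable {K : Type*} [Field K]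

/-- the coroot coordinates of the third power -/
def aa (c : Fin 6 → K) (j : Fin 6) : K := ∏ m, c m ^ B6 m j

theorem aa_ne_zero {c : Fin 6 → K} (hc : ∀ i, c i ≠ 0) (j : Fin 6) : aa c j ≠ 0 :=
  Finset.prod_ne_zero_iff.2 fun m _ => zpow_ne_zero _ (hc m)

theorem B6_rho : ∀ m j : Fin 6, B6 (rho6 m) (rho6 j) = B6 m j := by decide +kernel

theorem aa_rho {φ : K →+* K} {c : Fin 6 → K} (h : ∀ i, c (rho6 i) = φ (c i)) (j : Fin 6) :
    aa c (rho6 j) = φ (aa c j) := by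
  unfold aa
  rw [map_prod, ← Equiv.prod_comp rho6]
  refine Finset.prod_congr rfl fun m _ => ?_
  rw [map_zpow₀, h, B6_rho]

theorem inv_B6 : InvC chevE6 6 3 B6 := inv_E6

theorem aa_eq {c : Fin 6 → K} (hc : ∀ i, c i ≠ 0) (x : Fin 6 → ℤ) :
    ∏ j, aa c j ^ pairing (cartanOf chevE6 6) j x = ∏ i, (c i ^ 3) ^ x i := by
  have h1 : ∀ j, aa c j ^ pairing (cartanOf chevE6 6) j x =
      ∏ m, c m ^ (B6 m j * pairing (cartanOf chevE6 6) j x) := by
    intro j
    unfold aa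
    rw [← Finset.prod_zpow]
    exact Finset.prod_congr rfl fun m _ => (zpow_mul _ _ _).symm
  have h2 : ∀ m, ∏ j, c m ^ (B6 m j * pairing (cartanOf chevE6 6) j x) = (c m ^ 3) ^ x m := by
    intro m
    have h3 : ∀ S : Finset (Fin 6), ∏ j ∈ S, c m ^ (B6 m j * pairing (cartanOf chevE6 6) j x) =
        c m ^ (∑ j ∈ S, B6 m j * pairing (cartanOf chevE6 6) j x) := by
      intro S
      induction S using Finset.induction_on with
      | empty => rw [Finset.prod_empty, Finset.sum_empty, zpow_zero]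
      | insert j S hj ih => rw [Finset.prod_insert hj, Finset.sum_insert hj, zpow_add₀ (hc m), ih]
    have h4 : ∑ j, B6 m j * pairing (cartanOf chevE6 6) j x = ((3 : ℕ) : ℤ) * x m := by
      unfold pairing
      calc ∑ j, B6 m j * ∑ i, cartanOf chevE6 6 j i * x i
          = ∑ j, ∑ i, B6 m j * cartanOf chevE6 6 j i * x i := by
            refine Finset.sum_congr rfl fun j _ => ?_
            rw [Finset.mul_sum]
            exact Finset.sum_congr rfl fun i _ => (mul_assoc _ _ _).symm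
        _ = ∑ i, (∑ j, B6 m j * cartanOf chevE6 6 j i) * x i := by
            rw [Finset.sum_comm]
            refine Finset.sum_congr rfl fun i _ => ?_
            rw [Finset.sum_mul]
        _ = ((3 : ℕ) : ℤ) * x m := by
            rw [Finset.sum_eq_single m]
            · rw [inv_B6 m m, if_pos rfl]
            · intro i _ hi
              rw [inv_B6 m i, if_neg (Ne.symm hi), zero_mul]
            · intro h
              exact absurd (Finset.mem_univ m) h
    rw [h3, h4, zpow_mul, zpow_natCast]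
  rw [Finset.prod_congr rfl fun j _ => h1 j, Finset.prod_comm]
  exact Finset.prod_congr rfl fun m _ => h2 m

end Sol

/-! ### the torus -/

section Tor

variable {K : Type} [Field K] [Fintype K] {q : ℕ} {φ : K →+* K} (hφ : ∀ x, φ x = x ^ q)
  (hqq : ∀ t : K, (t ^ q) ^ q = t) {k : Type} [Field k] (f : K →+* k)

include hφ hqq in
/-- the element of `²E₆(q)` with the coroot coordinates `a`, `a ∘ ρ = φ ∘ a` -/
theorem exists_six (a : Fin 6 → K) (ha : ∀ j, a (rho6 j) = φ (a j)) : ∃ g : ↥(twistedE6 K q),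
    em q f g = hc e6T 1 (f (a 1)) * hc e6T 3 (f (a 3)) * (hc e6T 2 (f (a 2)) * hc e6T 4 (f (a 4))) *
      (hc e6T 0 (f (a 0)) * hc e6T 5 (f (a 5))) := by
  have h2 : ∀ a : K, φ (φ a) = a := fun a => by rw [hφ, hφ, hqq]
  have m0 : a 1 ∈ KF φ 0 := mem_Fx.2 (ha 1).symm
  have m1 : a 3 ∈ KF φ 1 := mem_Fx.2 (ha 3).symm
  have m2 : a 2 ∈ KF φ 2 := mem_Fx.2 (h2 _)
  have m3 : a 0 ∈ KF φ 3 := mem_Fx.2 (h2 _)
  refine ⟨PhiE hφ hqq 0 (hS ⟨a 1, m0⟩) * PhiE hφ hqq 1 (hS ⟨a 3, m1⟩) * PhiE hφ hqq 2 (hS ⟨a 2, m2⟩) *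
    PhiE hφ hqq 3 (hS ⟨a 0, m3⟩), ?_⟩
  have s1 : chevE6.simple (1 : Fin 6) = 46 := by decide +kernel
  have s3 : chevE6.simple (3 : Fin 6) = 39 := by decide +kernel
  have s2 : chevE6.simple (2 : Fin 6) = 42 := by decide +kernel
  have s4 : chevE6.simple (4 : Fin 6) = 37 := by decide +kernel
  have s0 : chevE6.simple (0 : Fin 6) = 56 := by decide +kernel
  have s5 : chevE6.simple (5 : Fin 6) = 36 := by decide +kernel
  have e0 : ((PhiE hφ hqq 0 (hS ⟨a 1, m0⟩) : ↥(twistedE6 K q)) : GL chevE6.Idx K) = hG hE6 46 (a 1) := by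
    rw [coe_PhiE_hS]
    exact hv_one (by decide +kernel) _
  have e1 : ((PhiE hφ hqq 1 (hS ⟨a 3, m1⟩) : ↥(twistedE6 K q)) : GL chevE6.Idx K) = hG hE6 39 (a 3) := by
    rw [coe_PhiE_hS]
    exact hv_one (by decide +kernel) _
  have e2 : ((PhiE hφ hqq 2 (hS ⟨a 2, m2⟩) : ↥(twistedE6 K q)) : GL chevE6.Idx K) =
      hG hE6 42 (a 2) * hG hE6 37 (a 4) := by
    rw [coe_PhiE_hS]
    have h := hv_two (K := K) (φ := φ) (a := 42) (b := 37) (by decide +kernel) (by decide +kernel) (a 2)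
    rw [← ha 2] at h
    exact h
  have e3 : ((PhiE hφ hqq 3 (hS ⟨a 0, m3⟩) : ↥(twistedE6 K q)) : GL chevE6.Idx K) =
      hG hE6 56 (a 0) * hG hE6 36 (a 5) := by
    rw [coe_PhiE_hS]
    have h := hv_two (K := K) (φ := φ) (a := 56) (b := 36) (by decide +kernel) (by decide +kernel) (a 0)
    rw [← ha 0] at h
    exact h
  apply Subtype.ext
  rw [coe_em, Subgroup.coe_mul, Subgroup.coe_mul, Subgroup.coe_mul, e0, e1, e2, e3, map_mul, map_mul, map_mul,
    map_mul, map_mul, BpExc.Emb.glMap_hG', BpExc.Emb.glMap_hG', BpExc.Emb.glMap_hG', BpExc.Emb.glMap_hG',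
    BpExc.Emb.glMap_hG', BpExc.Emb.glMap_hG']
  have hcc : ∀ (j : Fin 6) (x : k), ((hc e6T j x : ↥(chevE6.group k)) : GL chevE6.Idx k) =
      hG hE6 (chevE6.simple j) x := fun _ _ => rfl
  rw [Subgroup.coe_mul, Subgroup.coe_mul, Subgroup.coe_mul, Subgroup.coe_mul, Subgroup.coe_mul, hcc, hcc, hcc, hcc,
    hcc, hcc, s1, s3, s2, s4, s0, s5]

variable {W : Type} [Group W] (cs : CoxeterSystem CoxeterMatrix.E₆ W)

include hφ hqq cs in
/-- **Torus elements fixed by the Steinberg automorphism.** -/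
theorem pow_mem_range (hk : LocFin k) (r : ℕ) [Fact r.Prime] [CharP k r]
    (hZ : center ↥(chevE6.group k) = ⊥) {t : ↥(chevE6.group k)} (ht : t ∈ TT chevE6 k) {c : Fin 6 → K}
    (hc : ∀ i, ch e6T (sr i) t = f (c i)) (hρ : ∀ i, c (rho6 i) = φ (c i)) :
    ∃ g : ↥(twistedE6 K q), em q f g = t ^ 3 := by
  have hW := finite_W e6T cs
  have C := coordsL (k := k) e6T cs hk r
  have hc0 : ∀ i, c i ≠ 0 := by
    intro i h
    have h1 := (C.coord _ (isRoot_sr cs e6T.isCartan i)).chi_ne_zero ht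
    rw [hc, h, map_zero] at h1
    exact h1 rfl
  obtain ⟨g, hg⟩ := exists_six hφ hqq f (aa c) (aa_rho hρ)
  refine ⟨g, ?_⟩
  have hf0 : ∀ j, f (aa c j) ≠ 0 := fun j => (map_ne_zero f).2 (aa_ne_zero hc0 j)
  have hm : ∀ j, KFacts.RgdChevCoord.hc e6T j (f (aa c j)) ∈ TT chevE6 k := fun j => hc_mem e6T j (hf0 j)
  have hgT : em q f g ∈ TT chevE6 k := by
    rw [hg]
    exact mul_mem (mul_mem (mul_mem (hm _) (hm _)) (mul_mem (hm _) (hm _))) (mul_mem (hm _) (hm _))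
  have h1 : ∀ s, s < chevE6.nroots → ch e6T (vec chevE6 6 s) (em q f g) =
      f (∏ i, (c i ^ 3) ^ vec chevE6 6 s i) := by
    intro s hs
    have hv : IsRoot cs e6T.isCartan (vec chevE6 6 s) := (isRoot_iff e6T cs _).2 ⟨s, hs, rfl⟩
    have hmul : ∀ {x y : ↥(chevE6.group k)}, x ∈ TT chevE6 k → y ∈ TT chevE6 k →
        ch e6T (vec chevE6 6 s) (x * y) = ch e6T (vec chevE6 6 s) x * ch e6T (vec chevE6 6 s) y :=
      fun hx hy => (C.coord _ hv).chi_mul hx hy
    have hj : ∀ j : Fin 6, ch e6T (vec chevE6 6 s) (KFacts.RgdChevCoord.hc e6T j (f (aa c j))) =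
        f (aa c j ^ pairing (cartanOf chevE6 6) j (vec chevE6 6 s)) := by
      intro j
      rw [ch_hc e6T j (hf0 j) hs, pairing_vec e6T j hs, map_zpow₀]
    rw [hg, hmul (mul_mem (mul_mem (hm _) (hm _)) (mul_mem (hm _) (hm _))) (mul_mem (hm _) (hm _)),
      hmul (mul_mem (hm _) (hm _)) (mul_mem (hm _) (hm _)), hmul (hm _) (hm _), hmul (hm _) (hm _),
      hmul (hm _) (hm _), hj, hj, hj, hj, hj, hj, ← aa_eq hc0, ← map_mul, ← map_mul, ← map_mul, ← map_mul, ← map_mul]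
    congr 1
    rw [Fin.prod_univ_six]
    ring
  obtain ⟨ψ, h0, hadd, hψ⟩ := chAddL (k := k) e6T cs hk r t ht
  have h2 : ∀ v, IsRoot cs e6T.isCartan v → ch e6T v (em q f g) = ch e6T v (t ^ 3) := by
    intro v hv
    rw [ch_pow e6T cs hk r hv ht, hψ v hv, phi_eq h0 hadd]
    obtain ⟨s, hs, rfl⟩ := (isRoot_iff e6T cs v).1 hv
    rw [h1 s hs, map_prod, ← Finset.prod_pow]
    refine Finset.prod_congr rfl fun i _ => ?_
    rw [← hψ _ (isRoot_sr cs e6T.isCartan i), hc, map_zpow₀, map_pow, ← zpow_natCast, ← zpow_mul, ← zpow_natCast,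
      ← zpow_mul, mul_comm]
  have h3 : (em q f g)⁻¹ * t ^ 3 = 1 := by
    refine eq_one_of_ch e6T cs hk r hZ (mul_mem (inv_mem hgT) (pow_mem ht 3)) fun v hv => ?_
    have h4 := (C.coord v hv).chi_mul hgT (mul_mem (inv_mem hgT) (pow_mem ht 3))
    rw [mul_inv_cancel_left, ← h2 v hv] at h4
    exact (mul_eq_left₀ ((C.coord v hv).chi_ne_zero hgT)).1 h4.symm
  exact inv_mul_eq_one.1 h3

end Tor

/-! ### the theorem -/

theorem isOfFinOrder_of_fixed {G : Type*} [Group G] {σ : MulAut G} [Finite ↥(fixedSubgroup σ)] {t : G} (h : σ t = t) :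
    IsOfFinOrder t := by
  have h1 : IsOfFinOrder (⟨t, h⟩ : ↥(fixedSubgroup σ)) := isOfFinOrder_of_finite _
  exact (fixedSubgroup σ).subtype.isOfFinOrder h1

/-- normality of the image of a subgroup of `GL` -/
theorem exists_conj {D : ChevalleyDatum} {F k : Type} [Field F] [Field k] {f : F →+* k} {G : Subgroup (GL D.Idx F)}
    {ι : ↥G →* ↥(D.group k)} (hι : ∀ a, ((ι a : ↥(D.group k)) : GL D.Idx k) = glMap D f (a : GL D.Idx F))
    {y : ↥(D.group k)}
    (hy : (y : GL D.Idx k) ∈ Subgroup.normalizer (G.map (glMap D f) : Set (GL D.Idx k))) (a : ↥G) :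
    ∃ b, y * ι a * y⁻¹ = ι b := by
  have h2 : (glMap D f (a : GL D.Idx F) : GL D.Idx k) ∈ G.map (glMap D f) := ⟨a, a.2, rfl⟩
  obtain ⟨z, hz, e⟩ := (Subgroup.mem_normalizer_iff.1 hy _).1 h2
  refine ⟨⟨z, hz⟩, Subtype.ext ?_⟩
  rw [hι]
  refine Eq.trans ?_ e.symm
  rw [← hι]
  rfl

theorem oddFix_twE6 {K : Type} [Field K] [Fintype K] {q r n : ℕ} [Fact r.Prime] [CharP K r]
    (hn0 : 0 < n) (hn : q = r ^ n) (hK : Fintype.card K = q ^ 2) : H523.OddFix r ↥(twistedE6 K q) := by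
  intro p hpp hp2 hpr x hx hfix
  have hpf : Fact p.Prime := ⟨hpp⟩
  obtain ⟨f⟩ := exists_emb r K
  have hk : LocFin (AlgebraicClosure (ZMod r)) := locFin_of_isAlgebraic r _
  have hF := isFrob_sig6 (k := AlgebraicClosure (ZMod r)) r n
  have hfin : Finite ↥(fixedSubgroup (sig6 (AlgebraicClosure (ZMod r)) r n)) := Sig.finite_fixed hk hn0 hF
  have hq : IsPrimePow q := (isPrimePow_nat_iff _).2 ⟨r, n, Fact.out, hn0, hn.symm⟩
  have hφ : ∀ t, ((frb (AlgebraicClosure (ZMod r)) r n : AlgebraicClosure (ZMod r) ≃+* AlgebraicClosure (ZMod r)) :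
      AlgebraicClosure (ZMod r) →+* AlgebraicClosure (ZMod r)) t = t ^ q := by
    intro t
    rw [hn]
    exact frb_apply _ r n t
  have hT : ∀ y : ↥(chevE6.group (AlgebraicClosure (ZMod r))), y ^ p = 1 →
      ∃ z : ↥(chevE6.group (AlgebraicClosure (ZMod r))), z * y * z⁻¹ ∈ TT chevE6 (AlgebraicClosure (ZMod r)) := by
    intro y hy
    obtain ⟨z, hz⟩ := TorAll.exists_toral' e6T r hpp hpr hy
    exact ⟨z⁻¹, by rwa [inv_inv]⟩
  have hfixe : ∀ a : ↥(twistedE6 K q), sig6 (AlgebraicClosure (ZMod r)) r n (em q f a) = em q f a :=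
    FamTw.Six.em_fix f r hn0 hn hK
  -- the elements of `Y ^ σ`
  have hsplit : ∀ y : ↥(chevE6.group (AlgebraicClosure (ZMod r))), sig6 (AlgebraicClosure (ZMod r)) r n y = y →
      ∃ (a : ↥(twistedE6 K q)) (t : ↥(chevE6.group (AlgebraicClosure (ZMod r)))),
        t ∈ TT chevE6 (AlgebraicClosure (ZMod r)) ∧ y = em q f a * t ∧ sig6 (AlgebraicClosure (ZMod r)) r n t = t := by
    intro y hy
    obtain ⟨a, ha, t, ht, e⟩ := EmbInst.twE6_split (f := f) hq hK hφ y.2 (congrArg Subtype.val hy)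
    have hta : t ∈ chevE6.group (AlgebraicClosure (ZMod r)) := by
      have h1 : t = ((em q f ⟨a, ha⟩ : ↥(chevE6.group (AlgebraicClosure (ZMod r)))) :
          GL chevE6.Idx (AlgebraicClosure (ZMod r)))⁻¹ * y := by
        rw [coe_em]
        exact eq_inv_mul_of_mul_eq e.symm
      rw [h1]
      exact mul_mem (inv_mem (SetLike.coe_mem _)) y.2
    have e' : y = em q f ⟨a, ha⟩ * ⟨t, hta⟩ := Subtype.ext e
    refine ⟨⟨a, ha⟩, ⟨t, hta⟩, Subgroup.mem_subgroupOf.2 ht, e', ?_⟩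
    have h1 := hy
    rw [e', map_mul, hfixe] at h1
    exact mul_left_cancel h1
  have hconj : ∀ t, sig6 (AlgebraicClosure (ZMod r)) r n t = t → ∀ b ∈ (em q f).range,
      t * b * t⁻¹ ∈ (em q f).range := by
    rintro t hσt _ ⟨a, rfl⟩
    obtain ⟨b, hb⟩ := exists_conj (coe_em f)
      (EmbInst.twE6_normalizer (f := f) hq hK hφ t.2 (congrArg Subtype.val hσt)) a
    exact ⟨b, hb.symm⟩
  have hr : ∀ y : ↥(chevE6.group (AlgebraicClosure (ZMod r))), sig6 (AlgebraicClosure (ZMod r)) r n y = y →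
      y ^ r = 1 → ∃ a, em q f a = y := by
    intro y hy hyr
    obtain ⟨a, t, ht, e, hσt⟩ := hsplit y hy
    have hft : IsOfFinOrder t := isOfFinOrder_of_fixed hσt
    obtain ⟨m, hm, hm1⟩ := exists_coprime e6T ht hft
    refine mem_of_pow_mem (N := (em q f).range) hyr (m := m) ?_ hm.symm
    rw [e]
    exact pow_mem_of_split (N := (em q f).range) ⟨_, rfl⟩ (hconj t hσt) (by rw [hm1]; exact one_mem _)
  obtain ⟨y, z, hyp, hσy, hxy, hz, hSx⟩ := FldElt.main e6T CoxeterMatrix.E₆.toCoxeterSystem hk ⟨0⟩ hT hn0 hF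
    (fr_sig6 hk r e6T CoxeterMatrix.E₆.toCoxeterSystem n) (em q f) (em_injective f) hr
    (fun x hx => FamTw.Six.fam hk f r e6T CoxeterMatrix.E₆.toCoxeterSystem hn0 hn hK hpp hp2 x hx) hx hfix
  by_cases hp3 : p = 3
  · exfalso
    have h1 : (z * y * z⁻¹) ^ 3 = 1 := by rw [conj_pow, ← hp3, hyp]; group
    have h2 := nonempty_E6 hk r CoxeterMatrix.E₆.toCoxeterSystem hz h1
    rw [hSx] at h2
    exact Set.not_nonempty_empty h2
  · obtain ⟨a, t, ht, e, hσt⟩ := hsplit y hσy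
    have hW := finite_W e6T CoxeterMatrix.E₆.toCoxeterSystem
    have C := coordsL (k := AlgebraicClosure (ZMod r)) e6T CoxeterMatrix.E₆.toCoxeterSystem hk r
    obtain ⟨φ0, hφ0, hqq⟩ := exists_frob hq hK
    -- the characters
    have hσx : ∀ (i : Fin 6) (s : AlgebraicClosure (ZMod r)),
        sig6 (AlgebraicClosure (ZMod r)) r n (xc e6T (sr i) s) = xc e6T (sr (rho6 i)) (s ^ q) := by
      intro i s
      have h1 : phi chevE6 (AlgebraicClosure (ZMod r)) r n (xc e6T (sr i) s) =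
          xc e6T (sr i) (s ^ q) := by
        rw [← vec_simple e6T i]
        have h2 := Cfsg.Agent.CpAut.RgdUntw.fld_xc e6T (frb (AlgebraicClosure (ZMod r)) r n)
          (simple_lt e6T.inList (lt_rank e6T i)) s
        rw [frb_apply, ← hn] at h2
        exact h2
      have h3 : ∀ (j : Fin 6) (s : AlgebraicClosure (ZMod r)), xc e6T (sr j) s =
          xg hE6 (chevE6.simple j) s := by
        intro j s
        apply Subtype.ext
        rw [← vec_simple e6T j, coe_xc e6T (simple_lt e6T.inList (lt_rank e6T j))]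
        rfl
      rw [MulAut.mul_apply, h1, h3, h3]
      have h4 := gr_xg (L := AlgebraicClosure (ZMod r)) hE6 symmE6
        ⟨chevE6.simple i, FamTw.Frame.simple_lt6 i⟩ (s ^ q)
      rw [FamTw.Frame.simple_eps6, Int.cast_one, one_mul, FamTw.Frame.simple_map6] at h4
      exact h4
    have hchρ : ∀ i, ch e6T (sr (rho6 i)) t = ch e6T (sr i) t ^ q := by
      intro i
      have hri := isRoot_sr CoxeterMatrix.E₆.toCoxeterSystem e6T.isCartan i
      have hri' := isRoot_sr CoxeterMatrix.E₆.toCoxeterSystem e6T.isCartan (rho6 i)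
      have h1 := congrArg (sig6 (AlgebraicClosure (ZMod r)) r n) ((C.coord _ hri).act t ht 1)
      rw [map_mul, map_mul, map_inv, hσt, hσx, hσx, one_pow, (C.coord _ hri').act t ht 1, mul_one, mul_one] at h1
      exact (C.coord _ hri').inj h1
    have hρρ : ∀ i, rho6 (rho6 i) = i := by decide
    have hch : ∀ i, ∃ c : K, ch e6T (sr i) t = f c := by
      intro i
      have h1 := hchρ (rho6 i)
      rw [hρρ, hchρ, ← pow_mul, ← sq, ← hK] at h1
      obtain ⟨c, hc⟩ := BpExc.Emb.mem_range_of_pow f h1.symm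
      exact ⟨c, hc.symm⟩
    choose c hc using hch
    have hcρ : ∀ i, c (rho6 i) = φ0 (c i) := by
      intro i
      apply f.injective
      rw [← hc, hchρ, hc, hφ0, map_pow]
    have hk1 := S1054.result (F := AlgebraicClosure (ZMod r)) chevE6 (by simp)
    obtain ⟨g, hg⟩ := pow_mem_range hφ0 hqq f CoxeterMatrix.E₆.toCoxeterSystem hk r
      (center_eq_bot hk1.1 hk1.2) ht hc hcρ
    have h1 : y ∈ (em q f).range := by
      refine mem_of_pow_mem hyp (m := 3) ?_ ((Nat.coprime_primes hpp Nat.prime_three).2 hp3)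
      rw [e]
      exact pow_mem_of_split (N := (em q f).range) ⟨_, rfl⟩ (hconj t hσt) ⟨g, hg⟩
    obtain ⟨b, hb⟩ := h1
    refine ⟨b, MulEquiv.ext fun s => ?_⟩
    apply em_injective f
    rw [hxy, MulAut.conj_apply, map_mul, map_mul, map_inv, hb]

theorem exists_pow {K : Type} [Field K] [Fintype K] {q r m : ℕ} [hr : Fact r.Prime] [CharP K r] (hm : 0 < m)
    (hq : IsPrimePow q) (hK : Fintype.card K = q ^ m) : ∃ n, 0 < n ∧ q = r ^ n := by
  obtain ⟨s, n, hs, hn, h⟩ := (isPrimePow_nat_iff _).1 hq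
  obtain ⟨N, -, hN⟩ := FiniteField.card K r
  have h1 : s ∣ r ^ (N : ℕ) := by
    rw [← hN, hK, ← h, ← pow_mul]
    exact dvd_pow_self s (Nat.mul_pos hn hm).ne'
  have h2 : s = r := (Nat.prime_dvd_prime_iff_eq hs hr.out).1 (hs.dvd_of_dvd_pow h1)
  exact ⟨n, hn, by rw [← h, h2]⟩

/-- **`²E₆(q)`.** -/
theorem oddFix_iso {r : ℕ} (hr : r.Prime) {S : Type u} [Group S] {K : Type} [Field K] [Fintype K] [CharP K r] {q : ℕ}
    (hq : IsPrimePow q) (hK : Fintype.card K = q ^ 2) (e : S ≃* ↥(twistedE6 K q)) : H523.OddFix r S := by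
  have : Fact r.Prime := ⟨hr⟩
  obtain ⟨n, hn0, hn⟩ := exists_pow (r := r) (by norm_num : 0 < 2) hq hK
  exact H523.OddFix.congr e.symm (oddFix_twE6 hn0 hn hK)

end Cfsg.Agent.H522.FldSix
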