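import Cfsg.Agent.H522.FldElt
import Cfsg.Agent.H523.FpfBad
import Cfsg.Agent.BpExc.RowsUntw
import Cfsg.Agent.BpExc.EmbSplit

/-!
# `OddFix r S` for the exceptional Chevalley groups of characteristic `r` (helper522)

* `pow_mem_range` : a torus element of `D.group k` with characters in `F` has its `d`-th power in `D.group F`;
* `nonempty_E6` : an element of order dividing 3 of the torus of `E6` centralises a root group;
* `oddFix_of_fam`, `oddFix_exceptional`.
-/

set_option autoImplicit false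
set_option linter.unusedSectionVars false

namespace Cfsg.Agent.H522.FldUntw

open CoxeterSystem Subgroup Cfsg Cfsg.Lie Cfsg.Lie.ChevalleyDatum
open Cfsg.Agent.ChevalleyStructure Cfsg.Agent.ChevalleyStructure.Elts Cfsg.Agent.ChevalleyStructure.CoxeterGeom
  Cfsg.Agent.ChevalleyStructure.CoxeterGeomTypes Cfsg.Agent.ChevalleyStructure.NPerm
open Cfsg.Agent.Tits.Roots Cfsg.Agent.Tits.Core Cfsg.Agent.Nodes.BNOf
open Cfsg.Agent.CpAut.RgdUntw (SymTwo fld_xc symTwo_G2 symTwo_F4 symTwo_E6 symTwo_E7 symTwo_E8)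
open Cfsg.Agent.Nodes.RGDChev Cfsg.Agent.KFacts.RgdChevCoord Cfsg.Agent.GpExc.Field
open Cfsg.Agent.BpExc Cfsg.Agent.BpExc.TorCent Cfsg.Agent.BpExc.TowChev Cfsg.Agent.BpExc.FamUntw
  Cfsg.Agent.BpExc.FamInst Cfsg.Agent.BpExc.LangFr Cfsg.Agent.BpExc.FamField Cfsg.Agent.BpExc.FamExt
  Cfsg.Agent.BpExc.RowsUntw

universe u

/-! ### general lemmas -/

theorem pow_mem_of_split {Y : Type*} [Group Y] {N : Subgroup Y} {a t : Y} (ha : a ∈ N)
    (hn : ∀ b ∈ N, t * b * t⁻¹ ∈ N) {m : ℕ} (hm : t ^ m ∈ N) : (a * t) ^ m ∈ N := by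
  have hn' : ∀ j : ℕ, ∀ b ∈ N, t ^ j * b * (t ^ j)⁻¹ ∈ N := by
    intro j
    induction j with
    | zero => intro b hb; simpa using hb
    | succ j ih =>
      intro b hb
      have h1 := hn _ (ih b hb)
      have e : t ^ (j + 1) * b * (t ^ (j + 1))⁻¹ = t * (t ^ j * b * (t ^ j)⁻¹) * t⁻¹ := by
        rw [pow_succ']; group
      rwa [e]
  have key : ∀ j : ℕ, ∃ b ∈ N, (a * t) ^ j = b * t ^ j := by
    intro j
    induction j with
    | zero => exact ⟨1, one_mem _, by simp⟩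
    | succ j ih =>
      obtain ⟨b, hb, e⟩ := ih
      refine ⟨b * (t ^ j * a * (t ^ j)⁻¹), mul_mem hb (hn' j a ha), ?_⟩
      rw [pow_succ, e, pow_succ]
      group
  obtain ⟨b, hb, e⟩ := key m
  rw [e]
  exact mul_mem hb hm

/-- `y ^ p = 1`, `y ^ m ∈ N`, `p`, `m` coprime -/
theorem mem_of_pow_mem {Y : Type*} [Group Y] {N : Subgroup Y} {y : Y} {p m : ℕ} (hy : y ^ p = 1) (hm : y ^ m ∈ N)
    (hpm : p.Coprime m) : y ∈ N := by
  have h1 : (y ^ m) ^ ((m : ZMod p)⁻¹).val ∈ N := pow_mem hm _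
  have h2 := Nat.gcd_eq_gcd_ab p m
  rw [hpm.gcd_eq_one] at h2
  have h3 : y = (y ^ p) ^ (Nat.gcdA p m) * (y ^ m) ^ (Nat.gcdB p m) := by
    rw [← zpow_natCast, ← zpow_mul, ← zpow_natCast y m, ← zpow_mul, ← zpow_add, ← h2, Nat.cast_one, zpow_one]
  rw [h3, hy, one_zpow, one_mul]
  exact zpow_mem hm _

theorem cube {k : Type*} [Field k] {a b c : k} (ha : a ^ 3 = 1) (hb : b ^ 3 = 1) (hc : c ^ 3 = 1) (ha1 : a ≠ 1)
    (hb1 : b ≠ 1) (hc1 : c ≠ 1) (hab : a * b ≠ 1) (hbc : b * c ≠ 1) : a * b * c = 1 := by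
  have hq : ∀ x : k, x ^ 3 = 1 → x ≠ 1 → x ^ 2 + x + 1 = 0 := by
    intro x hx hx1
    have h1 : (x - 1) * (x ^ 2 + x + 1) = 0 := by linear_combination hx
    exact (mul_eq_zero.1 h1).resolve_left (sub_ne_zero.2 hx1)
  have hE : ∀ x y : k, x ^ 3 = 1 → y ^ 3 = 1 → x ≠ 1 → y ≠ 1 → x * y ≠ 1 → x = y := by
    intro x y hx hy hx1 hy1 hxy
    have h1 := hq x hx hx1
    have h2 := hq y hy hy1
    have h3 : (x - y) * (x + y + 1) = 0 := by linear_combination h1 - h2
    rcases mul_eq_zero.1 h3 with h4 | h4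
    · exact sub_eq_zero.1 h4
    · exfalso
      apply hxy
      have h5 : y = x ^ 2 := by linear_combination h4 - h1
      rw [h5]
      linear_combination hx
  have h1 := hE a b ha hb ha1 hb1 hab
  have h2 := hE b c hb hc hb1 hc1 hbc
  rw [h1, ← h2]
  linear_combination hb

/-- the values of an additive character -/
theorem phi_eq {l : ℕ} {k : Type*} [Field k] {φ : (Fin l → ℤ) → k} (h0 : φ 0 = 1)
    (hadd : ∀ x y, φ (x + y) = φ x * φ y) (x : Fin l → ℤ) : φ x = ∏ i, φ (sr i) ^ x i := by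
  have hne : ∀ x, φ x ≠ 0 := by
    intro x h
    have h1 := hadd x (-x)
    rw [add_neg_cancel, h0, h, zero_mul] at h1
    exact one_ne_zero h1
  have hneg : ∀ x, φ (-x) = (φ x)⁻¹ := by
    intro x
    have h1 := hadd x (-x)
    rw [add_neg_cancel, h0] at h1
    exact (inv_eq_of_mul_eq_one_right h1.symm).symm
  have hn : ∀ (n : ℕ) (x : Fin l → ℤ), φ (n • x) = φ x ^ n := by
    intro n x
    induction n with
    | zero => rw [zero_smul, pow_zero, h0]
    | succ n ih => rw [succ_nsmul, hadd, ih, pow_succ]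
  have hz : ∀ (n : ℤ) (x : Fin l → ℤ), φ (n • x) = φ x ^ n := by
    intro n x
    obtain ⟨m, rfl | rfl⟩ := n.eq_nat_or_neg
    · rw [natCast_zsmul, hn, zpow_natCast]
    · rw [neg_smul, natCast_zsmul, hneg, hn, zpow_neg, zpow_natCast]
  have hS : ∀ S : Finset (Fin l), φ (∑ i ∈ S, x i • sr i) = ∏ i ∈ S, φ (sr i) ^ x i := by
    classical
    intro S
    induction S using Finset.induction_on with
    | empty => rw [Finset.sum_empty, Finset.prod_empty, h0]
    | insert i S hi ih => rw [Finset.sum_insert hi, Finset.prod_insert hi, hadd, hz, ih]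
  have hx : x = ∑ i, x i • (sr i : Fin l → ℤ) := by
    funext j
    rw [Finset.sum_apply, Finset.sum_eq_single j]
    · rw [Pi.smul_apply, sr_self, smul_eq_mul, mul_one]
    · intro i _ hij
      rw [Pi.smul_apply, sr_ne hij.symm, smul_zero]
    · intro h
      exact absurd (Finset.mem_univ j) h
  conv_lhs => rw [hx]
  exact hS _

/-! ### the torus -/

section Tor

variable {D : ChevalleyDatum} {l : ℕ} {M : CoxeterMatrix (Fin l)} (hp : IsType D l M) {k : Type u} [Field k]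

include hp in
theorem eq_one_of_pow {r : ℕ} [Fact r.Prime] [CharP k r]
    {t : GL D.Idx k} (ht : t ∈ D.diagonalSubgroup k) {j : ℕ} (h : t ^ r ^ j = 1) : t = 1 := by
  obtain ⟨χ, hχ⟩ := HMatDiagAll.mem_torus.1 (HMatDiagAll.diagonalSubgroup_le_torus hp.inList ht)
  apply Units.ext
  have h1 := congrArg (fun g : GL D.Idx k => (g : Matrix D.Idx D.Idx k)) h
  simp only [Units.val_pow_eq_pow_val, hχ, Matrix.diagonal_pow, Units.val_one] at h1
  rw [hχ, Units.val_one, ← Matrix.diagonal_one]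
  congr 1
  funext i
  rw [← Matrix.diagonal_one] at h1
  have h2 := congrFun (Matrix.diagonal_injective h1) i
  rw [Pi.pow_apply] at h2
  apply sub_eq_zero.1
  refine pow_eq_zero_iff (pow_pos (Fact.out : r.Prime).pos j).ne' |>.1 ?_
  rw [sub_pow_char_pow, h2, one_pow, sub_self]

include hp in
theorem exists_coprime {r : ℕ} [Fact r.Prime] [CharP k r]
    {t : ↥(D.group k)} (ht : t ∈ TT D k) (hf : IsOfFinOrder t) : ∃ m : ℕ, m.Coprime r ∧ t ^ m = 1 := by
  have hr : r.Prime := Fact.out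
  obtain ⟨j, m, hm, e⟩ := Nat.exists_eq_pow_mul_and_not_dvd (orderOf_pos_iff.2 hf).ne' r hr.ne_one
  refine ⟨m, ((Nat.Prime.coprime_iff_not_dvd hr).2 hm).symm, ?_⟩
  have h1 : (t ^ m) ^ r ^ j = 1 := by
    rw [← pow_mul, mul_comm, ← e]
    exact pow_orderOf_eq_one t
  apply Subtype.ext
  refine eq_one_of_pow hp (t := ((t ^ m : ↥(D.group k)) : GL D.Idx k)) ?_ (j := j) (congrArg Subtype.val h1)
  exact Subgroup.mem_subgroupOf.1 (pow_mem ht m)

variable {W : Type*} [Group W] (cs : CoxeterSystem M W)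

include hp cs in
/-- A torus element with trivial characters is trivial. -/
theorem eq_one_of_ch (hk : LocFin k) (r : ℕ) [Fact r.Prime] [CharP k r] (hZ : center ↥(D.group k) = ⊥)
    {z : ↥(D.group k)} (hT : z ∈ TT D k) (hch : ∀ v, IsRoot cs hp.isCartan v → ch hp v z = 1) : z = 1 := by
  have hW := finite_W hp cs
  have C := coordsL (k := k) hp cs hk r
  have hcent : z ∈ center ↥(D.group k) := by
    rw [mem_center_iff]
    intro y
    have h1 : RGD.Sup (XX D l k) {x | IsRoot cs hp.isCartan x} ≤ centralizer ({z} : Set ↥(D.group k)) := by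
      refine RGD.Sup_le fun v hv w hw => ?_
      obtain ⟨a, rfl⟩ := ((C.coord v hv).mem w).1 hw
      rw [mem_centralizer_singleton_iff]
      have h2 := (C.coord v hv).act z hT a
      rw [hch v hv, one_mul, mul_inv_eq_iff_eq_mul] at h2
      exact h2.symm
    have h2 : y ∈ RGD.Sup (XX D l k) {x | IsRoot cs hp.isCartan x} := by
      have h3 : RGD.Sup (XX D l k) {x | IsRoot cs hp.isCartan x} = ⊤ := G1_eq_top hp cs
      rw [h3]
      exact mem_top y
    exact mem_centralizer_singleton_iff.1 (h1 h2)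
  rwa [hZ, mem_bot] at hcent

include hp in
theorem ch_pow {v : Fin l → ℤ} (hk : LocFin k) (r : ℕ) [Fact r.Prime] [CharP k r]
    (hv : IsRoot cs hp.isCartan v) {t : ↥(D.group k)} (ht : t ∈ TT D k) (m : ℕ) :
    ch hp v (t ^ m) = ch hp v t ^ m := by
  have hW := finite_W hp cs
  have C := coordsL (k := k) hp cs hk r
  induction m with
  | zero => 
    rw [pow_zero, pow_zero]
    exact (FldElt.Sx_one hp cs hk r hv).2
  | succ m ih => rw [pow_succ, (C.coord v hv).chi_mul (pow_mem ht m) ht, ih, pow_succ]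

variable {F : Type u} [Field F] (f : F →+* k)

include hp cs in
/-- **Torus elements with characters in `F`.** -/
theorem pow_mem_range {d : ℕ} {B : Fin l → Fin l → ℤ} (hB : InvC D l d B) (hd : d ≠ 0) (hk : LocFin k) (r : ℕ)
    [Fact r.Prime] [CharP k r] (hZ : center ↥(D.group k) = ⊥) {t : ↥(D.group k)} (ht : t ∈ TT D k)
    (hc : ∀ i, ∃ c : F, ch hp (sr i) t = f c) : ∃ g : ↥(D.group F), emb hp.inList f g = t ^ d := by
  have hW := finite_W hp cs
  have C := coordsL (k := k) hp cs hk r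
  choose c hc using hc
  have hc0 : ∀ i, c i ≠ 0 := by
    intro i h
    have h1 := (C.coord _ (isRoot_sr cs hp.isCartan i)).chi_ne_zero ht
    rw [hc, h, map_zero] at h1
    exact h1 rfl
  obtain ⟨a, ha0, ha⟩ := exists_sol (D := D) hB (fun i => c i ^ d) (fun i => pow_ne_zero _ (hc0 i))
    (fun i => ⟨c i, rfl⟩) hd
  obtain ⟨g, hgT, hg⟩ := exists_tor hp a ha0 Finset.univ
  refine ⟨g, ?_⟩
  have hgT' : emb hp.inList f g ∈ TT D k := emb_T hp f ⟨g, hgT, rfl⟩
  have h1 : ∀ s, s < D.nroots → ch hp (vec D l s) (emb hp.inList f g) = f (∏ i, (c i ^ d) ^ vec D l s i) := by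
    intro s hs
    apply ch_eq hp hs hgT'
    have h2 := congrArg (emb hp.inList f) (hg s hs 1)
    rw [map_mul, map_mul, map_inv, FamExt.emb_xc hp f hs, FamExt.emb_xc hp f hs, map_one, mul_one, ha] at h2
    exact h2
  obtain ⟨φ, h0, hadd, hφ⟩ := chAddL (k := k) hp cs hk r t ht
  have h2 : ∀ v, IsRoot cs hp.isCartan v → ch hp v (emb hp.inList f g) = ch hp v (t ^ d) := by
    intro v hv
    rw [ch_pow hp cs hk r hv ht, hφ v hv, phi_eq h0 hadd]
    obtain ⟨s, hs, rfl⟩ := (isRoot_iff hp cs v).1 hv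
    rw [h1 s hs, map_prod, ← Finset.prod_pow]
    refine Finset.prod_congr rfl fun i _ => ?_
    rw [← hφ _ (isRoot_sr cs hp.isCartan i), hc, map_zpow₀, map_pow, ← zpow_natCast, ← zpow_mul, ← zpow_natCast,
      ← zpow_mul, mul_comm]
  have h3 : (emb hp.inList f g)⁻¹ * t ^ d = 1 := by
    refine eq_one_of_ch hp cs hk r hZ (mul_mem (inv_mem hgT') (pow_mem ht d)) fun v hv => ?_
    have h4 := (C.coord v hv).chi_mul hgT' (mul_mem (inv_mem hgT') (pow_mem ht d))
    rw [mul_inv_cancel_left, ← h2 v hv] at h4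
    exact (mul_eq_left₀ ((C.coord v hv).chi_ne_zero hgT')).1 h4.symm
  exact inv_mul_eq_one.1 h3

end Tor

/-! ### the main theorem -/

section Main

variable {D : ChevalleyDatum} {l : ℕ} {M : CoxeterMatrix (Fin l)} (hp : IsType D l M)

theorem center_eq_bot {G : Type*} [Group G] (h1 : IsSimpleGroup G) (h2 : ¬ IsMulCommutative G) : center G = ⊥ := by
  refine KFacts.RgdLieCharP.center_eq_bot ?_
  by_contra hcon
  push Not at hcon
  exact h2 ⟨⟨hcon⟩⟩

include hp in
theorem oddFix_of_fam {r : ℕ} [Fact r.Prime] {F : Type} [Field F] [Fintype F] [CharP F r]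
    {d : ℕ} {B : Fin l → Fin l → ℤ} (hB : InvC D l d B) (hd : d ≠ 0) (hM : SymTwo M) (hl : Nonempty (Fin l))
    (hk1 : IsSimpleGroup ↥(D.group (AlgebraicClosure (ZMod r))) ∧
      ¬ IsMulCommutative ↥(D.group (AlgebraicClosure (ZMod r))))
    (hF1 : IsSimpleGroup ↥(D.group F) ∧ ¬ IsMulCommutative ↥(D.group F))
    (hend : ∀ p : ℕ, p.Prime → p ≠ 2 → ¬ p.Coprime d → ∀ t ∈ TT D (AlgebraicClosure (ZMod r)), t ^ p = 1 →
      (Sx M.toCoxeterSystem hp.isCartan (ch (K := AlgebraicClosure (ZMod r)) hp) t).Nonempty) :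
    H523.OddFix r ↥(D.group F) := by
  intro p hpp hp2 hpr x hx hfix
  have hpf : Fact p.Prime := ⟨hpp⟩
  obtain ⟨f⟩ := exists_emb r F
  obtain ⟨n, hn0, hn⟩ := exists_card (F := F) r
  have hk : LocFin (AlgebraicClosure (ZMod r)) := locFin_of_isAlgebraic r _
  have hfin := finite_phi (D := D) (k := AlgebraicClosure (ZMod r)) (r := r) hn0
  have hT : ∀ y : ↥(D.group (AlgebraicClosure (ZMod r))), y ^ p = 1 →
      ∃ z : ↥(D.group (AlgebraicClosure (ZMod r))), z * y * z⁻¹ ∈ TT D (AlgebraicClosure (ZMod r)) := by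
    intro y hy
    obtain ⟨z, hz⟩ := TorAll.exists_toral' hp r hpp hpr hy
    exact ⟨z⁻¹, by rwa [inv_inv]⟩
  have hfr := fun g => phi_frob (D := D) (k := AlgebraicClosure (ZMod r)) r n g
  have hq : Fintype.card F = r ^ n := by rw [← hn, Nat.card_eq_fintype_card]
  let φ : AlgebraicClosure (ZMod r) →+* AlgebraicClosure (ZMod r) :=
    ((frb (AlgebraicClosure (ZMod r)) r n : AlgebraicClosure (ZMod r) ≃+* AlgebraicClosure (ZMod r)) :
      AlgebraicClosure (ZMod r) →+* AlgebraicClosure (ZMod r))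
  have hφ : ∀ t, φ t = t ^ Fintype.card F := by
    intro t
    rw [hq]
    exact frb_apply _ r n t
  have hσφ : ∀ y : ↥(D.group (AlgebraicClosure (ZMod r))),
      ((phi D (AlgebraicClosure (ZMod r)) r n y : ↥(D.group (AlgebraicClosure (ZMod r)))) :
        GL D.Idx (AlgebraicClosure (ZMod r))) = glMap D φ (y : GL D.Idx (AlgebraicClosure (ZMod r))) := by
    intro y
    apply Units.ext
    rfl
  have hfixe : ∀ a, phi D (AlgebraicClosure (ZMod r)) r n (emb hp.inList f a) = emb hp.inList f a :=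
    fun a => Emb.emb_fix hp.inList hφ hσφ a
  -- the elements of `Y ^ σ`
  have hsplit : ∀ y : ↥(D.group (AlgebraicClosure (ZMod r))), phi D (AlgebraicClosure (ZMod r)) r n y = y →
      ∃ (a : ↥(D.group F)) (t : ↥(D.group (AlgebraicClosure (ZMod r)))), t ∈ TT D (AlgebraicClosure (ZMod r)) ∧
        y = emb hp.inList f a * t ∧ phi D (AlgebraicClosure (ZMod r)) r n t = t := by
    intro y hy
    have hy' : glMap D φ (y : GL D.Idx (AlgebraicClosure (ZMod r))) = y := by rw [← hσφ, hy]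
    obtain ⟨a, ha, t, ht, e⟩ := EmbSplit.untw_split hp.inList (Emb.fix_iff_range hφ) y.2 hy'
    have hta : t ∈ D.group (AlgebraicClosure (ZMod r)) := by
      have h1 : t = ((emb hp.inList f ⟨a, ha⟩ : ↥(D.group (AlgebraicClosure (ZMod r)))) :
          GL D.Idx (AlgebraicClosure (ZMod r)))⁻¹ * y := by
        rw [coe_emb]
        exact eq_inv_mul_of_mul_eq e.symm
      rw [h1]
      exact mul_mem (inv_mem (SetLike.coe_mem _)) y.2
    have e' : y = emb hp.inList f ⟨a, ha⟩ * ⟨t, hta⟩ := Subtype.ext e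
    refine ⟨⟨a, ha⟩, ⟨t, hta⟩, Subgroup.mem_subgroupOf.2 ht, e', ?_⟩
    have h1 := hy
    rw [e', map_mul, hfixe] at h1
    exact mul_left_cancel h1
  have hconj : ∀ t, phi D (AlgebraicClosure (ZMod r)) r n t = t → ∀ b ∈ (emb hp.inList f).range,
      t * b * t⁻¹ ∈ (emb hp.inList f).range :=
    fun t hσt b hb => Emb.conj_mem_range hp.inList (f := f) hφ hσφ hσt hb
  have hr : ∀ y : ↥(D.group (AlgebraicClosure (ZMod r))), phi D (AlgebraicClosure (ZMod r)) r n y = y →
      y ^ r = 1 → ∃ a, emb hp.inList f a = y := by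
    intro y hy hyr
    obtain ⟨a, t, ht, e, hσt⟩ := hsplit y hy
    have hft : IsOfFinOrder t := by
      have h1 : IsOfFinOrder (⟨t, hσt⟩ : ↥(fixedSubgroup (phi D (AlgebraicClosure (ZMod r)) r n))) :=
        isOfFinOrder_of_finite _
      exact (fixedSubgroup (phi D (AlgebraicClosure (ZMod r)) r n)).subtype.isOfFinOrder h1
    obtain ⟨m, hm, hm1⟩ := exists_coprime hp ht hft
    refine mem_of_pow_mem (N := (emb hp.inList f).range) hyr (m := m) ?_ hm.symm
    rw [e]
    exact pow_mem_of_split (N := (emb hp.inList f).range) ⟨_, rfl⟩ (hconj t hσt) (by rw [hm1]; exact one_mem _)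
  obtain ⟨y, z, hyp, hσy, hxy, hz, hSx⟩ := FldElt.main hp M.toCoxeterSystem hk hl hT hn0 (phi_isFrob r n)
    (phi_fr hp M.toCoxeterSystem r hk n) (emb hp.inList f) (emb_injective hp.inList f) hr
    (fun x hx => fam hp hk f r M.toCoxeterSystem hB hd hM hk1 hF1 hpp hp2 hn hfr x hx) hx hfix
  by_cases hpd : p.Coprime d
  · -- `y ∈ D.group F`
    obtain ⟨a, t, ht, e, hσt⟩ := hsplit y hσy
    have hW := finite_W hp M.toCoxeterSystem
    have C := coordsL (k := AlgebraicClosure (ZMod r)) hp M.toCoxeterSystem hk r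
    have hch : ∀ i, ∃ c : F, ch hp (sr i) t = f c := by
      intro i
      have hri := isRoot_sr M.toCoxeterSystem hp.isCartan i
      have h1 := (C.coord _ hri).act t ht 1
      have h2 := congrArg (phi D (AlgebraicClosure (ZMod r)) r n) h1
      have h3 : ∀ s, phi D (AlgebraicClosure (ZMod r)) r n (xc hp (sr i) s) =
          xc hp (sr i) (frb (AlgebraicClosure (ZMod r)) r n s) := by
        intro s
        rw [← vec_simple hp i]
        exact fld_xc hp _ (simple_lt hp.inList (lt_rank hp i)) s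
      rw [map_mul, map_mul, map_inv, hσt, h3, h3, map_one, h1] at h2
      have h4 := (C.coord _ hri).inj h2
      rw [mul_one] at h4
      obtain ⟨c, hc⟩ := (Emb.fix_iff_range (f := f) hφ (ch hp (sr i) t)).1 h4.symm
      exact ⟨c, hc.symm⟩
    obtain ⟨g, hg⟩ := pow_mem_range hp M.toCoxeterSystem f hB hd hk r (center_eq_bot hk1.1 hk1.2) ht hch
    have h1 : y ∈ (emb hp.inList f).range := by
      refine mem_of_pow_mem hyp (m := d) ?_ hpd
      rw [e]
      exact pow_mem_of_split (N := (emb hp.inList f).range) ⟨_, rfl⟩ (hconj t hσt) ⟨g, hg⟩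
    obtain ⟨b, hb⟩ := h1
    refine ⟨b, MulEquiv.ext fun s => ?_⟩
    apply emb_injective hp.inList f
    rw [hxy, MulAut.conj_apply, map_mul, map_mul, map_inv, hb]
  · exfalso
    have h1 : (z * y * z⁻¹) ^ p = 1 := by rw [conj_pow, hyp]; group
    have h2 := hend p hpp hp2 hpd _ hz h1
    rw [hSx] at h2
    exact Set.not_nonempty_empty h2

end Main

/-! ### E6, `p = 3` -/

section E6

variable {k : Type u} [Field k] {W : Type*} [Group W]

/-- **An element of order 3 of the torus of `E6` centralises a root group.** -/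
theorem nonempty_E6 (hk : LocFin k) (r : ℕ) [Fact r.Prime] [CharP k r] (cs : CoxeterSystem CoxeterMatrix.E₆ W)
    {t : ↥(chevE6.group k)} (ht : t ∈ TT chevE6 k) (h3 : t ^ 3 = 1) :
    (Sx cs e6T.isCartan (ch (K := k) e6T) t).Nonempty := by
  have hW := finite_W e6T cs
  obtain ⟨φ, h0, hadd, hφ⟩ := chAddL (k := k) e6T cs hk r t ht
  have hr : ∀ v, (∃ s < chevE6.nroots, vec chevE6 6 s = v) → IsRoot cs e6T.isCartan v :=
    fun v hv => (isRoot_iff e6T cs v).2 hv
  have hr0 : IsRoot cs e6T.isCartan (sr 0) := isRoot_sr cs _ 0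
  have hr2 : IsRoot cs e6T.isCartan (sr 2) := isRoot_sr cs _ 2
  have hr3 : IsRoot cs e6T.isCartan (sr 3) := isRoot_sr cs _ 3
  have hr02 : IsRoot cs e6T.isCartan (sr 0 + sr 2) := hr _ (by decide +kernel)
  have hr23 : IsRoot cs e6T.isCartan (sr 2 + sr 3) := hr _ (by decide +kernel)
  have hr023 : IsRoot cs e6T.isCartan (sr 0 + sr 2 + sr 3) := hr _ (by decide +kernel)
  have hcube : ∀ v, IsRoot cs e6T.isCartan v → φ v ^ 3 = 1 := by
    intro v hv
    rw [← hφ v hv, ← ch_pow e6T cs hk r hv ht, h3]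
    exact (FldElt.Sx_one e6T cs hk r hv).2
  by_contra hne
  rw [Set.not_nonempty_iff_eq_empty] at hne
  have hn1 : ∀ v, IsRoot cs e6T.isCartan v → φ v ≠ 1 := by
    intro v hv h
    have h1 : v ∈ Sx cs e6T.isCartan (ch (K := k) e6T) t := ⟨hv, by rw [hφ v hv, h]⟩
    rw [hne] at h1
    exact h1
  refine hn1 _ hr023 ?_
  rw [hadd, hadd]
  refine cube (hcube _ hr0) (hcube _ hr2) (hcube _ hr3) (hn1 _ hr0) (hn1 _ hr2) (hn1 _ hr3) ?_ ?_
  · rw [← hadd]; exact hn1 _ hr02
  · rw [← hadd]; exact hn1 _ hr23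

end E6

/-! ### the rows -/

/-- **The exceptional Chevalley groups.** -/
theorem oddFix_exceptional {r : ℕ} (hr : r.Prime) {S : Type u} [Group S] (h : IsExceptionalChevChar r S) :
    H523.OddFix r S := by
  have : Fact r.Prime := ⟨hr⟩
  have hk : LocFin (AlgebraicClosure (ZMod r)) := locFin_of_isAlgebraic r _
  have hcop : ∀ {p d : ℕ}, p.Prime → ¬ p.Coprime d → p ∣ d := fun hp h => by
    by_contra hcon
    exact h ((Nat.Prime.coprime_iff_not_dvd hp).2 hcon)
  obtain ⟨F, _, _, _, h | h | h | h | h⟩ := h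
  · obtain ⟨h3, ⟨e⟩⟩ := h
    refine H523.OddFix.congr e.symm (oddFix_of_fam g2T inv_G2 one_ne_zero symTwo_G2 ⟨0⟩
      (S1055.result (exists_ne_algClosed _)) (S1055.result (exists_ne h3)) fun p hp hp2 hpd => ?_)
    exact absurd (Nat.coprime_one_right p) hpd
  · obtain ⟨e⟩ := h
    refine H523.OddFix.congr e.symm (oddFix_of_fam f4T inv_F4 one_ne_zero symTwo_F4 ⟨0⟩
      (S1054.result chevF4 (by simp)) (S1054.result chevF4 (by simp)) fun p hp hp2 hpd => ?_)
    exact absurd (Nat.coprime_one_right p) hpd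
  · obtain ⟨e⟩ := h
    refine H523.OddFix.congr e.symm (oddFix_of_fam e6T inv_E6 three_ne_zero symTwo_E6 ⟨0⟩
      (S1054.result chevE6 (by simp)) (S1054.result chevE6 (by simp)) fun p hp hp2 hpd t ht htp => ?_)
    have h1 : p = 3 := (Nat.prime_dvd_prime_iff_eq hp Nat.prime_three).1 (hcop hp hpd)
    rw [h1] at htp
    exact nonempty_E6 hk r _ ht htp
  · obtain ⟨e⟩ := h
    refine H523.OddFix.congr e.symm (oddFix_of_fam e7T inv_E7 two_ne_zero symTwo_E7 ⟨0⟩
      (S1054.result chevE7 (by simp)) (S1054.result chevE7 (by simp)) fun p hp hp2 hpd => ?_)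
    exact absurd ((Nat.prime_dvd_prime_iff_eq hp Nat.prime_two).1 (hcop hp hpd)) hp2
  · obtain ⟨e⟩ := h
    refine H523.OddFix.congr e.symm (oddFix_of_fam e8T inv_E8 one_ne_zero symTwo_E8 ⟨0⟩
      (S1054.result chevE8 (by simp)) (S1054.result chevE8 (by simp)) fun p hp hp2 hpd => ?_)
    exact absurd (Nat.coprime_one_right p) hpd

end Cfsg.Agent.H522.FldUntw
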