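import Cfsg.Agent.H522.FpfCont

/-!
# `PSU_m(q)`, `m` odd, and `SL_2(q^m)`, `m` even, in orthogonal groups (helper522)

* `exists_psu` : `Cont Q m`, `m ≥ 3` odd: `May r (PΩ(Q)) → May r (PSU_m(q))`;
-/

set_option autoImplicit false
set_option linter.unusedSectionVars false
set_option linter.style.haveILetI false

namespace Cfsg.Agent.H522.FpfEmb

open QuadraticMap Cfsg
open Cfsg.Agent.LieClassical.OrthCore Cfsg.Agent.LieClassical.OrthForms Cfsg.Agent.H182.Sign Cfsg.Agent.H80.Fpf
open Cfsg.Agent.ClassicalGeometry.Reflection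

section SU

variable {F : Type} [Field F] [Finite F] {K : Type} [Field K] [Finite K] [Algebra F K]

/-- The natural action of `SU_m` over the fixed field. -/
noncomputable def suRep (F : Type) [Field F] [Finite F] (K : Type) [Field K] [Algebra F K] (m : ℕ) :
    Cfsg.SU m K (Nat.card F) →* Module.End F (Fin m → K) where
  toFun g := (Matrix.toLin' (g.1.1 : Matrix (Fin m) (Fin m) K)).restrictScalars F
  map_one' := by
    ext v i
    simp
  map_mul' g h := by
    apply LinearMap.ext
    intro v
    change Matrix.toLin' ((g * h).1.1) v = Matrix.toLin' (g.1.1) (Matrix.toLin' (h.1.1) v)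
    have h1 : (g * h).1.1 = g.1.1 * h.1.1 := rfl
    rw [h1, Matrix.toLin'_mul]
    rfl

theorem suRep_apply (m : ℕ) (g : Cfsg.SU m K (Nat.card F)) (v : Fin m → K) :
    suRep F K m g v = (g.1.1 : Matrix (Fin m) (Fin m) K).mulVec v := rfl

theorem algebraMap_piForm (h2 : Module.finrank F K = 2) (m : ℕ) (v : Fin m → K) :
    algebraMap F K (piForm (normForm F K) m v) = Cfsg.hermForm m K (Nat.card F) v v := by
  rw [piForm_apply, map_sum, Cfsg.hermForm]
  apply Finset.sum_congr rfl
  intro i _
  rw [algebraMap_normForm h2, frob_apply]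

theorem suRep_iso (h2 : Module.finrank F K = 2) (m : ℕ) (g : Cfsg.SU m K (Nat.card F)) (v : Fin m → K) :
    piForm (normForm F K) m (suRep F K m g v) = piForm (normForm F K) m v := by
  apply (algebraMap F K).injective
  rw [algebraMap_piForm h2, algebraMap_piForm h2, suRep_apply]
  exact g.2 v v

theorem suRep_ker (m : ℕ) (g : Cfsg.SU m K (Nat.card F)) (h : suRep F K m g = 1) : g = 1 := by
  apply Subtype.ext
  apply Subtype.ext
  have h1 : Matrix.toLin' (g.1.1 : Matrix (Fin m) (Fin m) K) = Matrix.toLin' 1 := by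
    apply LinearMap.ext
    intro v
    have h3 := LinearMap.congr_fun h v
    rw [Matrix.toLin'_one]
    exact h3
  exact Matrix.toLin'.injective h1

end SU

/-- **`PSU_m(q)` in `PΩ(Q)`.** -/
theorem exists_psu (F : Type) [Field F] [Finite F] {m : ℕ} (hm : Odd m) (hm3 : 3 ≤ m)
    (h32 : ¬ (m = 3 ∧ Nat.card F = 2)) :
    ∃ (K : Type) (_ : Field K) (_ : Fintype K), Fintype.card K = Nat.card F ^ 2 ∧
      ∀ {ι : Type} [Fintype ι] [DecidableEq ι] (Q : QuadraticForm F (ι → F)), Cont Q m → ∀ {r : ℕ},
        May r (Cfsg.POmega F ⇑Q) → May r (Cfsg.PSU m K (Nat.card F)) := by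
  obtain ⟨p, hp⟩ := CharP.exists F
  haveI : Fact (Nat.Prime p) := ⟨CharP.char_is_prime F p⟩
  let K := FiniteField.Extension F p 2
  letI := Fintype.ofFinite K
  have h2 : Module.finrank F K = 2 := FiniteField.finrank_extension F p 2
  have hcard : Fintype.card K = Nat.card F ^ 2 := by
    rw [← Nat.card_eq_fintype_card]
    exact FiniteField.natCard_extension F p 2
  refine ⟨K, inferInstance, inferInstance, hcard, ?_⟩
  intro ι _ _ Q hC r hM
  have hP := sg_pi (sg_normForm h2) m
  rw [hm.neg_one_pow, mul_one] at hP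
  exact hC.may hP (suRep F K m) (suRep_iso h2 m) (fun g hg => by
    rw [suRep_ker m g hg]
    exact one_mem _) (Cfsg.Agent.LieClassical.HermPerfect.commutator_SU_eq_top hcard hm3 h32) hM

end Cfsg.Agent.H522.FpfEmb
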