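import Cfsg.Agent.H522.FpfEmbSL
import Cfsg.Agent.H522.FpfEmbSU

/-!
# Fixed point free primes of orthogonal groups and of `PSL_2(q^m)`, `PSU_m(q)` (helper522, task 1490)

For `X` the group `PΩ_{2m+1}(q)` (`q` odd), `PΩ^-_{2m}(q)` or `PΩ^+_{2m+2}(q)`:
`May r X → May r (PSL_2(q^m))` for even `m`, `May r X → May r (PSU_m(q))` for odd `m ≥ 3`, `(m, q) ≠ (3, 2)`.
-/

set_option autoImplicit false

namespace Cfsg.Agent.H522.FpfEmb

open QuadraticMap Cfsg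
open Cfsg.Agent.LieClassical.OrthForms Cfsg.Agent.H182.Sign Cfsg.Agent.H80.Fpf

variable (F : Type) [Field F] [Fintype F]

theorem two_ne_zero_of_odd (hodd : Odd (Fintype.card F)) : (2 : F) ≠ 0 := by
  intro h
  haveI : CharP F 2 := CharTwo.of_one_ne_zero_of_two_eq_zero one_ne_zero h
  have h1 : 2 ∣ Fintype.card F := by
    have h2 := FiniteField.cast_card_eq_zero F
    exact (CharP.cast_eq_zero_iff F 2 _).1 h2
  exact (Nat.not_even_iff_odd.2 hodd) (even_iff_two_dvd.2 h1)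

theorem odd_psl {m : ℕ} (hm : Even m) (hm2 : 2 ≤ m) (hodd : Odd (Fintype.card F)) :
    ∃ (K : Type) (_ : Field K) (_ : Fintype K), Fintype.card K = Fintype.card F ^ m ∧ ∀ {r : ℕ},
      May r (Cfsg.POmega F (Cfsg.quadFormOdd m F)) → May r (Matrix.ProjectiveSpecialLinearGroup (Fin 2) K) := by
  obtain ⟨K, i1, i2, hK, h⟩ := exists_psl F hm hm2
  rw [Nat.card_eq_fintype_card] at hK
  refine ⟨K, i1, i2, hK, fun {r} hM => ?_⟩
  obtain ⟨k, rfl⟩ : ∃ k, m = k + 1 := ⟨m - 1, by omega⟩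
  exact h (oddForm (k + 1) F) (cont_odd (two_ne_zero_of_odd F hodd) k) (by rwa [coe_oddForm])

theorem odd_psu {m : ℕ} (hm : Odd m) (hm3 : 3 ≤ m) (hodd : Odd (Fintype.card F)) :
    ∃ (K : Type) (_ : Field K) (_ : Fintype K), Fintype.card K = Fintype.card F ^ 2 ∧ ∀ {r : ℕ},
      May r (Cfsg.POmega F (Cfsg.quadFormOdd m F)) → May r (Cfsg.PSU m K (Fintype.card F)) := by
  obtain ⟨K, i1, i2, hK, h⟩ := exists_psu F hm hm3 (by
    rintro ⟨-, h⟩
    rw [Nat.card_eq_fintype_card] at h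
    rw [h] at hodd
    exact absurd hodd (by decide))
  rw [Nat.card_eq_fintype_card] at hK h
  refine ⟨K, i1, i2, hK, fun {r} hM => ?_⟩
  obtain ⟨k, rfl⟩ : ∃ k, m = k + 1 := ⟨m - 1, by omega⟩
  exact h (oddForm (k + 1) F) (cont_odd (two_ne_zero_of_odd F hodd) k) (by rwa [coe_oddForm])

theorem minus_psl {m : ℕ} (hm : Even m) (hm2 : 2 ≤ m) (a b : F)
    (hab : ∀ z₁ z₂ : F, z₁ ^ 2 + a * z₁ * z₂ + b * z₂ ^ 2 = 0 → z₁ = 0 ∧ z₂ = 0) :
    ∃ (K : Type) (_ : Field K) (_ : Fintype K), Fintype.card K = Fintype.card F ^ m ∧ ∀ {r : ℕ},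
      May r (Cfsg.POmega F (Cfsg.quadFormMinus (m - 1) F a b)) →
        May r (Matrix.ProjectiveSpecialLinearGroup (Fin 2) K) := by
  obtain ⟨K, i1, i2, hK, h⟩ := exists_psl F hm hm2
  rw [Nat.card_eq_fintype_card] at hK
  refine ⟨K, i1, i2, hK, fun {r} hM => ?_⟩
  obtain ⟨k, rfl⟩ : ∃ k, m = k + 1 := ⟨m - 1, by omega⟩
  rw [Nat.add_sub_cancel] at hM
  exact h (minusForm k F a b) (cont_minus hab) (by rwa [coe_minusForm])

theorem minus_psu {m : ℕ} (hm : Odd m) (hm3 : 3 ≤ m) (h32 : ¬ (m = 3 ∧ Fintype.card F = 2)) (a b : F)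
    (hab : ∀ z₁ z₂ : F, z₁ ^ 2 + a * z₁ * z₂ + b * z₂ ^ 2 = 0 → z₁ = 0 ∧ z₂ = 0) :
    ∃ (K : Type) (_ : Field K) (_ : Fintype K), Fintype.card K = Fintype.card F ^ 2 ∧ ∀ {r : ℕ},
      May r (Cfsg.POmega F (Cfsg.quadFormMinus (m - 1) F a b)) → May r (Cfsg.PSU m K (Fintype.card F)) := by
  obtain ⟨K, i1, i2, hK, h⟩ := exists_psu F hm hm3 (by rwa [Nat.card_eq_fintype_card])
  rw [Nat.card_eq_fintype_card] at hK h
  refine ⟨K, i1, i2, hK, fun {r} hM => ?_⟩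
  obtain ⟨k, rfl⟩ : ∃ k, m = k + 1 := ⟨m - 1, by omega⟩
  rw [Nat.add_sub_cancel] at hM
  exact h (minusForm k F a b) (cont_minus hab) (by rwa [coe_minusForm])

theorem plus_psl {m : ℕ} (hm : Odd m) (hm2 : 3 ≤ m) :
    ∃ (K : Type) (_ : Field K) (_ : Fintype K), Fintype.card K = Fintype.card F ^ (m - 1) ∧ ∀ {r : ℕ},
      May r (Cfsg.POmega F (Cfsg.quadFormPlus m F)) → May r (Matrix.ProjectiveSpecialLinearGroup (Fin 2) K) := by
  obtain ⟨k, rfl⟩ : ∃ k, m = k + 1 := ⟨m - 1, by omega⟩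
  have hk : Even k := by
    rw [Nat.odd_add] at hm
    by_contra h
    exact absurd (hm.1 (Nat.not_even_iff_odd.1 h)) (by decide)
  obtain ⟨K, i1, i2, hK, h⟩ := exists_psl F hk (by omega)
  rw [Nat.card_eq_fintype_card] at hK
  refine ⟨K, i1, i2, by rw [hK, Nat.add_sub_cancel], fun {r} hM => ?_⟩
  exact h (plusForm (k + 1) F) (cont_plus (by omega)) (by rwa [coe_plusForm])

theorem plus_psu {m : ℕ} (hm : Even m) (hm3 : 4 ≤ m) (h32 : ¬ (m = 4 ∧ Fintype.card F = 2)) :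
    ∃ (K : Type) (_ : Field K) (_ : Fintype K), Fintype.card K = Fintype.card F ^ 2 ∧ ∀ {r : ℕ},
      May r (Cfsg.POmega F (Cfsg.quadFormPlus m F)) → May r (Cfsg.PSU (m - 1) K (Fintype.card F)) := by
  obtain ⟨k, rfl⟩ : ∃ k, m = k + 1 := ⟨m - 1, by omega⟩
  have hk : Odd k := by
    rw [Nat.even_add_one] at hm
    exact Nat.not_even_iff_odd.1 hm
  obtain ⟨K, i1, i2, hK, h⟩ := exists_psu F hk (by omega) (by
    rw [Nat.card_eq_fintype_card]
    rintro ⟨h1, h2⟩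
    exact h32 ⟨by omega, h2⟩)
  rw [Nat.card_eq_fintype_card] at hK h
  rw [Nat.add_sub_cancel]
  refine ⟨K, i1, i2, hK, fun {r} hM => ?_⟩
  exact h (plusForm (k + 1) F) (cont_plus (by omega)) (by rwa [coe_plusForm])

end Cfsg.Agent.H522.FpfEmb
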