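import Cfsg.Agent.H522.FpfSing
import Cfsg.Agent.H522.FpfEmbFin
import Cfsg.Agent.H200.RowOrthL
import Cfsg.Agent.H80.Fpf.RowL2
import Cfsg.Agent.H80.Fpf.Reduce
import Cfsg.Agent.H700.FpfPsu.Main
import Cfsg.Agent.ClassicalGeometry.PSL2Basic
import Cfsg.Agent.S0280
import Cfsg.Agent.S0296
import Cfsg.Agent.S2096
import Cfsg.Agent.S2097

/-!
# Fixed point free primes: the row `POmega^+_{2m}(q)` (helper522, task 1482)
-/

set_option autoImplicit false
set_option linter.unusedSectionVars false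
set_option linter.style.haveILetI false

namespace Cfsg.Agent.H522.FpfRowPlus

open QuadraticMap Module Cfsg Cfsg.Agent.LieClassical.OrthCore Cfsg.Agent.LieClassical.OrthTrans
open Cfsg.Agent.ClassicalGeometry.OrthSemi Cfsg.Agent.ClassicalGeometry.OrthAut1 Cfsg.Agent.AutOrth.Main
open Cfsg.Agent.H200.LinFix Cfsg.Agent.H200.RowOrth Cfsg.Agent.LieClassical.QuadForms Cfsg.Agent.H522.FpfSing
open Cfsg.Agent.H80

universe v w

theorem multDvd_of_equiv {S : Type v} [Group S] {T : Type w} [Group T] (e : S ≃* T) {m : ℕ} (h : Fpf.MultDvd S m) :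
    Fpf.MultDvd T m := by
  intro G _ _ π hπ
  have h1 := h G (e.symm.toMonoidHom.comp π) (hπ.equiv_comp e.symm)
  have h2 : (e.symm.toMonoidHom.comp π).ker = π.ker := by
    ext g
    rw [MonoidHom.mem_ker, MonoidHom.mem_ker]
    change e.symm (π g) = 1 ↔ _
    rw [map_eq_one_iff e.symm e.symm.injective]
  rwa [h2] at h1

section

variable {F : Type} [Field F] [Fintype F] {m : ℕ}

theorem mult_plus (hm : 4 ≤ m) (heven : Even (Fintype.card F)) (hex : ¬ (m = 4 ∧ Fintype.card F = 2)) :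
    Fpf.MultDvd (Cfsg.POmega F (Cfsg.quadFormPlus m F)) 1 := by
  have hq : 1 ≤ Fintype.card F := Fintype.card_pos
  have hodd : Odd (Fintype.card F ^ m - 1) := by
    apply Nat.Even.sub_odd (Nat.one_le_pow _ _ hq) _ odd_one
    exact (Nat.even_pow.2 ⟨heven, by omega⟩)
  rcases Nat.even_or_odd m with h | h
  · have h1 := S2097.result (F := F) rfl m hm h hex
    have h2 : Nat.gcd 2 (Fintype.card F ^ m - 1) = 1 := (Nat.coprime_two_left).2 hodd
    rw [h2] at h1
    have h3 := Fpf.multDvd_of h1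
    have h4 : Nat.card (Multiplicative (ZMod 1 × ZMod 1)) = 1 := by
      rw [Nat.card_congr Multiplicative.toAdd, Nat.card_prod, Nat.card_zmod]
    rwa [h4] at h3
  · have h5 : 5 ≤ m := by
      rcases h with ⟨k, hk⟩
      omega
    have h1 := S2096.result (F := F) rfl m h5 h
    have h2 : Nat.gcd 4 (Fintype.card F ^ m - 1) = 1 := by
      have h3 : Nat.Coprime (2 ^ 2) (Fintype.card F ^ m - 1) := Nat.Coprime.pow_left 2 ((Nat.coprime_two_left).2 hodd)
      exact h3
    rw [h2] at h1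
    exact Fpf.multDvd_of_cyclic one_ne_zero h1

/-- `r` divides the order of the stabiliser of a singular vector. -/
theorem exists_fix (hm : 4 ≤ m) {r : ℕ} (hr : r.Prime) (hr2 : r ≠ 2)
    (hd : r ∣ (Nat.card F ^ (m - 1) - 1) * ∏ i ∈ Finset.range (m - 2), (Nat.card F ^ (2 * (i + 1)) - 1)) :
    ∃ (y : ↥(E (plusForm m F))) (u : Fin m ⊕ Fin m → F), y ^ r = 1 ∧ y ≠ 1 ∧ plusForm m F u = 0 ∧ u ≠ 0 ∧
      (y : (Fin m ⊕ Fin m → F) ≃ₗ[F] (Fin m ⊕ Fin m → F)) u = u := by
  have hG : Good (plusForm m F) := good_plus (by omega)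
  haveI : Finite ↥(E (plusForm m F)) := finite_E
  haveI : Fact r.Prime := ⟨hr⟩
  obtain ⟨u, hu0, hu⟩ := hG.sing
  let H : Subgroup ↥(E (plusForm m F)) :=
    { carrier := {g | (g : (Fin m ⊕ Fin m → F) ≃ₗ[F] (Fin m ⊕ Fin m → F)) u = u}
      mul_mem' := fun {a b} ha hb => by
        change (a : (Fin m ⊕ Fin m → F) ≃ₗ[F] (Fin m ⊕ Fin m → F))
          ((b : (Fin m ⊕ Fin m → F) ≃ₗ[F] (Fin m ⊕ Fin m → F)) u) = u
        rw [hb, ha]
      one_mem' := rfl
      inv_mem' := fun {a} ha => by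
        change (a : (Fin m ⊕ Fin m → F) ≃ₗ[F] (Fin m ⊕ Fin m → F)).symm u = u
        rw [LinearEquiv.symm_apply_eq]
        exact ha.symm }
  have h1 := card_stabilizer hG hu hu0
  rw [card_sing (by omega : 1 ≤ m), Nat.add_sub_cancel] at h1
  have h2 := card_mul (F := F) hm
  have h3 := Subgroup.card_eq_card_quotient_mul_card_subgroup (Subgroup.center ↥(E (plusForm m F)))
  have hq : 1 < Nat.card F := by rw [Nat.card_eq_fintype_card]; exact Fintype.one_lt_card
  have hA : 0 < Nat.card F ^ m - 1 := Nat.sub_pos_of_lt (Nat.one_lt_pow (by omega) hq)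
  have hprod : ∏ i ∈ Finset.range (m - 1), (Nat.card F ^ (2 * (i + 1)) - 1) =
      (∏ i ∈ Finset.range (m - 2), (Nat.card F ^ (2 * (i + 1)) - 1)) *
        ((Nat.card F ^ (m - 1) - 1) * (Nat.card F ^ (m - 1) + 1)) := by
    obtain ⟨k, rfl⟩ : ∃ k, m = k + 2 := ⟨m - 2, by omega⟩
    rw [show k + 2 - 1 = k + 1 by omega, show k + 2 - 2 = k by omega, Finset.prod_range_succ]
    congr 1
    have h4 := Nat.sq_sub_sq (Nat.card F ^ (k + 1)) 1
    rw [one_pow, ← pow_mul, mul_comm (k + 1) 2] at h4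
    rw [h4, mul_comm]
  rw [hprod] at h2
  have key : Nat.gcd 4 (Fintype.card F ^ m - 1) * Nat.card H = Nat.card F ^ (m * (m - 1)) *
      ((Nat.card F ^ (m - 1) - 1) * ∏ i ∈ Finset.range (m - 2), (Nat.card F ^ (2 * (i + 1)) - 1)) *
        Nat.card (Subgroup.center ↥(E (plusForm m F))) := by
    have h5 : 0 < (Nat.card F ^ m - 1) * (Nat.card F ^ (m - 1) + 1) := Nat.mul_pos hA (Nat.succ_pos _)
    apply Nat.eq_of_mul_eq_mul_left h5
    have h6 : (Nat.card F ^ m - 1) * (Nat.card F ^ (m - 1) + 1) * Nat.card H = Nat.card ↥(E (plusForm m F)) := h1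
    calc (Nat.card F ^ m - 1) * (Nat.card F ^ (m - 1) + 1) * (Nat.gcd 4 (Fintype.card F ^ m - 1) * Nat.card H)
        = Nat.gcd 4 (Fintype.card F ^ m - 1) * ((Nat.card F ^ m - 1) * (Nat.card F ^ (m - 1) + 1) * Nat.card H) := by
          ring
      _ = Nat.gcd 4 (Fintype.card F ^ m - 1) * Nat.card (P (plusForm m F)) *
          Nat.card (Subgroup.center ↥(E (plusForm m F))) := by rw [h6, h3, mul_assoc]
      _ = _ := by rw [h2]; ring
  have h7 : r ∣ Nat.gcd 4 (Fintype.card F ^ m - 1) * Nat.card H := by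
    rw [key]
    exact (hd.mul_left _).mul_right _
  have h8 : r ∣ Nat.card H := by
    rcases hr.dvd_mul.1 h7 with h | h
    · exfalso
      have h9 : r ∣ 2 ^ 2 := h.trans (Nat.gcd_dvd_left _ _)
      exact hr2 ((Nat.prime_dvd_prime_iff_eq hr Nat.prime_two).1 (hr.dvd_of_dvd_pow h9))
    · exact h
  obtain ⟨y, hy⟩ := exists_prime_orderOf_dvd_card' r h8
  refine ⟨y, u, ?_, ?_, hu, hu0, y.2⟩
  · have h9 := congrArg Subtype.val (pow_orderOf_eq_one y)
    rw [hy] at h9
    exact h9
  · intro h9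
    have h10 : y = 1 := Subtype.ext h9
    rw [h10, orderOf_one] at hy
    exact hr.one_lt.ne hy

theorem finrank_plus : finrank F (Fin m ⊕ Fin m → F) = 2 * m := by
  rw [Module.finrank_fintype_fun_eq_card]
  simp
  omega

/-- **All primes but the divisors of `q^(m-1) + 1` not dividing `q^2 - 1`.** -/
theorem not_may (hm : 4 ≤ m) (hs : IsSimpleGroup (Cfsg.POmega F (Cfsg.quadFormPlus m F))) {r : ℕ} (hr : r.Prime)
    (hr2 : r ≠ 2) (hd : r ∣ Nat.card (Cfsg.POmega F (Cfsg.quadFormPlus m F)))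
    (hnd : ¬ r ∣ Nat.card F ^ (m - 1) + 1 ∨ r ∣ Nat.card F ^ 2 - 1)
    (hex : m = 4 → Fintype.card F = 2 → r ≠ 3 ∧ r ≠ 5) :
    ¬ Fpf.May r (Cfsg.POmega F (Cfsg.quadFormPlus m F)) := by
  have hG : Good (plusForm m F) := good_plus (by omega)
  rw [← coe_plusForm] at hs hd ⊢
  haveI hsP := isSimple_P hG hs
  rw [← card_P hG] at hd
  haveI : Finite ↥(E (plusForm m F)) := finite_E
  haveI : Fact r.Prime := ⟨hr⟩
  intro hM
  replace hM : Fpf.May r (P (plusForm m F)) := hM.of_equiv (pe hG)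
  revert hM
  change ¬ Fpf.May r (P (plusForm m F))
  obtain ⟨l, hl⟩ := CharP.exists F
  haveI := hl
  obtain ⟨n, hlp, hn⟩ := FiniteField.card F l
  have hq1 : 1 < Nat.card F := by rw [Nat.card_eq_fintype_card]; exact Fintype.one_lt_card
  by_cases hlr : l = r
  · subst hlr
    exact not_may_char hG hlp hr2
  have hrF : (r : F) ≠ 0 := by
    intro h0
    rw [CharP.cast_eq_zero_iff F l] at h0
    exact hlr ((Nat.prime_dvd_prime_iff_eq hlp hr).1 h0)
  -- the case of a stabiliser
  have hfix : r ∣ (Nat.card F ^ (m - 1) - 1) * ∏ i ∈ Finset.range (m - 2), (Nat.card F ^ (2 * (i + 1)) - 1) →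
      ¬ Fpf.May r (P (plusForm m F)) := by
    intro h
    obtain ⟨y, u, hy, hy1, hu, hu0, hyu⟩ := exists_fix hm hr hr2 h
    refine not_may_sing hG hr hr2 hlp hlr ?_ hy hy1 hu hu0 hyu
    by_cases hl2 : l = 2
    · subst hl2
      by_cases h42 : m = 4 ∧ Fintype.card F = 2
      · -- `Omega_8^+(2)` : only `r = 7`
        left
        obtain ⟨rfl, hF⟩ := h42
        obtain ⟨hr3, hr5⟩ := hex rfl hF
        have hr7 : r = 7 := by
          rw [Nat.card_eq_fintype_card, hF] at h
          norm_num [Finset.prod_range_succ] at h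
          have h3 : r ∣ 7 * (3 * (3 * 5)) := h
          rcases hr.dvd_mul.1 h3 with h4 | h4
          · exact (Nat.prime_dvd_prime_iff_eq hr (by norm_num)).1 h4
          exfalso
          rcases hr.dvd_mul.1 h4 with h5 | h5
          · exact hr3 ((Nat.prime_dvd_prime_iff_eq hr (by norm_num)).1 h5)
          rcases hr.dvd_mul.1 h5 with h6 | h6
          · exact hr3 ((Nat.prime_dvd_prime_iff_eq hr (by norm_num)).1 h6)
          · exact hr5 ((Nat.prime_dvd_prime_iff_eq hr (by norm_num)).1 h6)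
        subst hr7
        exact Fpf.good_two_of_dvd (q := 3) Nat.prime_three (by norm_num) (by norm_num)
      · right
        refine ⟨1, multDvd_of_equiv (pe hG) ?_, by norm_num⟩
        rw [coe_plusForm]
        refine mult_plus hm ?_ h42
        rw [hn]
        exact Nat.even_pow.2 ⟨even_two, n.ne_zero⟩
    · left
      exact Fpf.good_of_odd hlp hl2 hr hr2
  by_cases hfx : r ∣ (Nat.card F ^ (m - 1) - 1) * ∏ i ∈ Finset.range (m - 2), (Nat.card F ^ (2 * (i + 1)) - 1)
  · exact hfix hfx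
  -- the divisors of the order
  have hD : ¬ r ∣ Nat.card F ^ (m - 1) - 1 := fun h => hfx (h.mul_right _)
  have hI : ∀ j, 1 ≤ j → j ≤ m - 2 → ¬ r ∣ Nat.card F ^ (2 * j) - 1 := by
    intro j hj1 hj2 h
    apply hfx
    apply Dvd.dvd.mul_left
    refine h.trans ?_
    have h2 := Finset.dvd_prod_of_mem (fun i => Nat.card F ^ (2 * (i + 1)) - 1)
      (Finset.mem_range.2 (show j - 1 < m - 2 by omega))
    rwa [Nat.sub_add_cancel hj1] at h2
  have hA : r ∣ Nat.card F ^ m - 1 := by
    have h2 := card_mul (F := F) hm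
    have h3 : r ∣ Nat.card F ^ (m * (m - 1)) * (Nat.card F ^ m - 1) *
        ∏ i ∈ Finset.range (m - 1), (Nat.card F ^ (2 * (i + 1)) - 1) := by
      rw [← h2]
      exact hd.mul_left _
    rcases hr.dvd_mul.1 h3 with h4 | h4
    · rcases hr.dvd_mul.1 h4 with h5 | h5
      · exfalso
        apply hlr
        have h6 := hr.dvd_of_dvd_pow h5
        rw [Nat.card_eq_fintype_card, hn] at h6
        exact ((Nat.prime_dvd_prime_iff_eq hr hlp).1 (hr.dvd_of_dvd_pow h6)).symm
      · exact h5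
    · exfalso
      obtain ⟨i, hi, h5⟩ := (hr.prime.dvd_finsetProd_iff _).1 h4
      rw [Finset.mem_range] at hi
      by_cases h6 : i + 1 ≤ m - 2
      · exact hI (i + 1) (by omega) h6 h5
      · have h7 : i + 1 = m - 1 := by omega
        rw [h7] at h5
        have h8 := Nat.sq_sub_sq (Nat.card F ^ (m - 1)) 1
        rw [one_pow, ← pow_mul, mul_comm (m - 1) 2] at h8
        rw [h8] at h5
        rcases hr.dvd_mul.1 h5 with h9 | h9
        · rcases hnd with h10 | h10
          · exact h10 h9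
          · exact hI 1 le_rfl (by omega) h10
        · exact hD h9
  -- the order of `q` modulo `r`
  have hqz : ∀ k, r ∣ Nat.card F ^ k - 1 ↔ ((Nat.card F : ℕ) : ZMod r) ^ k = 1 := by
    intro k
    rw [← Nat.cast_pow, ← ZMod.natCast_eq_zero_iff, Nat.cast_sub (Nat.one_le_pow _ _ hq1.le), Nat.cast_one, sub_eq_zero]
  set e := orderOf ((Nat.card F : ℕ) : ZMod r) with he
  have hord : Ordd r (Nat.card F) e := fun k hk => orderOf_dvd_of_pow_eq_one ((hqz k).1 hk)
  have hem : e ∣ m := hord m hA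
  have he0 : 0 < e := Nat.pos_of_dvd_of_pos hem (by omega)
  have hre : ∀ k, e ∣ k → r ∣ Nat.card F ^ k - 1 := fun k hk => (hqz k).2 (orderOf_dvd_iff_pow_eq_one.1 hk)
  have heodd : Odd e := by
    by_contra h
    rw [Nat.not_odd_iff_even] at h
    obtain ⟨j, hj⟩ := h
    have h1 := Nat.le_of_dvd (by omega) hem
    exact hI j (by omega) (by omega) (hre _ ⟨1, by omega⟩)
  have hee : e = m := by
    have h1 := Nat.le_of_dvd (by omega) hem
    by_contra hne
    by_cases h2 : e ≤ m - 2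
    · exact hI e he0 h2 (hre _ ⟨2, by ring⟩)
    · have h3 : e = m - 1 := by omega
      exact hD (hre _ ⟨1, by omega⟩)
  obtain ⟨y, hy, hy1⟩ := exists_elt hG hr2 hd
  rw [hee] at hord heodd
  have hm5 : 5 ≤ m := by
    obtain ⟨k, hk⟩ := heodd
    omega
  obtain ⟨W, hW, hyW, hirr, hdim⟩ := exists_ts hG hr hr2 hrF hord hA heodd (by omega)
    (by rw [finrank_plus]; omega) hy hy1
  refine not_may_ts hG hr hr2 hlp hlr ?_ hy hy1 hW hyW hirr hdim
  by_cases hl2 : l = 2
  · subst hl2
    -- a prime divisor of `m`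
    obtain ⟨p, hp, hpm⟩ := Nat.exists_prime_and_dvd (show m ≠ 1 by omega)
    have hp2 : p ≠ 2 := by
      rintro rfl
      exact (Nat.not_even_iff_odd.2 heodd) (even_iff_two_dvd.2 hpm)
    refine Fpf.good_two_of_dvd hp hp2 (hpm.trans ?_)
    rw [← hee, he]
    apply orderOf_dvd_of_pow_eq_one
    apply ZMod.pow_card_sub_one_eq_one
    intro h0
    have h1 := (hqz e).1 (hre e dvd_rfl)
    rw [h0, zero_pow (by omega)] at h1
    exact zero_ne_one h1
  · exact Fpf.good_of_odd hlp hl2 hr hr2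

/-- **The row `POmega^+_{2m}(q)`.** -/
theorem row_plus (m : ℕ) (hm : 4 ≤ m) : Fpf.Row (Cfsg.POmega F (Cfsg.quadFormPlus m F)) := by
  have hs : IsSimpleGroup (Cfsg.POmega F (Cfsg.quadFormPlus m F)) := S0296.result m hm
  have hq1 : 1 < Fintype.card F := Fintype.one_lt_card
  by_cases h42 : m = 4 ∧ Fintype.card F = 2
  · refine Fpf.row_of 3 5 fun r hr hr2 hd h3 h5 => ?_
    refine not_may hm hs hr hr2 hd (Or.inl ?_) (fun _ _ => ⟨h3, h5⟩)
    obtain ⟨rfl, hF⟩ := h42
    rw [Nat.card_eq_fintype_card, hF]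
    intro h
    norm_num at h
    have h1 : r ∣ 3 ^ 2 := h
    exact h3 ((Nat.prime_dvd_prime_iff_eq hr Nat.prime_three).1 (hr.dvd_of_dvd_pow h1))
  have hex : ∀ r : ℕ, m = 4 → Fintype.card F = 2 → r ≠ 3 ∧ r ≠ 5 := fun r h1 h2 => absurd ⟨h1, h2⟩ h42
  rcases Nat.even_or_odd m with h | h
  · obtain ⟨K, _, _, hK, hM⟩ := Cfsg.Agent.H522.FpfEmb.plus_psu (F := F) h hm h42
    obtain ⟨a, b, hab⟩ := Cfsg.Agent.H700.FpfPsu.row_psu (F := K) (m - 1) (Fintype.card F) hK (by omega)
      (fun h3 => h42 ⟨by omega, h3.2⟩)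
    refine ⟨a, b, fun r hr hr2 hd hMay => ?_⟩
    by_contra hcon
    push Not at hcon
    by_cases hB : ¬ r ∣ Nat.card F ^ (m - 1) + 1 ∨ r ∣ Nat.card F ^ 2 - 1
    · exact not_may hm hs hr hr2 hd hB (hex r) hMay
    · push Not at hB
      have hdv : r ∣ Nat.card (Cfsg.PSU (m - 1) K (Fintype.card F)) := by
        have h1 := S0280.result (F := K) hK (m - 1) (by omega)
        have h2 : r ∣ Nat.gcd (m - 1) (Fintype.card F + 1) * ((Fintype.card F + 1) *
            Nat.card (Cfsg.PSU (m - 1) K (Fintype.card F))) := by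
          rw [h1]
          apply Dvd.dvd.mul_left
          have h3 := Finset.dvd_prod_of_mem (fun i => if Even i then Fintype.card F ^ (i + 1) + 1
            else Fintype.card F ^ (i + 1) - 1) (Finset.mem_range.2 (show m - 2 < m - 1 by omega))
          refine dvd_trans ?_ h3
          have h4 : Even (m - 2) := by
            obtain ⟨k, hk⟩ := h
            exact ⟨k - 1, by omega⟩
          simp only [h4, if_true]
          rw [show m - 2 + 1 = m - 1 by omega, ← Nat.card_eq_fintype_card]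
          exact hB.1
        by_contra hnd
        have h5 : r ∣ Fintype.card F + 1 := by
          rcases hr.dvd_mul.1 h2 with h3 | h3
          · exact h3.trans (Nat.gcd_dvd_right _ _)
          · rcases hr.dvd_mul.1 h3 with h4 | h4
            · exact h4
            · exact absurd h4 hnd
        apply hB.2
        have h6 := Nat.sq_sub_sq (Nat.card F) 1
        rw [one_pow, Nat.card_eq_fintype_card] at h6
        rw [Nat.card_eq_fintype_card, h6]
        exact h5.mul_right _
      rcases hab r hr hr2 hdv (hM hMay) with h1 | h1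
      · exact hcon.1 h1
      · exact hcon.2 h1
  · obtain ⟨K, _, _, hK, hM⟩ := Cfsg.Agent.H522.FpfEmb.plus_psl (F := F) h (by omega)
    have hK4 : 4 ≤ Fintype.card K := by
      rw [hK]
      calc 4 = 2 ^ 2 := by norm_num
        _ ≤ 2 ^ (m - 1) := Nat.pow_le_pow_right (by norm_num) (by omega)
        _ ≤ _ := Nat.pow_le_pow_left hq1 _
    obtain ⟨a, b, hab⟩ := Fpf.row_psl2 (F := K) hK4
    refine ⟨a, b, fun r hr hr2 hd hMay => ?_⟩
    by_contra hcon
    push Not at hcon
    by_cases hB : r ∣ Nat.card F ^ (m - 1) + 1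
    · have hdv : r ∣ Nat.card (Matrix.ProjectiveSpecialLinearGroup (Fin 2) K) := by
        have h1 := Cfsg.Agent.ClassicalGeometry.PSL2Basic.card_PSL2_gcd (F := K)
        have h2 : r ∣ Nat.card (Matrix.ProjectiveSpecialLinearGroup (Fin 2) K) * Nat.gcd 2 (Fintype.card K - 1) := by
          rw [h1, hK]
          apply Dvd.dvd.mul_left
          have h3 := Nat.sq_sub_sq (Fintype.card F ^ (m - 1)) 1
          rw [one_pow] at h3
          rw [h3, ← Nat.card_eq_fintype_card]
          exact hB.mul_right _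
        rcases hr.dvd_mul.1 h2 with h3 | h3
        · exact h3
        · exfalso
          exact hr2 ((Nat.prime_dvd_prime_iff_eq hr Nat.prime_two).1 (h3.trans (Nat.gcd_dvd_left _ _)))
      rcases hab r hr hr2 hdv (hM hMay) with h1 | h1
      · exact hcon.1 h1
      · exact hcon.2 h1
    · exact not_may hm hs hr hr2 hd (Or.inl hB) (hex r) hMay

end

end Cfsg.Agent.H522.FpfRowPlus
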