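import Mathlib
import Cfsg.Agent.Solvable.Carter

/-!
# Fixed-point-free nilpotent groups of automorphisms of solvable groups: quotients

If a finite nilpotent group `F` acts (not necessarily faithfully) on a finite solvable group `G`
without nontrivial fixed points, then it acts without nontrivial fixed points on `G ⧸ N` for every
`F`-invariant normal subgroup `N`.  (`F` is a Carter subgroup of the semidirect product.)
-/

set_option autoImplicit false

namespace Cfsg.Agent.H522

open Cfsg.Agent.Solvable.Carter

section

variable {G F : Type*} [Group G] [Group F] [MulDistribMulAction F G]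

theorem isCarter_range_inr (hF : Group.IsNilpotent F)
    (hCF : ∀ g : G, (∀ f : F, f • g = g) → g = 1) :
    IsCarter (SemidirectProduct.inr (φ := MulDistribMulAction.toMulAut F G)).range := by
  refine ⟨?_, ?_⟩
  · exact Group.nilpotent_of_surjective
      (SemidirectProduct.inr (φ := MulDistribMulAction.toMulAut F G)).rangeRestrict
      (MonoidHom.rangeRestrict_surjective _)
  · refine le_antisymm ?_ Subgroup.le_normalizer
    intro x hx
    rw [Subgroup.mem_normalizer_iff] at hx
    have h1 : x.left = 1 := by
      -- `x⁻¹ (inr f) x` lies in the range, so has trivial left component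
      apply hCF
      intro f
      have h2 : x⁻¹ * SemidirectProduct.inr f * x ∈
          (SemidirectProduct.inr (φ := MulDistribMulAction.toMulAut F G)).range := by
        rw [hx]
        have : x * (x⁻¹ * SemidirectProduct.inr f * x) * x⁻¹ =
          SemidirectProduct.inr (φ := MulDistribMulAction.toMulAut F G) f := by group
        rw [this]
        exact ⟨f, rfl⟩
      obtain ⟨f', hf'⟩ := h2
      have h3 : SemidirectProduct.inr (φ := MulDistribMulAction.toMulAut F G) f * x
          = x * SemidirectProduct.inr f' := by
        rw [hf']; group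
      have h4 := congrArg SemidirectProduct.left h3
      simpa using h4
    refine ⟨x.right, ?_⟩
    ext
    · simp [h1]
    · simp

end

theorem fpf_quotient {G F : Type*} [Group G] [Finite G] [Group F] [Finite F]
    [MulDistribMulAction F G] (hF : Group.IsNilpotent F) (hG : Group.IsSolvable G)
    (hCF : ∀ g : G, (∀ f : F, f • g = g) → g = 1)
    (N : Subgroup G) [N.Normal] (hN : ∀ (f : F) (n : G), n ∈ N → f • n ∈ N)
    (g : G) (hg : ∀ f : F, g⁻¹ * f • g ∈ N) : g ∈ N := by
  classical
  have : Finite (G ⋊[MulDistribMulAction.toMulAut F G] F) := by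
    refine Finite.of_injective (fun x : G ⋊[MulDistribMulAction.toMulAut F G] F => (x.left, x.right)) ?_
    intro x y h
    rw [Prod.mk.injEq] at h
    exact SemidirectProduct.ext h.1 h.2
  have hFs : Group.IsSolvable F := inferInstance
  have hB : Group.IsSolvable (G ⋊[MulDistribMulAction.toMulAut F G] F) := by
    refine Group.isSolvable_of_ker_le_range (SemidirectProduct.inl (φ := MulDistribMulAction.toMulAut F G))
      (SemidirectProduct.rightHom (φ := MulDistribMulAction.toMulAut F G)) ?_
    rw [SemidirectProduct.range_inl_eq_ker_rightHom]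
  let N' : Subgroup (G ⋊[MulDistribMulAction.toMulAut F G] F) := N.map (SemidirectProduct.inl (φ := MulDistribMulAction.toMulAut F G))
  have hmemN' : ∀ x : G ⋊[MulDistribMulAction.toMulAut F G] F, x ∈ N' ↔ x.left ∈ N ∧ x.right = 1 := by
    intro x
    constructor
    · rintro ⟨n, hn, rfl⟩
      exact ⟨hn, rfl⟩
    · rintro ⟨h1, h2⟩
      refine ⟨x.left, h1, ?_⟩
      ext
      · simp
      · simp [h2]
  have hN'n : N'.Normal := by
    constructor
    intro n hn b
    rw [hmemN'] at hn ⊢
    obtain ⟨h1, h2⟩ := hn
    refine ⟨?_, ?_⟩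
    · have e : (b * n * b⁻¹).left = b.left * (b.right • n.left) * b.left⁻¹ := by
        simp [h2, mul_assoc]
      rw [e]
      exact ‹N.Normal›.conj_mem _ (hN _ _ h1) _
    · simp [h2]
  have hC := isCarter_range_inr (G := G) (F := F) hF hCF
  have hCar := hC.map (f := QuotientGroup.mk' N') (QuotientGroup.mk'_surjective N')
    (fun H _ C D hC hD => (carter H inferInstance).2 C D hC hD)
  have hnorm : QuotientGroup.mk' N' (SemidirectProduct.inl g) ∈ Subgroup.normalizer
      ((Subgroup.map (QuotientGroup.mk' N')
        (SemidirectProduct.inr (φ := MulDistribMulAction.toMulAut F G)).range : Subgroup ((G ⋊[MulDistribMulAction.toMulAut F G] F) ⧸ N')) :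
          Set ((G ⋊[MulDistribMulAction.toMulAut F G] F) ⧸ N')) := by
    -- `f ∈ F` and `g` commute modulo `N'`
    have hcomm : ∀ f : F, QuotientGroup.mk' N' (SemidirectProduct.inl g) *
        QuotientGroup.mk' N' (SemidirectProduct.inr f) *
        (QuotientGroup.mk' N' (SemidirectProduct.inl g))⁻¹ =
        QuotientGroup.mk' N' (SemidirectProduct.inr f) := by
      intro f
      rw [mul_inv_eq_iff_eq_mul, ← map_mul, ← map_mul]
      rw [QuotientGroup.mk'_eq_mk']
      refine ⟨(SemidirectProduct.inl g * SemidirectProduct.inr f)⁻¹ *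
        (SemidirectProduct.inr f * SemidirectProduct.inl g), ?_, by group⟩
      rw [hmemN']
      constructor
      · have h1 := hN f⁻¹ _ (hg f)
        simp only [smul_mul', smul_inv', inv_smul_smul] at h1
        simpa using h1
      · simp
    rw [Subgroup.mem_normalizer_iff]
    intro x
    constructor
    · rintro ⟨y, ⟨f, rfl⟩, rfl⟩
      rw [hcomm]
      exact ⟨_, ⟨f, rfl⟩, rfl⟩
    · rintro ⟨y, ⟨f, rfl⟩, hy⟩
      have : x = QuotientGroup.mk' N' (SemidirectProduct.inr f) := by
        rw [← hcomm f] at hy
        exact (mul_left_cancel (mul_right_cancel hy)).symm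
      rw [this]
      exact ⟨_, ⟨f, rfl⟩, rfl⟩
  rw [hCar.2] at hnorm
  obtain ⟨y, ⟨f, rfl⟩, hy⟩ := hnorm
  rw [QuotientGroup.mk'_eq_mk'] at hy
  obtain ⟨z, hz, hz'⟩ := hy
  rw [hmemN'] at hz
  have h1 := congrArg SemidirectProduct.left hz'
  have h2 := congrArg SemidirectProduct.right hz'
  simp only [SemidirectProduct.mul_left, SemidirectProduct.left_inr, SemidirectProduct.right_inr,
    one_mul, SemidirectProduct.left_inl, SemidirectProduct.mul_right,
    SemidirectProduct.right_inl] at h1 h2
  rw [← h1]
  exact hN _ _ hz.1

end Cfsg.Agent.H522
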