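import Mathlib

/-!
# Frobenius pairs acting in a ring

`FrobPair F H`: the subgroup `H` normalizes the subgroup `F` and every nontrivial element of `H`
centralizes only the identity of `F`.  For a homomorphism `ρ : A →* R` into the multiplicative
monoid of a ring with `∑ f ∈ F, ρ f = 0` we show

* `key` : `∑ f ∈ F, ρ f * (∑ h ∈ H, ρ h) * ρ f⁻¹ = card F`;
* `exists_trace_eq_one` : if `p = 0` in `R`, `p` prime not dividing `card F`, then
  `1 = ∑ h ∈ H, ρ h * θ * ρ h⁻¹` for some `θ` in `R` (relative projectivity).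
-/

set_option autoImplicit false

namespace Cfsg.Agent.H522

/-- `H` normalizes `F`, and nontrivial elements of `H` centralize only the identity of `F`. -/
structure FrobPair {A : Type*} [Group A] (F H : Subgroup A) : Prop where
  conj_mem : ∀ h ∈ H, ∀ f ∈ F, h * f * h⁻¹ ∈ F
  fpf : ∀ h ∈ H, h ≠ 1 → ∀ f ∈ F, h * f = f * h → f = 1

namespace FrobPair

variable {A : Type*} [Group A] {F H : Subgroup A}

theorem mono (hp : FrobPair F H) {F₁ H₁ : Subgroup A} (hF : F₁ ≤ F) (hH : H₁ ≤ H)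
    (hn : ∀ h ∈ H₁, ∀ f ∈ F₁, h * f * h⁻¹ ∈ F₁) : FrobPair F₁ H₁ :=
  ⟨hn, fun h hh h1 f hf e => hp.fpf h (hH hh) h1 f (hF hf) e⟩

/-- conjugation as a bijection of `F` -/
theorem conj_mem' (hp : FrobPair F H) {h : A} (hh : h ∈ H) {f : A} (hf : f ∈ F) :
    h⁻¹ * f * h ∈ F := by
  have := hp.conj_mem h⁻¹ (H.inv_mem hh) f hf
  rwa [inv_inv] at this

/-- for `h ≠ 1` in `H` the map `f ↦ f * (h * f⁻¹ * h⁻¹)` is a bijection of `F`. -/
theorem bijective [Finite F] (hp : FrobPair F H) {h : A} (hh : h ∈ H) (h1 : h ≠ 1) :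
    Function.Bijective (fun f : F => (⟨(f : A) * (h * (f : A)⁻¹ * h⁻¹),
      F.mul_mem f.2 (hp.conj_mem h hh _ (F.inv_mem f.2))⟩ : F)) := by
  rw [← Finite.injective_iff_bijective]
  intro f g hfg
  have h2 : (f : A) * (h * (f : A)⁻¹ * h⁻¹) = (g : A) * (h * (g : A)⁻¹ * h⁻¹) :=
    congrArg Subtype.val hfg
  have h3 : h * ((f : A)⁻¹ * g) = ((f : A)⁻¹ * g) * h := by
    have h4 : (f : A) * (h * (f : A)⁻¹) = (g : A) * (h * (g : A)⁻¹) := by
      have := congrArg (· * h) h2
      simpa [mul_assoc] using this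
    calc h * ((f : A)⁻¹ * g) = (f : A)⁻¹ * ((f : A) * (h * (f : A)⁻¹)) * g := by group
      _ = (f : A)⁻¹ * ((g : A) * (h * (g : A)⁻¹)) * g := by rw [h4]
      _ = ((f : A)⁻¹ * g) * h := by group
  have h5 := hp.fpf h hh h1 ((f : A)⁻¹ * g) (F.mul_mem (F.inv_mem f.2) g.2) h3
  exact Subtype.ext (inv_mul_eq_one.mp h5)

variable {R : Type*} [Ring R] (ρ : A →* R)

/-- **Key identity** -/
theorem key [Fintype F] [Fintype H] (hp : FrobPair F H) (h0 : ∑ f : F, ρ (f : A) = 0) :
    ∑ f : F, ρ (f : A) * (∑ h : H, ρ (h : A)) * ρ (f : A)⁻¹ = (Fintype.card F : R) := by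
  classical
  simp only [Finset.mul_sum, Finset.sum_mul]
  rw [Finset.sum_comm]
  have h1 : ∀ h : H, (∑ f : F, ρ (f : A) * ρ (h : A) * ρ (f : A)⁻¹)
      = if h = 1 then (Fintype.card F : R) else 0 := by
    intro h
    split_ifs with hh
    · subst hh
      simp only [OneMemClass.coe_one, map_one, mul_one, ← map_mul, mul_inv_cancel,
        Finset.sum_const, Finset.card_univ, nsmul_eq_mul]
    · have hh1 : (h : A) ≠ 1 := fun e => hh (Subtype.ext e)
      have hbij := hp.bijective h.2 hh1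
      have : ∀ f : F, ρ (f : A) * ρ (h : A) * ρ (f : A)⁻¹ =
          ρ ((⟨(f : A) * (h * (f : A)⁻¹ * (h : A)⁻¹),
            F.mul_mem f.2 (hp.conj_mem h h.2 _ (F.inv_mem f.2))⟩ : F) : A) * ρ (h : A) := by
        intro f
        rw [← map_mul, ← map_mul, ← map_mul]
        congr 1
        simp only
        group
      rw [Finset.sum_congr rfl (fun f _ => this f), ← Finset.sum_mul]
      have h2 := Function.Bijective.sum_comp hbij (fun f : F => ρ (f : A))
      rw [h2, h0, zero_mul]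
  rw [Finset.sum_congr rfl (fun h _ => h1 h)]
  simp

/-- regular orbits on `F \ {1}`: a partition function. -/
theorem exists_partition [Finite F] (hp : FrobPair F H) [Fintype H] :
    ∃ χ : A → ℕ, χ 1 = 0 ∧ ∀ f ∈ F, f ≠ 1 → ∑ h : H, χ ((h : A)⁻¹ * f * h) = 1 := by
  classical
  -- the orbit relation of `H` on `A` by conjugation
  let S : Setoid A :=
    { r := fun x y => ∃ h ∈ H, y = h * x * h⁻¹
      iseqv := ⟨fun x => ⟨1, H.one_mem, by simp⟩,
        fun {x y} ⟨h, hh, e⟩ => ⟨h⁻¹, H.inv_mem hh, by rw [e]; group⟩,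
        fun {x y z} ⟨h, hh, e⟩ ⟨k, hk, e'⟩ => ⟨k * h, H.mul_mem hk hh, by rw [e', e]; group⟩⟩ }
  let rep : A → A := fun x => Quotient.out (Quotient.mk S x)
  have hrep : ∀ x, ∃ h ∈ H, x = h * rep x * h⁻¹ := fun x => Quotient.exact (Quotient.out_eq (Quotient.mk S x))
  have hrep' : ∀ x, ∀ h ∈ H, rep (h * x * h⁻¹) = rep x := by
    intro x h hh
    have : (Quotient.mk S (h * x * h⁻¹)) = Quotient.mk S x :=
      Quotient.sound (s := S) (S.symm ⟨h, hh, rfl⟩)
    simp only [rep, this]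
  refine ⟨fun x => if x ≠ 1 ∧ rep x = x then 1 else 0, by simp, ?_⟩
  intro f hf hf1
  obtain ⟨h₀, hh₀, e₀⟩ := hrep f
  have hr1 : rep f ≠ 1 := by
    intro e
    rw [e] at e₀
    exact hf1 (by rw [e₀]; simp)
  rw [Finset.sum_eq_single (⟨h₀, hh₀⟩ : H)]
  · have h1 : (h₀⁻¹ : A) * f * h₀ = rep f := by
      conv_lhs => rw [e₀]
      group
    have h2 := hrep' f h₀⁻¹ (H.inv_mem hh₀)
    rw [inv_inv] at h2
    refine if_pos ⟨?_, ?_⟩
    · show (h₀⁻¹ : A) * f * h₀ ≠ 1
      rw [h1]; exact hr1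
    · show rep ((h₀⁻¹ : A) * f * h₀) = (h₀⁻¹ : A) * f * h₀
      rw [h2, h1]
  · rintro ⟨k, hk⟩ - hne
    refine if_neg ?_
    rintro ⟨-, h3⟩
    have h2 := hrep' f k⁻¹ (H.inv_mem hk)
    rw [inv_inv] at h2
    change rep ((k⁻¹ : A) * f * k) = (k⁻¹ : A) * f * k at h3
    rw [h2] at h3
    -- `k⁻¹ f k = rep f = h₀⁻¹ f h₀`
    have h4 : (k⁻¹ : A) * f * k = h₀⁻¹ * f * h₀ := by
      rw [← h3]
      conv_rhs => rw [e₀]
      group
    have h5 : (h₀ * k⁻¹) * f = f * (h₀ * k⁻¹) := by
      calc (h₀ * k⁻¹) * f = h₀ * (k⁻¹ * f * k) * k⁻¹ := by group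
        _ = h₀ * (h₀⁻¹ * f * h₀) * k⁻¹ := by rw [h4]
        _ = f * (h₀ * k⁻¹) := by group
    have h6 : h₀ * k⁻¹ = 1 := by
      by_contra h7
      exact hf1 (hp.fpf _ (H.mul_mem hh₀ (H.inv_mem hk)) h7 f hf h5)
    apply hne
    exact Subtype.ext (mul_inv_eq_one.mp h6).symm
  · intro h
    exact absurd (Finset.mem_univ _) h

/-- **Relative projectivity** -/
theorem exists_trace_eq_one [Fintype F] [Fintype H] (hp : FrobPair F H)
    (h0 : ∑ f : F, ρ (f : A) = 0) (p : ℕ) (hpp : p.Prime) (hpR : (p : R) = 0)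
    (hpF : ¬ p ∣ Fintype.card F) :
    ∃ θ : R, ∑ h : H, ρ (h : A) * θ * ρ (h : A)⁻¹ = 1 := by
  classical
  -- inverses modulo `p`
  have hinv : ∀ n : ℕ, ¬ p ∣ n → ∃ m : ℕ, (m : R) * n = 1 := by
    intro n hn
    have hcop : Nat.Coprime n p := ((Nat.Prime.coprime_iff_not_dvd hpp).mpr hn).symm
    obtain ⟨m, -, hm⟩ := Nat.exists_mul_mod_eq_one_of_coprime hcop hpp.one_lt
    refine ⟨m, ?_⟩
    have h1 : n * m = p * (n * m / p) + 1 := by
      rw [← hm]; exact (Nat.div_add_mod _ _).symm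
    have h2 : ((n * m : ℕ) : R) = ((p * (n * m / p) + 1 : ℕ) : R) := by rw [← h1]
    push_cast at h2
    rw [hpR, zero_mul, zero_add] at h2
    rw [← h2]
    exact (Nat.cast_commute m (n : R)).eq
  set N : R := ∑ h : H, ρ (h : A) with hN
  by_cases hpH : p ∣ Fintype.card H
  · have hH0 : (Fintype.card H : R) = 0 := by
      obtain ⟨c, hc⟩ := hpH
      rw [hc, Nat.cast_mul, hpR, zero_mul]
    -- `ρ h * N = N = N * ρ h`
    have hl : ∀ h : H, ρ (h : A) * N = N := by
      intro h
      rw [hN, Finset.mul_sum]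
      have := Fintype.sum_equiv (Equiv.mulLeft h) (fun x : H => ρ (h : A) * ρ (x : A))
        (fun x : H => ρ (x : A)) (by intro x; simp)
      exact this
    have hr : ∀ h : H, N * ρ (h : A) = N := by
      intro h
      rw [hN, Finset.sum_mul]
      have := Fintype.sum_equiv (Equiv.mulRight h) (fun x : H => ρ (x : A) * ρ (h : A))
        (fun x : H => ρ (x : A)) (by intro x; simp)
      exact this
    have hNN : N * N = 0 := by
      conv_lhs => rw [hN, Finset.sum_mul]
      rw [Finset.sum_congr rfl (fun h _ => hl h), Finset.sum_const, Finset.card_univ, nsmul_eq_mul,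
        hH0, zero_mul]
    obtain ⟨χ, hχ1, hχ⟩ := hp.exists_partition
    set T : R := ∑ f : F, (χ (f : A) : R) * (ρ (f : A) * N * ρ (f : A)⁻¹) with hT
    have hkey := hp.key ρ h0
    -- `∑ h ρ h T ρ h⁻¹ = card F - N`
    have hTr : ∑ h : H, ρ (h : A) * T * ρ (h : A)⁻¹ = (Fintype.card F : R) - N := by
      have h1 : ∀ h : H, ρ (h : A) * T * ρ (h : A)⁻¹ =
          ∑ f : F, (χ ((h : A)⁻¹ * f * h) : R) * (ρ (f : A) * N * ρ (f : A)⁻¹) := by
        intro h
        have e : Function.Bijective (fun f : F => (⟨(h : A) * f * (h : A)⁻¹,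
            hp.conj_mem h h.2 f f.2⟩ : F)) := by
          rw [← Finite.injective_iff_bijective]
          intro f g hfg
          have h2 : (h : A) * f * (h : A)⁻¹ = (h : A) * g * (h : A)⁻¹ := congrArg Subtype.val hfg
          exact Subtype.ext (mul_left_cancel (mul_right_cancel h2))
        rw [← Function.Bijective.sum_comp e (fun f : F => (χ ((h : A)⁻¹ * f * h) : R) *
          (ρ (f : A) * N * ρ (f : A)⁻¹)), hT, Finset.mul_sum, Finset.sum_mul]
        refine Finset.sum_congr rfl (fun f _ => ?_)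
        have e1 : (h : A)⁻¹ * ((h : A) * f * (h : A)⁻¹) * h = f := by group
        simp only [e1]
        have e2 : ρ ((h : A) * f * (h : A)⁻¹)⁻¹ = ρ (h : A) * ρ (f : A)⁻¹ * ρ (h : A)⁻¹ := by
          rw [← map_mul, ← map_mul]; congr 1; group
        rw [e2, map_mul, map_mul]
        have e3 : ρ (h : A)⁻¹ * N * ρ (h : A) = N := by
          have := hl h⁻¹
          rw [Subgroup.coe_inv] at this
          rw [this, hr]
        calc ρ (h : A) * ((χ (f : A) : R) * (ρ (f : A) * N * ρ (f : A)⁻¹)) * ρ (h : A)⁻¹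
            = (χ (f : A) : R) * (ρ (h : A) * ρ (f : A) * N * ρ (f : A)⁻¹ * ρ (h : A)⁻¹) := by
              rw [← mul_assoc (ρ (h : A)), ← (Nat.cast_commute (χ (f : A)) (ρ (h : A))).eq]
              simp only [mul_assoc]
          _ = (χ (f : A) : R) * (ρ (h : A) * ρ (f : A) * (ρ (h : A)⁻¹ * N * ρ (h : A)) *
                ρ (f : A)⁻¹ * ρ (h : A)⁻¹) := by rw [e3]
          _ = _ := by simp only [mul_assoc]
      rw [Finset.sum_congr rfl (fun h _ => h1 h), Finset.sum_comm]
      have h2 : ∀ f : F, (∑ h : H, (χ ((h : A)⁻¹ * f * h) : R) * (ρ (f : A) * N * ρ (f : A)⁻¹))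
          = ρ (f : A) * N * ρ (f : A)⁻¹ - (if f = 1 then N else 0) := by
        intro f
        rw [← Finset.sum_mul]
        split_ifs with hf
        · subst hf
          have : ∀ h : H, (χ ((h : A)⁻¹ * ((1 : F) : A) * h) : R) = 0 := by
            intro h
            have : (h : A)⁻¹ * ((1 : F) : A) * h = 1 := by simp
            rw [this, hχ1, Nat.cast_zero]
          rw [Finset.sum_congr rfl (fun h _ => this h)]
          simp
        · have h3 := hχ f f.2 (fun e => hf (Subtype.ext e))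
          have h4 : (∑ h : H, (χ ((h : A)⁻¹ * f * h) : R)) = 1 := by
            rw [← Nat.cast_sum, h3, Nat.cast_one]
          rw [h4, one_mul, sub_zero]
      rw [Finset.sum_congr rfl (fun f _ => h2 f), Finset.sum_sub_distrib, hkey]
      simp
    obtain ⟨m, hm⟩ := hinv _ hpF
    -- `(card F - N) (card F + N) = card F ^ 2`
    refine ⟨T * ((Fintype.card F : R) + N) * ((m : R) * m), ?_⟩
    have hcom : ∀ h : H, ((Fintype.card F : R) + N) * ((m : R) * m) * ρ (h : A)⁻¹ =
        ρ (h : A)⁻¹ * (((Fintype.card F : R) + N) * ((m : R) * m)) := by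
      intro h
      have h1 : N * ρ (h : A)⁻¹ = ρ (h : A)⁻¹ * N := by
        have a := hl h⁻¹
        have b := hr h⁻¹
        rw [Subgroup.coe_inv] at a b
        rw [a, b]
      have h2 : ((Fintype.card F : R) + N) * ρ (h : A)⁻¹ = ρ (h : A)⁻¹ * ((Fintype.card F : R) + N) := by
        rw [add_mul, mul_add, h1, (Nat.cast_commute (Fintype.card F) (ρ (h : A)⁻¹)).eq]
      have h3 : ((m : R) * m) * ρ (h : A)⁻¹ = ρ (h : A)⁻¹ * ((m : R) * m) := by
        rw [← Nat.cast_mul]
        exact (Nat.cast_commute (m * m) (ρ (h : A)⁻¹)).eq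
      rw [mul_assoc, h3, ← mul_assoc, h2, mul_assoc]
    calc ∑ h : H, ρ (h : A) * (T * ((Fintype.card F : R) + N) * ((m : R) * m)) * ρ (h : A)⁻¹
        = ∑ h : H, (ρ (h : A) * T * ρ (h : A)⁻¹) * (((Fintype.card F : R) + N) * ((m : R) * m)) := by
          refine Finset.sum_congr rfl (fun h _ => ?_)
          rw [mul_assoc (ρ (h : A) * T), ← hcom h]
          simp only [mul_assoc]
      _ = ((Fintype.card F : R) - N) * (((Fintype.card F : R) + N) * ((m : R) * m)) := by
          rw [← Finset.sum_mul, hTr]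
      _ = (Fintype.card F : R) * (Fintype.card F : R) * ((m : R) * m) := by
          have hc : N * (Fintype.card F : R) = (Fintype.card F : R) * N :=
            (Nat.cast_commute (Fintype.card F) N).eq.symm
          have : ((Fintype.card F : R) - N) * ((Fintype.card F : R) + N)
              = (Fintype.card F : R) * (Fintype.card F : R) := by
            rw [sub_mul, mul_add, mul_add, hNN, hc]
            abel
          rw [← mul_assoc, this]
      _ = 1 := by
          have hc : (Fintype.card F : R) * (m : R) = 1 := by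
            rw [(Nat.cast_commute (Fintype.card F) (m : R)).eq, hm]
          calc (Fintype.card F : R) * (Fintype.card F : R) * ((m : R) * m)
              = (Fintype.card F : R) * ((Fintype.card F : R) * m) * m := by simp only [mul_assoc]
            _ = 1 := by rw [hc, mul_one, hc]
  · obtain ⟨m, hm⟩ := hinv _ hpH
    refine ⟨(m : R), ?_⟩
    have : ∀ h : H, ρ (h : A) * (m : R) * ρ (h : A)⁻¹ = (m : R) := by
      intro h
      rw [← (Nat.cast_commute m (ρ (h : A))).eq, mul_assoc, ← map_mul, mul_inv_cancel, map_one,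
        mul_one]
    rw [Finset.sum_congr rfl (fun h _ => this h), Finset.sum_const, Finset.card_univ, nsmul_eq_mul,
      (Nat.cast_commute (Fintype.card H) (m : R)).eq, hm]

end FrobPair

end Cfsg.Agent.H522
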