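import Mathlib
import Cfsg.Agent.H522.FrobRing
import Cfsg.Agent.S0132

/-!
# Frobenius pairs acting on abelian groups

`A` acts on the commutative group `V`, `(F, H)` is a `FrobPair` in `A`, `C_V(F) = 1`.
-/

set_option autoImplicit false

namespace Cfsg.Agent.H522

namespace FrobPair

section comm

variable {A : Type*} [Group A] {F H : Subgroup A} {V : Type*} [CommGroup V]
  [MulDistribMulAction A V]

/-- the action as a homomorphism into the ring of endomorphisms -/
def rho (A : Type*) [Group A] (V : Type*) [CommGroup V] [MulDistribMulAction A V] :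
    A →* AddMonoid.End (Additive V) where
  toFun a := (MulDistribMulAction.toMonoidHom V a).toAdditive
  map_one' := by
    ext v
    exact congrArg Additive.ofMul (one_smul A (Additive.toMul v))
  map_mul' a b := by
    ext v
    exact congrArg Additive.ofMul (mul_smul a b (Additive.toMul v))

theorem endSum_apply {ι W : Type*} [AddCommGroup W] (s : Finset ι)
    (g : ι → AddMonoid.End W) (w : W) : (∑ i ∈ s, g i) w = ∑ i ∈ s, g i w :=
  AddMonoidHom.finsetSum_apply g s w

theorem rho_apply (a : A) (v : V) : rho A V a (Additive.ofMul v) = Additive.ofMul (a • v) := rfl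

theorem sum_rho_apply (K : Subgroup A) [Fintype K] (v : V) :
    (∑ k : K, rho A V (k : A)) (Additive.ofMul v) = Additive.ofMul (∏ k : K, (k : A) • v) := by
  rw [endSum_apply]
  rfl

theorem smul_prod (K : Subgroup A) [Fintype K] (v : V) (k : A) (hk : k ∈ K) :
    k • (∏ x : K, (x : A) • v) = ∏ x : K, (x : A) • v := by
  rw [Finset.smul_prod']
  exact Fintype.prod_equiv (Equiv.mulLeft (⟨k, hk⟩ : K)) (fun x : K => k • ((x : A) • v))
    (fun x : K => (x : A) • v) (by intro x; simp [mul_smul])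

theorem prod_eq_one [Fintype F] (hCF : ∀ v : V, (∀ f ∈ F, f • v = v) → v = 1) (v : V) :
    ∏ f : F, (f : A) • v = 1 :=
  hCF _ (fun f hf => smul_prod F v f hf)

theorem sum_rho_eq_zero [Fintype F] (hCF : ∀ v : V, (∀ f ∈ F, f • v = v) → v = 1) :
    ∑ f : F, rho A V (f : A) = 0 := by
  ext v
  induction v using Additive.rec with
  | ofMul v =>
    rw [sum_rho_apply, prod_eq_one hCF]
    rfl

/-- key identity on elements -/
theorem key_apply [Fintype F] [Fintype H] (hp : FrobPair F H)
    (hCF : ∀ v : V, (∀ f ∈ F, f • v = v) → v = 1) (v : V) :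
    ∏ f : F, (f : A) • (∏ h : H, (h : A) • ((f : A)⁻¹ • v)) = v ^ Fintype.card F := by
  have h1 := hp.key (rho A V) (sum_rho_eq_zero hCF)
  have h2 := congrArg (fun e : AddMonoid.End (Additive V) => e (Additive.ofMul v)) h1
  have h3 : (∑ f : F, rho A V (f : A) * (∑ h : H, rho A V (h : A)) * rho A V (f : A)⁻¹)
      (Additive.ofMul v) = Additive.ofMul (∏ f : F, (f : A) • (∏ h : H, (h : A) • ((f : A)⁻¹ • v))) := by
    rw [endSum_apply, ofMul_prod]
    refine Finset.sum_congr rfl (fun f _ => ?_)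
    show rho A V (f : A) ((∑ h : H, rho A V (h : A)) (rho A V (f : A)⁻¹ (Additive.ofMul v))) = _
    rw [rho_apply, sum_rho_apply, rho_apply]
  have h4 : ((Fintype.card F : ℕ) : AddMonoid.End (Additive V)) (Additive.ofMul v) =
      Additive.ofMul (v ^ Fintype.card F) := by
    rw [AddMonoid.End.natCast_apply, ofMul_pow]
  rw [h3, h4] at h2
  exact Additive.ofMul.injective h2

/-- a nontrivial norm -/
theorem exists_norm_ne_one [Fintype F] [Fintype H] (hp : FrobPair F H)
    (hCF : ∀ v : V, (∀ f ∈ F, f • v = v) → v = 1) (v : V) (hv : v ^ Fintype.card F ≠ 1) :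
    ∃ w : V, ∏ h : H, (h : A) • w ≠ 1 := by
  by_contra hcon
  push Not at hcon
  apply hv
  rw [← hp.key_apply hCF v]
  apply Finset.prod_eq_one
  intro f _
  rw [hcon, smul_one]

/-- generation by the fixed points of the conjugates of `H` -/
theorem pow_mem_closure [Fintype F] [Fintype H] (hp : FrobPair F H)
    (hCF : ∀ v : V, (∀ f ∈ F, f • v = v) → v = 1) (v : V) :
    v ^ Fintype.card F ∈
      Subgroup.closure {x : V | ∃ f ∈ F, ∃ c : V, (∀ h ∈ H, h • c = c) ∧ x = f • c} := by
  rw [← hp.key_apply hCF v]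
  apply Subgroup.prod_mem
  intro f _
  apply Subgroup.subset_closure
  exact ⟨f, f.2, _, fun h hh => smul_prod H _ h hh, rfl⟩

/-- **vanishing of `H¹(H, V)`** for an elementary abelian `p`-group `V` with `C_V(F) = 1`,
`p` not dividing the order of `F`. -/
theorem exists_coboundary [Finite F] [Finite H] (hp : FrobPair F H)
    (hCF : ∀ v : V, (∀ f ∈ F, f • v = v) → v = 1) (p : ℕ) (hpp : p.Prime)
    (hVp : ∀ v : V, v ^ p = 1) (hpF : ¬ p ∣ Nat.card F) (c : A → V)
    (hc : ∀ h ∈ H, ∀ k ∈ H, c (h * k) = c h * h • c k) :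
    ∃ u : V, ∀ h ∈ H, c h * h • u = u := by
  classical
  have := Fintype.ofFinite F
  have := Fintype.ofFinite H
  rw [Nat.card_eq_fintype_card] at hpF
  have hpR : ((p : ℕ) : AddMonoid.End (Additive V)) = 0 := by
    ext v
    induction v using Additive.rec with
    | ofMul v =>
      rw [AddMonoid.End.natCast_apply, ← ofMul_pow, hVp]
      rfl
  obtain ⟨θ, hθ⟩ := hp.exists_trace_eq_one (rho A V) (sum_rho_eq_zero hCF) p hpp hpR hpF
  -- `e t = ρ t θ ρ t⁻¹`
  let e : A → AddMonoid.End (Additive V) := fun t => rho A V t * θ * rho A V t⁻¹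
  refine ⟨Additive.toMul (∑ t : H, e t (Additive.ofMul (c t))), ?_⟩
  intro h hh
  -- `ρ h (e t v) = e (h t) (ρ h v)`
  have he : ∀ (t : A) (v : Additive V), rho A V h (e t v) = e (h * t) (rho A V h v) := by
    intro t v
    show rho A V h (rho A V t (θ (rho A V t⁻¹ v))) =
      rho A V (h * t) (θ (rho A V (h * t)⁻¹ (rho A V h v)))
    have e1 : rho A V (h * t)⁻¹ (rho A V h v) = rho A V t⁻¹ v := by
      have e2 : rho A V (h * t)⁻¹ * rho A V h = rho A V t⁻¹ := by
        rw [← map_mul]
        congr 1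
        group
      exact congrArg (fun x : AddMonoid.End (Additive V) => x v) e2
    rw [e1, map_mul]
    rfl
  have h1 : rho A V h (∑ t : H, e t (Additive.ofMul (c t))) =
      ∑ t : H, e t (Additive.ofMul (c t)) - Additive.ofMul (c h) := by
    rw [map_sum]
    have h2 : ∀ t : H, rho A V h (e t (Additive.ofMul (c t))) =
        e (h * t) (Additive.ofMul (c (h * t))) - e (h * t) (Additive.ofMul (c h)) := by
      intro t
      rw [he, ← map_sub]
      congr 1
      rw [hc h hh t t.2, ofMul_mul, rho_apply]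
      abel
    rw [Finset.sum_congr rfl (fun t _ => h2 t), Finset.sum_sub_distrib]
    congr 1
    · exact Fintype.sum_equiv (Equiv.mulLeft (⟨h, hh⟩ : H))
        (fun t : H => e (h * t) (Additive.ofMul (c (h * t))))
        (fun t : H => e t (Additive.ofMul (c t))) (fun t => rfl)
    · have h3 : ∑ t : H, e (h * t) (Additive.ofMul (c h)) = ∑ t : H, e t (Additive.ofMul (c h)) :=
        Fintype.sum_equiv (Equiv.mulLeft (⟨h, hh⟩ : H))
          (fun t : H => e (h * t) (Additive.ofMul (c h)))
          (fun t : H => e t (Additive.ofMul (c h))) (fun t => rfl)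
      rw [h3, ← endSum_apply]
      show (∑ t : H, rho A V (t : A) * θ * rho A V (t : A)⁻¹) (Additive.ofMul (c h)) = _
      rw [hθ]
      rfl
  have h4 : Additive.ofMul (h • Additive.toMul (∑ t : H, e t (Additive.ofMul (c t)))) =
      ∑ t : H, e t (Additive.ofMul (c t)) - Additive.ofMul (c h) := h1
  apply Additive.ofMul.injective
  rw [ofMul_mul, h4]
  show _ = (∑ t : H, e t (Additive.ofMul (c t)))
  abel

end comm

end FrobPair

/-! ### The `p'`-part of a finite nilpotent group of automorphisms -/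

section nilp

variable {A : Type*} [Group A]

/-- In a finite nilpotent subgroup `F` the `p'`-elements form a subgroup `Q`, of order prime to `p`,
with a normal `p`-subgroup as complement. -/
theorem exists_hall (F : Subgroup A) [Finite F] (hF : Group.IsNilpotent F) (p : ℕ)
    [hp : Fact p.Prime] :
    ∃ Q : Subgroup A, Q ≤ F ∧ (∀ x, x ∈ Q ↔ x ∈ F ∧ (orderOf x).Coprime p) ∧
      ¬ p ∣ Nat.card Q ∧ ∃ P : Subgroup A, P ≤ F ∧ IsPGroup p P ∧
        (∀ x ∈ F, ∃ y ∈ P, ∃ z ∈ Q, x = y * z) ∧ (∀ y ∈ P, ∀ z ∈ Q, y * z = z * y) := by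
  classical
  obtain ⟨P⟩ : Nonempty (Sylow p F) := inferInstance
  have hPn : (P : Subgroup F).Normal := by
    have h2 := (Group.isNilpotent_of_finite_tfae (G := F)).out 0 3
    exact (h2.mp hF) p hp P
  have hcop : Nat.Coprime (Nat.card P) (P : Subgroup F).index :=
    P.card_coprime_index
  obtain ⟨Q, hQ⟩ := Subgroup.exists_right_complement'_of_coprime hcop
  have hQcard : Nat.card Q = (P : Subgroup F).index := by
    rw [← hQ.symm.index_eq_card]
  have hQp : ¬ p ∣ Nat.card Q := by
    rw [hQcard]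
    exact P.not_dvd_index
  -- elements of order prime to `p` centralize `P`
  have hcent : ∀ z : F, (orderOf z).Coprime p → ∀ y ∈ (P : Subgroup F), y * z = z * y := by
    intro z hz y hy
    have h3 := Cfsg.Agent.S0132.mem_centralizer_of_isNilpotent (P : Subgroup F) P.isPGroup' z hz
    rw [Subgroup.mem_centralizer_iff] at h3
    exact h3 y hy
  have hQcop : ∀ z ∈ Q, (orderOf z).Coprime p := by
    intro z hz
    have h3 : orderOf z ∣ Nat.card Q := by
      have := orderOf_dvd_natCard (⟨z, hz⟩ : Q)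
      rwa [Subgroup.orderOf_mk] at this
    exact ((Nat.Prime.coprime_iff_not_dvd hp.out).mpr (fun h => hQp (h.trans h3))).symm
  have hfac : ∀ x : F, ∃ y ∈ (P : Subgroup F), ∃ z ∈ Q, x = y * z := by
    intro x
    obtain ⟨⟨y, z⟩, hyz⟩ := hQ.2 x
    exact ⟨y, y.2, z, z.2, hyz.symm⟩
  -- characterization
  have hchar : ∀ x : F, x ∈ Q ↔ (orderOf x).Coprime p := by
    intro x
    refine ⟨hQcop x, fun hx => ?_⟩
    obtain ⟨y, hy, z, hz, rfl⟩ := hfac x
    have hcom : Commute y z := hcent z (hQcop z hz) y hy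
    -- `y` is a power of order-`p`-power with `(y z)^n = 1`, `n` prime to `p`
    have h4 : (y * z) ^ (orderOf (y * z) * orderOf z) = 1 := by
      rw [pow_mul, pow_orderOf_eq_one, one_pow]
    rw [hcom.mul_pow, mul_comm (orderOf (y * z)), pow_mul z, pow_orderOf_eq_one, one_pow,
      mul_one] at h4
    have h5 : orderOf y ∣ orderOf z * orderOf (y * z) := orderOf_dvd_of_pow_eq_one h4
    obtain ⟨k, hk⟩ := (IsPGroup.iff_orderOf.mp P.isPGroup') ⟨y, hy⟩
    rw [Subgroup.orderOf_mk] at hk
    have h6 : Nat.Coprime (orderOf y) (orderOf z * orderOf (y * z)) := by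
      rw [hk]
      exact Nat.Coprime.pow_left k ((Nat.Coprime.mul_left (hQcop z hz) hx).symm)
    have h7 : orderOf y = 1 := Nat.Coprime.eq_one_of_dvd h6 h5
    rw [orderOf_eq_one_iff] at h7
    rw [h7, one_mul]
    exact hz
  refine ⟨Q.map F.subtype, ?_, ?_, ?_, (P : Subgroup F).map F.subtype, ?_, ?_, ?_, ?_⟩
  · rintro _ ⟨x, -, rfl⟩
    exact x.2
  · intro x
    constructor
    · rintro ⟨y, hy, rfl⟩
      refine ⟨y.2, ?_⟩
      have := hQcop y hy
      rwa [← Subgroup.orderOf_coe] at this
    · rintro ⟨hx, hx'⟩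
      refine ⟨⟨x, hx⟩, ?_, rfl⟩
      rw [SetLike.mem_coe, hchar, Subgroup.orderOf_mk]
      exact hx'
  · rwa [Nat.card_congr (Q.equivMapOfInjective F.subtype F.subtype_injective).toEquiv.symm]
  · rintro _ ⟨x, -, rfl⟩
    exact x.2
  · exact P.isPGroup'.map F.subtype
  · intro x hx
    obtain ⟨y, hy, z, hz, e⟩ := hfac ⟨x, hx⟩
    exact ⟨y, ⟨y, hy, rfl⟩, z, ⟨z, hz, rfl⟩, congrArg Subtype.val e⟩
  · rintro _ ⟨y, hy, rfl⟩ _ ⟨z, hz, rfl⟩
    exact congrArg Subtype.val (hcent z (hQcop z hz) y hy)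

end nilp

end Cfsg.Agent.H522
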