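import Mathlib
import Cfsg.Agent.H522.FrobMod
import Cfsg.Agent.H522.FpfQuot

/-!
# Frobenius groups of automorphisms of finite solvable groups: fixed points

`A` acts on `G`, `(F, H)` is a `FrobPair` in `A` with `F` finite nilpotent and `H` finite.

* `lift_fixed` : `N ⊴ G` finite solvable `A`-invariant with `C_N(F) = 1`: fixed points of `H` in
  `G ⧸ N` lift to fixed points of `H` in `G`.
* `closure_eq_top` : `G` finite solvable, `C_G(F) = 1`: `G = ⟨C_G(H)^f : f ∈ F⟩`.
-/

set_option autoImplicit false

namespace Cfsg.Agent.H522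

universe u v

section Actions

variable {A G : Type*} [Group A] [Group G] [MulDistribMulAction A G]

/-- the action on an invariant subgroup -/
@[reducible] def subAct (M : Subgroup G) (hM : ∀ (a : A) (m : G), m ∈ M → a • m ∈ M) :
    MulDistribMulAction A M where
  smul a m := ⟨a • (m : G), hM a m m.2⟩
  one_smul m := Subtype.ext (one_smul A (m : G))
  mul_smul a b m := Subtype.ext (mul_smul a b (m : G))
  smul_mul a x y := Subtype.ext (smul_mul' a (x : G) (y : G))
  smul_one a := Subtype.ext (smul_one a)

/-- the action on the quotient by an invariant normal subgroup -/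
@[reducible] def quotAct (M : Subgroup G) [M.Normal] (hM : ∀ (a : A) (m : G), m ∈ M → a • m ∈ M) :
    MulDistribMulAction A (G ⧸ M) where
  smul a := QuotientGroup.map M M (MulDistribMulAction.toMonoidHom G a) (fun m hm => hM a m hm)
  one_smul x := by
    induction x using QuotientGroup.induction_on with
    | H g => exact congrArg (QuotientGroup.mk (s := M)) (one_smul A g)
  mul_smul a b x := by
    induction x using QuotientGroup.induction_on with
    | H g => exact congrArg (QuotientGroup.mk (s := M)) (mul_smul a b g)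
  smul_mul a x y := map_mul _ x y
  smul_one a := map_one _

/-- the elements fixed by a subgroup of the acting group -/
def fixedBy (K : Subgroup A) (G : Type*) [Group G] [MulDistribMulAction A G] : Subgroup G where
  carrier := {g | ∀ k ∈ K, k • g = g}
  one_mem' := fun k _ => smul_one k
  mul_mem' := fun {x y} hx hy k hk => by rw [smul_mul', hx k hk, hy k hk]
  inv_mem' := fun {x} hx k hk => by rw [smul_inv', hx k hk]

theorem mem_fixedBy {K : Subgroup A} {g : G} : g ∈ fixedBy K G ↔ ∀ k ∈ K, k • g = g := Iff.rfl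

theorem fixedBy_eq_bot_iff {K : Subgroup A} :
    fixedBy K G = ⊥ ↔ ∀ g : G, (∀ k ∈ K, k • g = g) → g = 1 := by
  rw [Subgroup.eq_bot_iff_forall]
  rfl

end Actions

section Elem

/-- the subgroup generated by commutators and `p`-th powers -/
def elemSub (p : ℕ) (G : Type*) [Group G] : Subgroup G :=
  Subgroup.closure ({x | ∃ a b : G, x = a * b * a⁻¹ * b⁻¹} ∪ {x | ∃ a : G, x = a ^ p})

variable {G : Type*} [Group G]

theorem smul_mem_elemSub {A : Type*} [Group A] [MulDistribMulAction A G] (p : ℕ) (a : A) (m : G)
    (hm : m ∈ elemSub p G) : a • m ∈ elemSub p G := by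
  induction hm using Subgroup.closure_induction with
  | mem x hx =>
    apply Subgroup.subset_closure
    rcases hx with ⟨b, c, rfl⟩ | ⟨b, rfl⟩
    · left
      exact ⟨a • b, a • c, by simp only [smul_mul', smul_inv']⟩
    · right
      exact ⟨a • b, by rw [smul_pow']⟩
  | one => rw [smul_one]; exact Subgroup.one_mem _
  | mul x y _ _ h1 h2 => rw [smul_mul']; exact Subgroup.mul_mem _ h1 h2
  | inv x _ h1 => rw [smul_inv']; exact Subgroup.inv_mem _ h1

theorem commutator_le_elemSub (p : ℕ) : commutator G ≤ elemSub p G := by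
  rw [commutator_eq_closure]
  apply Subgroup.closure_mono
  rintro x ⟨a, b, rfl⟩
  left
  exact ⟨a, b, rfl⟩

instance elemSub_normal (p : ℕ) : (elemSub p G).Normal := by
  constructor
  intro n hn g
  have := smul_mem_elemSub (A := ConjAct G) p (ConjAct.toConjAct g) n hn
  rwa [ConjAct.toConjAct_smul] at this

theorem pow_mem_elemSub (p : ℕ) (g : G) : g ^ p ∈ elemSub p G :=
  Subgroup.subset_closure (Or.inr ⟨g, rfl⟩)

/-- the quotient by `elemSub p G` is commutative -/
@[reducible] def elemQuotCommGroup (p : ℕ) : CommGroup (G ⧸ elemSub p G) :=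
  { (inferInstance : Group (G ⧸ elemSub p G)) with
    mul_comm := by
      intro x y
      induction x using QuotientGroup.induction_on with
      | H a =>
        induction y using QuotientGroup.induction_on with
        | H b =>
          rw [← QuotientGroup.mk_mul, ← QuotientGroup.mk_mul, QuotientGroup.eq]
          have : (a * b)⁻¹ * (b * a) = b⁻¹ * a⁻¹ * (b⁻¹)⁻¹ * (a⁻¹)⁻¹ := by group
          rw [this]
          exact Subgroup.subset_closure (Or.inl ⟨_, _, rfl⟩) }

theorem elemQuot_pow (p : ℕ) (x : G ⧸ elemSub p G) : x ^ p = 1 := by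
  induction x using QuotientGroup.induction_on with
  | H a =>
    rw [← QuotientGroup.mk_pow, QuotientGroup.eq_one_iff]
    exact pow_mem_elemSub p a

/-- A nontrivial finite solvable group has a proper `elemSub p G`. -/
theorem exists_elemSub_ne_top [Finite G] [Nontrivial G] (hG : Group.IsSolvable G) :
    ∃ p : ℕ, p.Prime ∧ elemSub p G ≠ ⊤ := by
  have h1 : commutator G ≠ ⊤ := by
    intro h
    have := Group.IsSolvable.commutator_lt_top_of_nontrivial G
    exact absurd h this.ne
  -- the abelianization is nontrivial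
  have h2 : Nontrivial (Abelianization G) := by
    rw [← not_subsingleton_iff_nontrivial]
    intro hs
    apply h1
    rw [Subgroup.eq_top_iff']
    intro x
    have h3 : Abelianization.of x = Abelianization.of 1 := Subsingleton.elim _ _
    have := (QuotientGroup.eq (s := commutator G)).mp h3.symm
    simpa using this
  have : Finite (Abelianization G) := inferInstanceAs (Finite (G ⧸ commutator G))
  obtain ⟨p, hp, hpd⟩ := Nat.exists_prime_and_dvd (Finite.one_lt_card (α := Abelianization G)).ne'
  refine ⟨p, hp, ?_⟩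
  intro htop
  -- the `p`-power map on the abelianization is not injective, hence not surjective
  have hfact : Fact p.Prime := ⟨hp⟩
  obtain ⟨y, hy⟩ := exists_prime_orderOf_dvd_card' (G := Abelianization G) p hpd
  have h3 : elemSub p G ≤ ((powMonoidHom p : Abelianization G →* Abelianization G).range).comap
      Abelianization.of := by
    apply (Subgroup.closure_le _).mpr
    rintro x (⟨a, b, rfl⟩ | ⟨a, rfl⟩)
    · refine ⟨1, ?_⟩
      simp only [map_mul, map_inv, map_one]
      rw [mul_comm (Abelianization.of a)]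
      simp
    · exact ⟨Abelianization.of a, by simp⟩
  rw [htop] at h3
  have h4 : Function.Surjective (powMonoidHom p : Abelianization G →* Abelianization G) := by
    intro z
    obtain ⟨x, rfl⟩ := QuotientGroup.mk_surjective z
    exact h3 (Subgroup.mem_top x)
  have h5 := (Finite.injective_iff_surjective).mpr h4
  have h6 : y = 1 := h5 (by
    simp only [powMonoidHom_apply, one_pow]
    rw [← hy]; exact pow_orderOf_eq_one y)
  rw [h6, orderOf_one] at hy
  exact hp.one_lt.ne hy

end Elem

section PPrime

variable {A : Type*} [Group A]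

/-- For a `p`-group `V` with `C_V(F) = 1`, `F` may be replaced by its `p'`-part. -/
theorem exists_pprime_part {F H : Subgroup A} (hp : FrobPair F H) [Finite F]
    (hF : Group.IsNilpotent F) (p : ℕ) [hpp : Fact p.Prime] {V : Type*} [Group V] [Finite V]
    [MulDistribMulAction A V] (hV : IsPGroup p V)
    (hCF : ∀ v : V, (∀ f ∈ F, f • v = v) → v = 1) :
    ∃ Q : Subgroup A, Q ≤ F ∧ FrobPair Q H ∧ ¬ p ∣ Nat.card Q ∧
      (∀ v : V, (∀ f ∈ Q, f • v = v) → v = 1) := by
  obtain ⟨Q, hQF, hQ, hQc, P, hPF, hPp, hPQ, hcom⟩ := exists_hall F hF p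
  refine ⟨Q, hQF, hp.mono hQF le_rfl ?_, hQc, ?_⟩
  · intro h hh f hf
    rw [hQ] at hf ⊢
    refine ⟨hp.conj_mem h hh f hf.1, ?_⟩
    have : orderOf (h * f * h⁻¹) = orderOf f :=
      orderOf_injective (MulAut.conj h).toMonoidHom (MulAut.conj h).injective f
    rw [this]
    exact hf.2
  · intro v hv
    by_contra hv1
    -- `P` acts on `C_V(Q)`
    let W : Subgroup V := fixedBy Q V
    have hact : ∀ (y : P) (w : V), w ∈ W → (y : A) • w ∈ W := by
      intro y w hw z hz
      rw [← mul_smul, ← hcom y y.2 z hz, mul_smul, hw z hz]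
    let act : MulAction P W :=
      { smul := fun y w => ⟨(y : A) • (w : V), hact y w w.2⟩
        one_smul := fun w => Subtype.ext (one_smul A (w : V))
        mul_smul := fun x y w => Subtype.ext (mul_smul (x : A) (y : A) (w : V)) }
    have hW : IsPGroup p W := hV.to_subgroup W
    have hWne : (⟨v, hv⟩ : W) ≠ 1 := fun e => hv1 (congrArg Subtype.val e)
    have hnt : Nontrivial W := ⟨⟨_, _, hWne⟩⟩
    have hdvd : p ∣ Nat.card W := by
      obtain ⟨n, hn⟩ := IsPGroup.iff_card.mp hW
      rcases n with _ | n
      · rw [pow_zero] at hn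
        exact absurd hn (Finite.one_lt_card (α := W)).ne'
      · rw [hn, pow_succ]
        exact dvd_mul_left _ _
    have hPf : Finite P := Finite.of_injective (fun y : P => (⟨y, hPF y.2⟩ : F)) (by
      intro x y h
      exact Subtype.ext (congrArg (fun z : F => (z : A)) h))
    have h1 : (1 : W) ∈ MulAction.fixedPoints P W := fun y => Subtype.ext (smul_one (y : A))
    obtain ⟨w, hw, hw1⟩ := hPp.exists_fixed_point_of_prime_dvd_card_of_fixed_point W hdvd h1
    apply hw1
    apply Subtype.ext
    symm
    apply hCF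
    intro f hf
    obtain ⟨y, hy, z, hz, rfl⟩ := hPQ f hf
    rw [mul_smul, w.2 z hz]
    exact congrArg Subtype.val (hw ⟨y, hy⟩)

end PPrime

section Lift

variable {A : Type v} [Group A]

/-- nilpotent fixed-point-free action on quotients, for a subgroup `F` of the acting group -/
theorem fixed_quotient {F : Subgroup A} [Finite F] (hF : Group.IsNilpotent F)
    {N : Type*} [Group N] [Finite N] [MulDistribMulAction A N] (hN : Group.IsSolvable N)
    (hCF : ∀ g : N, (∀ f ∈ F, f • g = g) → g = 1) (M : Subgroup N) [M.Normal]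
    (hM : ∀ (a : A) (m : N), m ∈ M → a • m ∈ M) (g : N) (hg : ∀ f ∈ F, g⁻¹ * f • g ∈ M) :
    g ∈ M :=
  fpf_quotient (F := F) hF hN (fun g hg => hCF g (fun f hf => hg ⟨f, hf⟩)) M
    (fun f n hn => hM f n hn) g (fun f => hg f f.2)

/-- `H`-cocycles with values in a finite solvable group `N` with `C_N(F) = 1` are coboundaries. -/
theorem cocycle_trivial {F H : Subgroup A} (hp : FrobPair F H) [Finite F] [Finite H]
    (hF : Group.IsNilpotent F) : ∀ (n : ℕ) (N : Type u) [Group N] [Finite N]
    [MulDistribMulAction A N], Nat.card N ≤ n → Group.IsSolvable N →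
    (∀ g : N, (∀ f ∈ F, f • g = g) → g = 1) → ∀ c : A → N,
    (∀ h ∈ H, ∀ k ∈ H, c (h * k) = c h * h • c k) → ∃ u : N, ∀ h ∈ H, u⁻¹ * c h * h • u = 1 := by
  intro n
  induction n with
  | zero =>
    intro N _ _ _ hn
    exact absurd (Nat.card_pos (α := N)) (by omega)
  | succ n ih =>
    intro N _ _ _ hn hN hCF c hc
    rcases subsingleton_or_nontrivial N with hs | hnt
    · exact ⟨1, fun h _ => Subsingleton.elim _ _⟩
    obtain ⟨p, hpp, hne⟩ := exists_elemSub_ne_top (G := N) hN
    have hfact : Fact p.Prime := ⟨hpp⟩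
    have hinv : ∀ (a : A) (m : N), m ∈ elemSub p N → a • m ∈ elemSub p N :=
      fun a m hm => smul_mem_elemSub p a m hm
    -- the quotient
    let _inst : CommGroup (N ⧸ elemSub p N) := elemQuotCommGroup p
    let _inst : MulDistribMulAction A (N ⧸ elemSub p N) := quotAct (elemSub p N) hinv
    have hVF : ∀ v : N ⧸ elemSub p N, (∀ f ∈ F, f • v = v) → v = 1 := by
      intro v hv
      induction v using QuotientGroup.induction_on with
      | H g =>
        rw [QuotientGroup.eq_one_iff]
        apply fixed_quotient hF hN hCF (elemSub p N) hinv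
        intro f hf
        exact QuotientGroup.eq.mp (hv f hf).symm
    have hVp : IsPGroup p (N ⧸ elemSub p N) := fun x => ⟨1, by
      rw [pow_one]; exact elemQuot_pow p x⟩
    obtain ⟨Q, hQF, hpQ, hQc, hCQ⟩ := exists_pprime_part hp hF p hVp hVF
    have hQfin : Finite Q := Finite.of_injective (fun y : Q => (⟨y, hQF y.2⟩ : F)) (by
      intro x y h
      exact Subtype.ext (congrArg (fun z : F => (z : A)) h))
    obtain ⟨u, hu⟩ := hpQ.exists_coboundary (V := N ⧸ elemSub p N) hCQ p hpp
      (fun v => elemQuot_pow p v) hQc (fun a => (QuotientGroup.mk (c a) : N ⧸ elemSub p N))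
      (fun h hh k hk => by
        rw [hc h hh k hk]
        rfl)
    obtain ⟨u, rfl⟩ := QuotientGroup.mk_surjective u
    -- the modified cocycle takes values in `elemSub p N`
    have hmem : ∀ h ∈ H, u⁻¹ * c h * h • u ∈ elemSub p N := by
      intro h hh
      have h1 : (QuotientGroup.mk (c h * h • u) : N ⧸ elemSub p N) = QuotientGroup.mk u := hu h hh
      have h2 := QuotientGroup.eq.mp h1.symm
      rwa [← mul_assoc] at h2
    let _inst : MulDistribMulAction A (elemSub p N) := subAct (elemSub p N) hinv
    have hcard : Nat.card (elemSub p N) ≤ n := by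
      have h1 : Nat.card (elemSub p N) < Nat.card N := by
        refine lt_of_le_of_ne (Subgroup.card_le_card_group _) ?_
        intro h
        exact hne (Subgroup.eq_top_of_card_eq _ h)
      omega
    classical
    obtain ⟨w, hw⟩ := ih (elemSub p N) hcard inferInstance
      (fun g hg => Subtype.ext (hCF g (fun f hf => congrArg Subtype.val (hg f hf))))
      (fun a => if ha : u⁻¹ * c a * a • u ∈ elemSub p N then ⟨u⁻¹ * c a * a • u, ha⟩ else 1)
      (by
        intro h hh k hk
        rw [dif_pos (hmem h hh), dif_pos (hmem k hk), dif_pos (hmem _ (H.mul_mem hh hk))]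
        apply Subtype.ext
        show u⁻¹ * c (h * k) * (h * k) • u =
          (u⁻¹ * c h * h • u) * (h • (u⁻¹ * c k * k • u))
        rw [hc h hh k hk, smul_mul', smul_mul', smul_inv', mul_smul]
        group)
    refine ⟨u * w, fun h hh => ?_⟩
    have h1 := hw h hh
    rw [dif_pos (hmem h hh)] at h1
    have h2 : (w : N)⁻¹ * (u⁻¹ * c h * h • u) * (h • (w : N)) = 1 := congrArg Subtype.val h1
    rw [smul_mul']
    rw [← h2]
    group

/-- **Lifting of fixed points** (Khukhro–Makarenko–Shumyatsky). -/
theorem lift_fixed {F H : Subgroup A} (hp : FrobPair F H) [Finite F] [Finite H]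
    (hF : Group.IsNilpotent F) {G : Type u} [Group G] [MulDistribMulAction A G]
    (N : Subgroup G) [Finite N] (hN : Group.IsSolvable N)
    (hNA : ∀ (a : A) (n : G), n ∈ N → a • n ∈ N)
    (hCF : ∀ n ∈ N, (∀ f ∈ F, f • n = n) → n = 1)
    (g : G) (hg : ∀ h ∈ H, g⁻¹ * h • g ∈ N) :
    ∃ c : G, (∀ h ∈ H, h • c = c) ∧ c⁻¹ * g ∈ N := by
  classical
  let _inst : MulDistribMulAction A N := subAct N hNA
  obtain ⟨u, hu⟩ := cocycle_trivial hp hF (Nat.card N) N le_rfl hN
    (fun n hn => Subtype.ext (hCF n n.2 (fun f hf => congrArg Subtype.val (hn f hf))))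
    (fun a => if ha : g⁻¹ * a • g ∈ N then ⟨g⁻¹ * a • g, ha⟩ else 1)
    (by
      intro h hh k hk
      rw [dif_pos (hg h hh), dif_pos (hg k hk), dif_pos (hg _ (H.mul_mem hh hk))]
      apply Subtype.ext
      show g⁻¹ * (h * k) • g = (g⁻¹ * h • g) * (h • (g⁻¹ * k • g))
      rw [smul_mul', smul_inv', mul_smul]
      group)
  refine ⟨g * u, fun h hh => ?_, ?_⟩
  · have h1 := hu h hh
    rw [dif_pos (hg h hh)] at h1
    have h2 : (u : G)⁻¹ * (g⁻¹ * h • g) * (h • (u : G)) = 1 := congrArg Subtype.val h1
    rw [smul_mul']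
    have h3 : (g * u)⁻¹ * (h • g * h • (u : G)) = 1 := by
      rw [← h2]; group
    exact (inv_mul_eq_one.mp h3).symm
  · have : (g * u)⁻¹ * g = (u : G)⁻¹ := by group
    rw [this]
    exact N.inv_mem u.2

end Lift

section Generation

variable {A : Type v} [Group A]

/-- **Generation by fixed points**: `G = ⟨C_G(H)^f : f ∈ F⟩`. -/
theorem closure_eq_top {F H : Subgroup A} (hp : FrobPair F H) [Finite F] [Finite H]
    (hF : Group.IsNilpotent F) : ∀ (n : ℕ) (G : Type u) [Group G] [Finite G]
    [MulDistribMulAction A G], Nat.card G ≤ n → Group.IsSolvable G →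
    (∀ g : G, (∀ f ∈ F, f • g = g) → g = 1) →
    Subgroup.closure {x : G | ∃ f ∈ F, ∃ c : G, (∀ h ∈ H, h • c = c) ∧ x = f • c} = ⊤ := by
  intro n
  induction n with
  | zero =>
    intro N _ _ _ hn
    exact absurd (Nat.card_pos (α := N)) (by omega)
  | succ n ih =>
    intro G _ _ _ hn hG hCF
    rcases subsingleton_or_nontrivial G with hs | hnt
    · exact Subsingleton.elim _ _
    obtain ⟨p, hpp, hne⟩ := exists_elemSub_ne_top (G := G) hG
    have hfact : Fact p.Prime := ⟨hpp⟩
    have hinv : ∀ (a : A) (m : G), m ∈ elemSub p G → a • m ∈ elemSub p G :=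
      fun a m hm => smul_mem_elemSub p a m hm
    set X : Subgroup G :=
      Subgroup.closure {x : G | ∃ f ∈ F, ∃ c : G, (∀ h ∈ H, h • c = c) ∧ x = f • c} with hX
    -- `elemSub p G ≤ X`
    have hMX : elemSub p G ≤ X := by
      let _inst : MulDistribMulAction A (elemSub p G) := subAct (elemSub p G) hinv
      have hcard : Nat.card (elemSub p G) ≤ n := by
        have h1 : Nat.card (elemSub p G) < Nat.card G := by
          refine lt_of_le_of_ne (Subgroup.card_le_card_group _) ?_
          intro h
          exact hne (Subgroup.eq_top_of_card_eq _ h)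
        omega
      have h1 := ih (elemSub p G) hcard inferInstance
        (fun g hg => Subtype.ext (hCF g (fun f hf => congrArg Subtype.val (hg f hf))))
      intro m hm
      have h2 : (⟨m, hm⟩ : elemSub p G) ∈ Subgroup.closure {x : elemSub p G | ∃ f ∈ F,
          ∃ c : elemSub p G, (∀ h ∈ H, h • c = c) ∧ x = f • c} := by
        rw [h1]; trivial
      have h3 : Subgroup.closure {x : elemSub p G | ∃ f ∈ F,
          ∃ c : elemSub p G, (∀ h ∈ H, h • c = c) ∧ x = f • c} ≤ X.comap (elemSub p G).subtype := by
        rw [Subgroup.closure_le]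
        rintro x ⟨f, hf, c, hc, rfl⟩
        apply Subgroup.subset_closure
        exact ⟨f, hf, c, fun h hh => congrArg Subtype.val (hc h hh), rfl⟩
      exact h3 h2
    -- the quotient
    let _inst : CommGroup (G ⧸ elemSub p G) := elemQuotCommGroup p
    let _inst : MulDistribMulAction A (G ⧸ elemSub p G) := quotAct (elemSub p G) hinv
    have hVF : ∀ v : G ⧸ elemSub p G, (∀ f ∈ F, f • v = v) → v = 1 := by
      intro v hv
      induction v using QuotientGroup.induction_on with
      | H g =>
        rw [QuotientGroup.eq_one_iff]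
        apply fixed_quotient hF hG hCF (elemSub p G) hinv
        intro f hf
        exact QuotientGroup.eq.mp (hv f hf).symm
    have hVp : IsPGroup p (G ⧸ elemSub p G) := fun x => ⟨1, by
      rw [pow_one]; exact elemQuot_pow p x⟩
    obtain ⟨Q, hQF, hpQ, hQc, hCQ⟩ := exists_pprime_part hp hF p hVp hVF
    have hQfin : Finite Q := Finite.of_injective (fun y : Q => (⟨y, hQF y.2⟩ : F)) (by
      intro x y h
      exact Subtype.ext (congrArg (fun z : F => (z : A)) h))
    have := Fintype.ofFinite Q
    have := Fintype.ofFinite H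
    rw [Nat.card_eq_fintype_card] at hQc
    -- the image of `X` contains all `card Q`-th powers
    have himg : ∀ v : G ⧸ elemSub p G, v ^ Fintype.card Q ∈ X.map (QuotientGroup.mk' (elemSub p G)) := by
      intro v
      refine (Subgroup.closure_le _).mpr ?_ (hpQ.pow_mem_closure hCQ v)
      rintro x ⟨f, hf, c, hc, rfl⟩
      obtain ⟨c, rfl⟩ := QuotientGroup.mk_surjective c
      obtain ⟨d, hd, hdc⟩ := lift_fixed hp hF (elemSub p G) inferInstance hinv
        (fun n _ h => hCF n h) c (fun h hh => QuotientGroup.eq.mp (hc h hh).symm)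
      refine ⟨f • d, Subgroup.subset_closure ⟨f, hQF hf, d, hd, rfl⟩, ?_⟩
      have h1 : (QuotientGroup.mk d : G ⧸ elemSub p G) = QuotientGroup.mk c :=
        QuotientGroup.eq.mpr hdc
      show f • (QuotientGroup.mk d : G ⧸ elemSub p G) = f • (QuotientGroup.mk c : G ⧸ elemSub p G)
      rw [h1]
    have himg' : ∀ v : G ⧸ elemSub p G, v ∈ X.map (QuotientGroup.mk' (elemSub p G)) := by
      intro v
      have hcop : Nat.Coprime (Fintype.card Q) p :=
        ((Nat.Prime.coprime_iff_not_dvd hpp).mpr hQc).symm
      obtain ⟨m, -, hm⟩ := Nat.exists_mul_mod_eq_one_of_coprime hcop hpp.one_lt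
      have h1 := Subgroup.pow_mem _ (himg v) m
      have h2 : Fintype.card Q * m = p * (Fintype.card Q * m / p) + 1 := by
        conv_lhs => rw [← Nat.div_add_mod (Fintype.card Q * m) p]
        rw [hm]
      rw [← pow_mul, h2, pow_succ, pow_mul, elemQuot_pow, one_pow, one_mul] at h1
      exact h1
    rw [Subgroup.eq_top_iff']
    intro g
    obtain ⟨x, hx, hxg⟩ := himg' (QuotientGroup.mk g)
    have h1 : x⁻¹ * g ∈ elemSub p G := QuotientGroup.eq.mp hxg
    have h2 := X.mul_mem hx (hMX h1)
    rwa [mul_inv_cancel_left] at h2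

end Generation

end Cfsg.Agent.H522
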