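import Cfsg.Agent.BpExc.NChev
import Cfsg.Agent.BpExc.Asm

/-!
# Elements of order `r` fixed by automorphisms, in `D.group k` (helper522)

`k` algebraically closed of characteristic `r`, locally finite; `σ` a Frobenius frame automorphism of `D.group k`.
* `exists_fixed_level` : `τ` fixes the torus element `t` and preserves the positive roots of `Sx t ≠ ∅`:
  `C(t) ∩ Y^τ` contains an element of order `r`;
* `exists_relt` : the same for `σ x = x`, `x` conjugate to `t ∈ T`, `Sx t ≠ ∅`;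
* `exists_relt_fld` : automorphisms `conj c * φ` fix an element of order `r`;
* `main` : the conclusion for automorphisms of a subgroup `K₀` of `Y^σ`.
-/

set_option autoImplicit false
set_option linter.unusedSectionVars false

namespace Cfsg.Agent.H522.FldElt

open CoxeterSystem Cfsg Cfsg.Lie Cfsg.Lie.ChevalleyDatum
open Cfsg.Agent.ChevalleyStructure Cfsg.Agent.ChevalleyStructure.Elts Cfsg.Agent.ChevalleyStructure.CoxeterGeom
  Cfsg.Agent.ChevalleyStructure.CoxeterGeomTypes Cfsg.Agent.ChevalleyStructure.NPerm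
open Cfsg.Agent.Tits.Roots Cfsg.Agent.Tits.Core Cfsg.Agent.Nodes Cfsg.Agent.Nodes.Reps Cfsg.Agent.Nodes.BNOf
  Cfsg.Agent.Nodes.RGDChev Cfsg.Agent.Nodes.Bruhat Cfsg.Agent.Nodes.NormalForm
open Cfsg.Agent.KFacts.RgdField Cfsg.Agent.KFacts.RgdChevCoord
open Cfsg.Agent.BpExc Cfsg.Agent.BpExc.TorCent Cfsg.Agent.BpExc.TorChev Cfsg.Agent.BpExc.Tow
  Cfsg.Agent.BpExc.TowChev Cfsg.Agent.BpExc.Fr Cfsg.Agent.BpExc.Pair Cfsg.Agent.BpExc.LangFr Cfsg.Agent.GpExc.Field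
  Cfsg.Agent.BpExc.NInst Cfsg.Agent.BpExc.NChev
open scoped commutatorElement

universe u v

/-! ### elements of order `r` -/

theorem exists_order {G : Type*} [Group G] {r k : ℕ} {u : G} (h : u ^ r ^ k = 1) (h1 : u ≠ 1) :
    ∃ j : ℕ, u ^ r ^ j ≠ 1 ∧ (u ^ r ^ j) ^ r = 1 := by
  classical
  have hex : ∃ j, u ^ r ^ j = 1 := ⟨k, h⟩
  have h0 : Nat.find hex ≠ 0 := by
    intro h0
    have h2 := Nat.find_spec hex
    rw [h0, pow_zero, pow_one] at h2
    exact h1 h2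
  obtain ⟨m, hm⟩ := Nat.exists_eq_succ_of_ne_zero h0
  refine ⟨m, Nat.find_min hex (by rw [hm]; exact Nat.lt_succ_self m), ?_⟩
  have h2 := Nat.find_spec hex
  rw [hm, Nat.succ_eq_add_one, pow_succ, pow_mul] at h2
  exact h2

variable {D : ChevalleyDatum} {l : ℕ} {M : CoxeterMatrix (Fin l)} (hp : IsType D l M) {k : Type u} [Field k]
  {W : Type v} [Group W] (cs : CoxeterSystem M W)

/-- **Fixed elements of order `r` in `C(t)`.** -/
theorem exists_fixed_level [IsAlgClosed k] (hk : LocFin k) {r e : ℕ} [Fact r.Prime] [CharP k r]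
    {t : ↥(D.group k)} (ht : t ∈ TT D k) (he : 0 < e) {τ : MulAut ↥(D.group k)}
    (hτ : IsFrob r e τ) {g : (Fin l → ℤ) ≃+ (Fin l → ℤ)} (F : Fr cs hp.isCartan (TT D k) (XX D l k) τ g)
    (hτt : τ t = t) (hpos : ∀ a ∈ Sx cs hp.isCartan (ch hp) t, 0 ≤ a → 0 ≤ g a) [Finite ↥(fixC τ t)]
    (hne : (Sx cs hp.isCartan (ch (K := k) hp) t).Nonempty) :
    ∃ u ∈ fixC τ t, u ≠ 1 ∧ u ^ r = 1 := by
  have := finite_W hp cs
  have H := tow (k := k) hp cs hk r
  have C := coordsL (k := k) hp cs hk r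
  have hA := chAddL (k := k) hp cs hk r
  have hG := GG_eq_top (k := k) hp cs hk
  have hTL := TL_eq (k := k) hp hk
  have hXL := XL_eq (k := k) hp hk
  have F' : Fr cs hp.isCartan (TL (Tj hp (k := k))) (XL (Xj hp (k := k))) τ g := by rw [hTL, hXL]; exact F
  have hsep : ∀ a, IsRoot cs hp.isCartan a → ∃ s ∈ TL (Tj hp (k := k)), ∀ u ∈ XL (Xj hp (k := k)) a,
      u * s = s * u → u = 1 := by
    rw [hTL, hXL]
    exact fun a ha => sep hp cs hk r ha
  -- the level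
  obtain ⟨E1, hE1⟩ := HX.fr_level hp cs hk hτ F
  obtain ⟨E2, hE2⟩ := HX.exists_fixed_level hp cs hk he hτ F
  obtain ⟨E3, hE3⟩ := exists_TT hp hk ht
  obtain ⟨E4, hE4⟩ := exists_level_finite hp hk (S := (fixC τ t : Set ↥(D.group k))) (Set.toFinite _)
  obtain ⟨E5, a1, a2⟩ := dir_lev hk E1 E2
  obtain ⟨E6, a3, a4⟩ := dir_lev hk E3 E4
  obtain ⟨E, b1, b2⟩ := dir_lev hk E5 E6
  have FE := hE1 E (a1.trans b1)
  have hX : ∀ a, Xj hp E a ≤ XX D l k a := fun a => by rw [← hXL]; exact le_XL E a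
  have hT : Tj hp E ≤ TT D k := by rw [← hTL]; exact le_TL E
  obtain ⟨t', ht', htt⟩ := hE3 E (a3.trans b2)
  have htE : t ∈ Tj hp E := ⟨t', ht', htt⟩
  have Dt : NInst.Dat (H.rgd E) t (Sx cs hp.isCartan (ch hp) t) τ g :=
    { mem := htE
      root := fun a ha => ha.1
      neg := fun a ha => chi_neg C ht hA ha
      cent := fun a ha => (hX a).trans (X_le_centralizer C ht ha)
      of_cent := fun a ha u hu hu1 hc => mem_Sx_of_centralizer C ht ha (hX a hu) hu1 hc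
      fr := FE
      fix := hτt
      pos := hpos
      rp := fun w kk hkk => by
        obtain ⟨w', hw'⟩ := rp_fr H hG hsep F' (H.rp_up hkk)
        obtain ⟨k0, h0, h0'⟩ := H.exists_rp w'
        have h1 : k0⁻¹ * τ kk ∈ TT D k := by
          rw [← hTL]
          exact h0'.unique hw'
        have h2 : k0⁻¹ * τ kk ∈ (emb hp.inList E.1.subtype).range := by
          rw [← GGj_eq hp cs]
          refine mul_mem (inv_mem ?_) (fr_GG FE ?_)
          · exact (mem_GG (H.rgd E)).2 ⟨w', cell_of_rp (h0 E)⟩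
          · exact (mem_GG (H.rgd E)).2 ⟨w, cell_of_rp hkk⟩
        have h3 : k0⁻¹ * τ kk ∈ Tj hp E := (HX.mem_Tj hp cs hk r).2 ⟨h1, h2⟩
        have e : τ kk = k0 * (k0⁻¹ * τ kk) := by group
        exact ⟨w', by rw [e]; exact (h0 E).mul_mem_right h3⟩
      comm := fun x hx y hy hxy hxy' a ha b hb => by
        have h1 := CommZ.comm_mem_Zj hp cs E hx.1 hy.1 hxy hxy' ha hb
        refine RGD.Sup_mono (S := CommZ.combZ cs hp x y) ?_ h1
        rintro z ⟨hz, i, j, hi, hj, e⟩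
        obtain ⟨φ, h0, hadd, hφ⟩ := hA t ht
        have hn : ∀ (i : ℕ) (x : Fin l → ℤ), φ (i • x) = φ x ^ i := by
          intro i x
          induction i with
          | zero => rw [zero_smul, pow_zero, h0]
          | succ i ih => rw [succ_nsmul, hadd, ih, pow_succ]
        refine ⟨⟨hz, ?_⟩, i, j, hi, hj, e⟩
        rw [hφ z hz, e, hadd, hn, hn, ← hφ x hx.1, ← hφ y hy.1, hx.2, hy.2, one_pow, one_pow, one_mul]
      fixed := fun a ha => hE2 E (a2.trans b1) a ha.1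
      le := fun y hy => by
        rw [GGj_eq hp cs]
        exact hE4 E (a4.trans b2) hy }
  obtain ⟨a0, ha0⟩ := hne
  have hneP : (SP (Sx cs hp.isCartan (ch (K := k) hp) t)).Nonempty := by
    rcases (Dt.root a0 ha0).pos_or_neg with h1 | h1
    · exact ⟨a0, ha0, h1⟩
    · exact ⟨-a0, Dt.neg a0 ha0, neg_nonneg.2 h1⟩
  obtain ⟨u, hu, hu1, hτu⟩ := Dt.exists_fixed hneP (fun _ h => h) (fun a ha => ⟨Dt.g_mem ha.1, Dt.pos a ha.1 ha.2⟩)
    (by
      rintro a ha b hb z hz ⟨i, j, hi, hj, rfl⟩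
      refine ⟨hz, ?_⟩
      exact add_nonneg (nsmul_nonneg ha.2 i) (nsmul_nonneg hb.2 j))
  have huc : u * t = t * u := Subgroup.mem_centralizer_singleton_iff.1 (Dt.U_cent hu)
  have huU : u ∈ RGD.Sup (Xj hp E) (RGD.Pos cs hp.isCartan) := Dt.U_le hu
  obtain ⟨m, hm⟩ := (H.rgd E).isPGroup_Upos ⟨u, huU⟩
  have hm' : u ^ r ^ m = 1 := congrArg Subtype.val hm
  obtain ⟨j, hj1, hj⟩ := exists_order hm' hu1
  exact ⟨u ^ r ^ j, pow_mem (mem_fixC.2 ⟨hτu, huc⟩) _, hj1, hj⟩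

include hp cs in
/-- **The pair reduction**, with the torus element explicit. -/
theorem exists_pair' [IsAlgClosed k] (hk : LocFin k) {r : ℕ} [Fact r.Prime] [CharP k r]
    {σ : MulAut ↥(D.group k)} {g : (Fin l → ℤ) ≃+ (Fin l → ℤ)} {e : ℕ} (he : 0 < e) (hσ : IsFrob r e σ)
    (Fσ : Fr cs hp.isCartan (TT D k) (XX D l k) σ g) [Finite ↥(fixedSubgroup σ)] {x : ↥(D.group k)}
    (hσx : σ x = x) {z : ↥(D.group k)} (hz : z * x * z⁻¹ ∈ TT D k) :
    ∃ (τ : MulAut ↥(D.group k)) (g' : (Fin l → ℤ) ≃+ (Fin l → ℤ)),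
      IsFrob r e τ ∧ Fr cs hp.isCartan (TT D k) (XX D l k) τ g' ∧ τ (z * x * z⁻¹) = z * x * z⁻¹ ∧
      (∀ a ∈ Sx cs hp.isCartan (ch hp) (z * x * z⁻¹), 0 ≤ a → 0 ≤ g' a) ∧ Finite ↥(fixedSubgroup τ) ∧
      Nonempty (↥(fixC τ (z * x * z⁻¹)) ≃* ↥(fixC σ x)) := by
  have := finite_W hp cs
  have hTL := TL_eq hp hk
  have hXL := XL_eq hp hk
  have C := coordsL hp cs hk r
  have hA := chAddL hp cs hk r
  have hG := GG_eq_top hp cs hk
  have Fσ' : Fr cs hp.isCartan (TL (Tj hp (k := k))) (XL (Xj hp (k := k))) σ g := by rw [hTL, hXL]; exact Fσ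
  set t : ↥(D.group k) := z * x * z⁻¹ with ht
  have ht' : t ∈ TL (Tj hp (k := k)) := by rw [hTL]; exact hz
  have C' : Coords cs hp.isCartan (TL (Tj hp (k := k))) (nc hp k) (XL (Xj hp (k := k))) (xc hp) (ch hp) := by
    rw [hTL, hXL]; exact C
  have hA' : ChAdd cs hp.isCartan (TL (Tj hp (k := k))) (ch (K := k) hp) := by rw [hTL]; exact hA
  obtain ⟨z', k', g', h1, h2, h3, h4, h5⟩ := pair_reduction (tow hp cs hk r) C' hA' hG Fσ' hσx (z := z⁻¹) (t := t)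
    (by rw [ht]; group) ht' (fun k' g' F' htt m hm => by
      have h1 := fun a => F'.mem_Sx C' ht' htt a
      rw [hTL, hXL] at F'
      rw [hXL] at hm ⊢
      exact lang_fr hp cs he (hσ.conj_mul k') F' (S := Sx cs hp.isCartan (ch hp) t) (fun a ha => ha.1)
        (fun a ha => (h1 a).2 ha) hm)
  rw [hTL, hXL] at h3
  exact ⟨MulAut.conj k' * σ, g', hσ.conj_mul k', h3, h4, h5, Asm.finite_conj h2, ⟨fixEquiv h1 h2⟩⟩

include hp cs in
/-- **Fixed elements of order `r` in `C(x)`.** -/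
theorem exists_relt [IsAlgClosed k] (hk : LocFin k) {r : ℕ} [Fact r.Prime] [CharP k r]
    {σ : MulAut ↥(D.group k)} {g : (Fin l → ℤ) ≃+ (Fin l → ℤ)} {e : ℕ} (he : 0 < e) (hσ : IsFrob r e σ)
    (Fσ : Fr cs hp.isCartan (TT D k) (XX D l k) σ g) [Finite ↥(fixedSubgroup σ)] {x : ↥(D.group k)}
    (hσx : σ x = x) {z : ↥(D.group k)} (hz : z * x * z⁻¹ ∈ TT D k)
    (hne : (Sx cs hp.isCartan (ch (K := k) hp) (z * x * z⁻¹)).Nonempty) :
    ∃ u, σ u = u ∧ u * x = x * u ∧ u ≠ 1 ∧ u ^ r = 1 := by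
  obtain ⟨τ, g', h1, h2, h3, h4, hfin, ⟨φ⟩⟩ := exists_pair' hp cs hk he hσ Fσ hσx hz
  have hfin' : Finite ↥(fixC τ (z * x * z⁻¹)) := Finite.of_injective (Subgroup.inclusion (Asm.fixC_le _ _))
    (Subgroup.inclusion_injective _)
  obtain ⟨u, hu, hu1, hur⟩ := exists_fixed_level hp cs hk hz he h1 h2 h3 h4 hne
  have h5 : φ ⟨u, hu⟩ ≠ 1 := by
    rw [Ne, map_eq_one_iff φ φ.injective]
    exact fun h => hu1 (congrArg Subtype.val h)
  have h6 : φ ⟨u, hu⟩ ^ r = 1 := by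
    rw [← map_pow, map_eq_one_iff φ φ.injective]
    exact Subtype.ext hur
  obtain ⟨h7, h8⟩ := mem_fixC.1 (φ ⟨u, hu⟩).2
  exact ⟨(φ ⟨u, hu⟩ : ↥(D.group k)), h7, h8, fun h => h5 (Subtype.ext h), congrArg Subtype.val h6⟩

include hp cs in
theorem Sx_one (hk : LocFin k) (r : ℕ) [Fact r.Prime] [CharP k r] {a : Fin l → ℤ}
    (ha : IsRoot cs hp.isCartan a) : a ∈ Sx cs hp.isCartan (ch (K := k) hp) 1 := by
  have := finite_W hp cs
  have C := coordsL (k := k) hp cs hk r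
  refine ⟨ha, ?_⟩
  have h1 := (C.coord a ha).chi_mul (one_mem (TT D k)) (one_mem _)
  rw [mul_one] at h1
  exact (mul_eq_left₀ ((C.coord a ha).chi_ne_zero (one_mem _))).1 h1.symm

include hp cs in
/-- **Field type automorphisms.** -/
theorem exists_relt_fld [IsAlgClosed k] (hk : LocFin k) (hl : Nonempty (Fin l)) {r : ℕ} [Fact r.Prime] [CharP k r]
    {φ : MulAut ↥(D.group k)} {g : (Fin l → ℤ) ≃+ (Fin l → ℤ)} {e : ℕ} (he : 0 < e) (hφ : IsFrob r e φ)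
    (Fφ : Fr cs hp.isCartan (TT D k) (XX D l k) φ g) (c : ↥(D.group k))
    [Finite ↥(fixedSubgroup (MulAut.conj c * φ))] :
    ∃ u, (MulAut.conj c * φ) u = u ∧ u ≠ 1 ∧ u ^ r = 1 := by
  obtain ⟨z, hz⟩ := lang_all hp cs he hφ Fφ 1 c
  rw [map_one, one_mul] at hz
  have hfin : Finite ↥(fixedSubgroup φ) := Finite.of_equiv _ (Good.fieldEquiv hz).symm.toEquiv
  obtain ⟨i⟩ := hl
  obtain ⟨u, h1, -, h3, h4⟩ := exists_relt hp cs hk he hφ Fφ (x := 1) (map_one φ) (z := 1)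
    (by rw [mul_one, mul_inv_cancel]; exact one_mem _)
    ⟨sr i, by rw [mul_one, mul_inv_cancel]; exact Sx_one hp cs hk r (isRoot_sr cs hp.isCartan i)⟩
  refine ⟨z⁻¹ * u * z, ?_, ?_, ?_⟩
  · show c * φ (z⁻¹ * u * z) * c⁻¹ = z⁻¹ * u * z
    rw [map_mul, map_mul, map_inv, h1, hz]; group
  · intro h5
    apply h3
    have h6 : u = z * (z⁻¹ * u * z) * z⁻¹ := by group
    rw [h6, h5]; group
  · have h5 := conj_pow (i := r) (a := z⁻¹) (b := u)
    rw [inv_inv] at h5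
    rw [h5, h4]; group

include hp cs in
/-- **The main step.** An automorphism `x` of prime order `p` of `K₀ ≤ Y^σ` fixes an element of order `r` or is
induced by an element `y` of order `p` of `Y^σ` conjugate to a torus element `t` with `Sx t = ∅`. -/
theorem main [IsAlgClosed k] (hk : LocFin k) (hl : Nonempty (Fin l)) {r p : ℕ} [Fact r.Prime] [CharP k r]
    (hT : ∀ y : ↥(D.group k), y ^ p = 1 → ∃ z : ↥(D.group k), z * y * z⁻¹ ∈ TT D k)
    {σ : MulAut ↥(D.group k)} {g : (Fin l → ℤ) ≃+ (Fin l → ℤ)} {e : ℕ} (he : 0 < e) (hσ : IsFrob r e σ)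
    (Fσ : Fr cs hp.isCartan (TT D k) (XX D l k) σ g) [Finite ↥(fixedSubgroup σ)]
    {K₀ : Type v} [Group K₀] (ι : K₀ →* ↥(D.group k)) (hι : Function.Injective ι)
    (hr : ∀ y, σ y = y → y ^ r = 1 → ∃ a, ι a = y)
    (hfam : ∀ x : MulAut K₀, orderOf x = p →
      (∃ y : ↥(D.group k), y ^ p = 1 ∧ σ y = y ∧ ∀ a, ι (x a) = y * ι a * y⁻¹) ∨
      ∃ (i : ℕ) (c : ↥(D.group k)) (φ : MulAut ↥(D.group k)) (g' : (Fin l → ℤ) ≃+ (Fin l → ℤ)) (e' : ℕ),
        i.Coprime p ∧ 0 < e' ∧ IsFrob r e' φ ∧ Fr cs hp.isCartan (TT D k) (XX D l k) φ g' ∧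
        fixedSubgroup (MulAut.conj c * φ) ≤ fixedSubgroup σ ∧ ∀ a, ι ((x ^ i) a) = (MulAut.conj c * φ) (ι a))
    {x : MulAut K₀} (hx : orderOf x = p) (hfix : ∀ s : K₀, x s = s → s ^ r = 1 → s = 1) :
    ∃ y z : ↥(D.group k), y ^ p = 1 ∧ σ y = y ∧ (∀ a, ι (x a) = y * ι a * y⁻¹) ∧ z * y * z⁻¹ ∈ TT D k ∧
      Sx cs hp.isCartan (ch (K := k) hp) (z * y * z⁻¹) = ∅ := by
  have hcon : ∀ u : ↥(D.group k), σ u = u → u ≠ 1 → u ^ r = 1 → (∀ s : K₀, ι s = u → x s = s) → False := by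
    intro u h1 h2 h3 h4
    obtain ⟨s, hs⟩ := hr u h1 h3
    apply h2
    rw [← hs, hfix s (h4 s hs) (hι (by rw [map_pow, hs, h3, map_one])), map_one]
  rcases hfam x hx with ⟨y, hyp, hσy, hy⟩ | ⟨i, c, φ, g', e', hi, he', hφ, Fφ, hle, hy⟩
  · obtain ⟨z, hz⟩ := hT y hyp
    refine ⟨y, z, hyp, hσy, hy, hz, ?_⟩
    by_contra hne
    obtain ⟨u, h1, h2, h3, h4⟩ := exists_relt hp cs hk he hσ Fσ hσy hz (Set.nonempty_iff_ne_empty.2 hne)
    refine hcon u h1 h3 h4 fun s hs => hι ?_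
    rw [hy, hs, ← h2, mul_inv_cancel_right]
  · exfalso
    have hfin : Finite ↥(fixedSubgroup (MulAut.conj c * φ)) :=
      Finite.of_injective (Subgroup.inclusion hle) (Subgroup.inclusion_injective _)
    obtain ⟨u, h1, h2, h3⟩ := exists_relt_fld hp cs hk hl he' hφ Fφ c
    refine hcon u (hle h1) h2 h3 fun s hs => ?_
    have h4 : (x ^ i) s = s := hι (by rw [hy, hs, h1])
    have h5 : x ^ p = 1 := by rw [← hx]; exact pow_orderOf_eq_one x
    have h6 : s ∈ fixedSubgroup (x ^ i) := h4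
    rw [Glue.fixedSubgroup_pow h5 hi] at h6
    exact h6

end Cfsg.Agent.H522.FldElt
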