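import Cfsg.Agent.BpTri.Nodes
import Cfsg.Agent.FixOdd.TwOf
import Cfsg.Agent.FixOdd.Trans
import Cfsg.Agent.FixBN.OfBN
import Cfsg.Agent.FixBN.TraceSys
import Cfsg.Agent.OddHalf.Table.AutRGD
import Cfsg.Agent.Nodes.Bruhat
import Cfsg.Agent.Nodes.Unique

/-!
# Trialities fix elements of order `r` (helper522)

`Y` a finite group with a root group datum of type `D₄` and characteristic `r`, `x` an automorphism of order three:
`x` is type preserving or fixes an element of order `r`.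

* `exists_fixed_of_tri` : the argument in the unipotent radical of an invariant panel of central type;
* `fix_or_type` : the theorem.
-/

set_option autoImplicit false
set_option linter.unusedSectionVars false

open scoped Pointwise

namespace Cfsg.Agent.H522.FldTri

open CoxeterSystem Cfsg.Agent.ChevalleyStructure.CoxeterGeom Cfsg.Agent.Tits.Roots Cfsg.Agent.Tits.Core
  Cfsg.Agent.Tits.Core.Bldg Cfsg.Agent.Tits.Exchange Cfsg.Agent.Tits.RootComb Cfsg.Agent.Nodes.Comb Cfsg.Agent.Nodes.Reps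
  Cfsg.Agent.Nodes.BNOf Cfsg.Agent.Nodes.BNOf.RGD Cfsg.Agent.Tits.OfBN Cfsg.Agent.FixBN
  Cfsg.Agent.OddHalf.Table.AutRGD Cfsg.Agent.BpTri

/-! ### the action on the building -/

section Bld

variable {I : Type*} {M : CoxeterMatrix I} {W : Type*} [Group W] {cs : CoxeterSystem M W} {C : Type*}
  {Δ : Bldg cs C} {G : Type*} [Group G] [MulAction G C] {p : ℕ}

/-- `θ` maps the `K`-residues to the `L`-residues if `σ` maps `K` onto `L`. -/
theorem map_Res_iff (t : FixOdd.Tw Δ G) {K L : Set I} (h : ∀ i, i ∈ K ↔ t.σ i ∈ L) (x y : C) :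
    t.θ y ∈ Δ.Res L (t.θ x) ↔ y ∈ Δ.Res K x := by
  have hφ' : ∀ i, t.φ.symm (cs.simple i) = cs.simple (t.σ.symm i) := by
    intro i
    rw [MulEquiv.symm_apply_eq, t.φ_simple, Equiv.apply_symm_apply]
  have key : ∀ (f : W ≃* W) (s : Equiv.Perm I) (A B : Set I), (∀ i, f (cs.simple i) = cs.simple (s i)) →
      (∀ i ∈ A, s i ∈ B) → ∀ w ∈ WJ cs A, f w ∈ WJ cs B := by
    intro f s A B hf hs w hw
    unfold WJ at hw
    induction hw using Subgroup.closure_induction with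
    | mem x hx =>
      obtain ⟨i, hi, rfl⟩ := hx
      rw [hf]
      exact simple_mem_WJ cs (hs i hi)
    | one => rw [map_one]; exact one_mem _
    | mul x y _ _ hx hy => rw [map_mul]; exact mul_mem hx hy
    | inv x _ hx => rw [map_inv]; exact inv_mem hx
  rw [Δ.mem_Res, Δ.mem_Res, t.δ_θ]
  constructor
  · intro h1
    have h2 := key t.φ.symm t.σ.symm L K hφ' (fun i hi => by rw [h, Equiv.apply_symm_apply]; exact hi) _ h1
    rwa [MulEquiv.symm_apply_apply] at h2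
  · exact key t.φ t.σ K L t.φ_simple (fun i hi => (h i).1 hi) _

/-- An automorphism of order three without fixed points: `u * τ u * τ (τ u) = 1`. -/
theorem cube_eq_one (τ : MulAut G) (h3 : ∀ g, τ (τ (τ g)) = g) {U : Subgroup G} [Finite U]
    (hU : ∀ g ∈ U, τ g ∈ U) (hfix : ∀ g ∈ U, τ g = g → g = 1) {u : G} (hu : u ∈ U) : u * τ u * τ (τ u) = 1 := by
  let f : U → U := fun w => ⟨(w : G)⁻¹ * τ w, mul_mem (inv_mem w.2) (hU _ w.2)⟩
  have hf : Function.Injective f := by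
    intro v w h
    have h1 : (v : G)⁻¹ * τ v = (w : G)⁻¹ * τ w := congrArg Subtype.val h
    have h2 : (w : G) * (v : G)⁻¹ = 1 := by
      refine hfix _ (mul_mem w.2 (inv_mem v.2)) ?_
      rw [map_mul, map_inv]
      have h3 : τ w = w * (v : G)⁻¹ * τ v := by
        rw [mul_assoc, h1, mul_inv_cancel_left]
      rw [h3, mul_inv_cancel_right]
    exact Subtype.ext (mul_inv_eq_one.1 h2).symm
  obtain ⟨w, hw⟩ := (Finite.injective_iff_surjective.1 hf) ⟨u, hu⟩
  have h1 : (w : G)⁻¹ * τ w = u := congrArg Subtype.val hw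
  rw [← h1, map_mul, map_mul, map_inv, map_inv, h3]
  group

/-- **The argument in the unipotent radical of an invariant panel.** -/
theorem exists_fixed_of_tri [Finite G] (S : Sys Δ G p) {t : FixOdd.Tw Δ G} (ho : t.Ord 3) {a e b c : I}
    (n : Nodes4 cs a e b c)
    (_ha : t.σ a = b) (hb : t.σ b = c) (hc : t.σ c = a) (he : t.σ e = e) {x : C} (hx : t.θ x ∈ Δ.Res {e} x)
    {u : G} (hu : u ∈ S.UR (Δ.Res {e} x)) (hub : ∀ y ∈ Δ.Res {e, b} x, u • y = y)
    (huc : ∀ y ∈ Δ.Res {e, c} x, u • y = y) {y₀ : C} (hy₀ : y₀ ∈ Δ.Res {e, a} x) (hua : u • y₀ ≠ y₀) :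
    ∃ v ∈ S.UR (Δ.Res {e} x), t.τ v = v ∧ v ≠ 1 := by
  by_contra hcon
  push Not at hcon
  have hcube : ∀ y, t.θ (t.θ (t.θ y)) = y := by
    intro y
    have h1 : (t.θ ^ 3 : Equiv.Perm C) y = y := by rw [ho.θ]; rfl
    exact h1
  have hcubeτ : ∀ y, t.τ (t.τ (t.τ y)) = y := by
    intro y
    have h1 : (t.τ ^ 3 : MulAut G) y = y := by rw [ho.τ]; rfl
    exact h1
  -- the residues
  have hRe : ∀ y z, t.θ z ∈ Δ.Res {e} (t.θ y) ↔ z ∈ Δ.Res {e} y := map_Res_iff t (fun i => by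
    rw [Set.mem_singleton_iff, Set.mem_singleton_iff]
    constructor
    · rintro rfl; exact he
    · intro h2; exact t.σ.injective (h2.trans he.symm))
  have hpair : ∀ {i j : I}, t.σ i = j → ∀ y z, t.θ z ∈ Δ.Res {e, j} (t.θ y) ↔ z ∈ Δ.Res {e, i} y := by
    intro i j hij
    refine map_Res_iff t (fun k => ?_)
    rw [Set.mem_insert_iff, Set.mem_singleton_iff, Set.mem_insert_iff, Set.mem_singleton_iff]
    constructor
    · rintro (rfl | rfl)
      · exact Or.inl he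
      · exact Or.inr hij
    · rintro (h | h)
      · exact Or.inl (t.σ.injective (h.trans he.symm))
      · exact Or.inr (t.σ.injective (h.trans hij.symm))
  have hx' : ∀ j, t.θ x ∈ Δ.Res {e, j} x := fun j => Δ.Res_mono (Set.singleton_subset_iff.2 (Set.mem_insert _ _)) x hx
  -- moving the fixed residues
  have hmove : ∀ {i j : I}, t.σ i = j → ∀ {v : G}, (∀ y ∈ Δ.Res {e, i} x, v • y = y) →
      ∀ y ∈ Δ.Res {e, j} x, t.τ v • y = y := by
    intro i j hij v hv y hy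
    obtain ⟨z, rfl⟩ := t.θ.surjective y
    rw [← t.θ_smul]
    congr 1
    apply hv
    rw [← hpair hij, Δ.Res_eq_of_mem (hx' j)]
    exact hy
  -- the unipotent radical
  have hUτ : ∀ g ∈ S.UR (Δ.Res {e} x), t.τ g ∈ S.UR (Δ.Res {e} x) := by
    intro g hg y hy
    obtain ⟨z, rfl⟩ := t.θ.surjective y
    refine FixOdd.Tw.τ_mem_U S t (hg z ?_)
    rw [← hRe, Δ.Res_eq_of_mem hx]
    exact hy
  have h1 := cube_eq_one t.τ hcubeτ hUτ hcon hu
  have h2 := hmove hc huc
  have h3 := hmove hc (hmove hb hub)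
  apply hua
  have h4 : u = (t.τ (t.τ u))⁻¹ * (t.τ u)⁻¹ := by
    rw [mul_assoc] at h1
    rw [← mul_inv_rev]
    exact eq_inv_of_mul_eq_one_left h1
  rw [h4, mul_smul]
  have h5 : (t.τ u)⁻¹ • y₀ = y₀ := by rw [inv_smul_eq_iff, h2 _ hy₀]
  rw [h5, inv_smul_eq_iff, h3 _ hy₀]

end Bld

/-! ### root group data -/

section RGD

variable {I W Y : Type*} [Fintype I] [DecidableEq I] [Group W] [Group Y] {M : CoxeterMatrix I}
variable {cs : CoxeterSystem M W} {A : I → I → ℤ} {h : IsCartan M A} {r : ℕ} {T : Subgroup Y} {n : I → Y}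
  {X : (I → ℤ) → Subgroup Y}

/-- the positive roots with positive coefficient at `i` -/
def PosAt (cs : CoxeterSystem M W) (h : IsCartan M A) (i : I) : Set (I → ℤ) := {x | IsRoot cs h x ∧ 0 ≤ x ∧ 0 < x i}

theorem cj_n_PosAt (R : RGD cs h r T n X) {i j : I} (hij : j ≠ i) :
    cj (n j) (Sup X (PosAt cs h i)) = Sup X (PosAt cs h i) := by
  have key : cj (n j) (Sup X (PosAt cs h i)) ≤ Sup X (PosAt cs h i) := by
    rw [cj_Sup]
    refine iSup_le ?_
    rintro ⟨y, hy, hy0, hyi⟩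
    rw [R.conj j y hy]
    have hyj : y ≠ sr j := by
      rintro rfl
      rw [sr_ne hij.symm] at hyi
      exact lt_irrefl _ hyi
    refine le_Sup ⟨hy.act _, hy.simple_nonneg hy0 j hyj, ?_⟩
    rw [rep_simple_eq, Pi.sub_apply, Pi.smul_apply, sr_ne hij.symm, smul_zero, sub_zero]
    exact hyi
  apply le_antisymm key
  have h2 : n j * n j ∈ T := by
    have := R.nsys.rel j j
    rwa [M.diagonal, pow_one] at this
  have h3 : cj (n j * n j) (Sup X (PosAt cs h i)) = Sup X (PosAt cs h i) := by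
    rw [cj_Sup]
    exact iSup_congr fun z => R.tor z.1 z.2.1 _ h2
  calc Sup X (PosAt cs h i) = cj (n j) (cj (n j) (Sup X (PosAt cs h i))) := by rw [← cj_mul, h3]
    _ ≤ cj (n j) (Sup X (PosAt cs h i)) := cj_mono _ key

/-- `Sup X (PosAt i)` is normalised by the maximal parabolic subgroup. -/
theorem B_le_normalizer_PosAt (R : RGD cs h r T n X) (i : I) :
    B cs h T X ≤ Subgroup.normalizer (Sup X (PosAt cs h i) : Set Y) := by
  refine sup_le (R.T_le_normalizer fun _ hx => hx.1) (Sup_le fun x hx => R.le_normalizer hx.1 ?_)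
  rintro y ⟨hy, hy0, hyi⟩
  refine ⟨hy, Or.inr ⟨?_, ?_⟩⟩
  · intro he
    have h1 := hx.2 i
    rw [he, Pi.zero_apply, Pi.neg_apply] at h1
    have hyi' : 0 < y i := hyi
    linarith
  · intro z hz
    refine ⟨hz.1, nonneg_of_btwn hx.2 hy0 hz, ?_⟩
    obtain ⟨-, m, a, b, hm, ha, hb, he⟩ := hz
    have h1 := congrFun he i
    rw [Pi.add_apply, Pi.smul_apply, Pi.smul_apply, Pi.smul_apply, smul_eq_mul, smul_eq_mul, smul_eq_mul] at h1
    have h2 : 0 ≤ a * x i := mul_nonneg ha.le (hx.2 i)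
    have h3 : 0 < b * y i := mul_pos hb hyi
    have h4 : 0 < m * z i := by rw [h1]; exact add_pos_of_nonneg_of_pos h2 h3
    exact (mul_pos_iff_of_pos_left hm).1 h4

/-- the parabolic subgroup of type `J` -/
theorem par_le_normalizer (R : RGD cs h r T n X) {i : I} {J : Set I} (hJ : i ∉ J) :
    B cs h T X ⊔ Subgroup.closure (n '' J) ≤ Subgroup.normalizer (Sup X (PosAt cs h i) : Set Y) := by
  refine sup_le (B_le_normalizer_PosAt R i) ((Subgroup.closure_le _).2 ?_)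
  rintro _ ⟨j, hj, rfl⟩
  rw [SetLike.mem_coe, mem_normalizer_iff_cj]
  exact cj_n_PosAt R (fun hji => hJ (hji ▸ hj))

variable [Finite W] (R : RGD cs h r T n X) (hgen : RGD.B cs h T X ⊔ NN cs R.nsys = ⊤)
  [hN : (((R.bnPair hgen).B ⊓ (R.bnPair hgen).N).subgroupOf (R.bnPair hgen).N).Normal]
  (cs' : CoxeterSystem M (WP (R.bnPair hgen)))
  (hcs : ∀ i, cs'.simple i = QuotientGroup.mk
        (⟨(eS R hgen i : Y), (R.bnPair hgen).subset (eS R hgen i).2⟩ : (R.bnPair hgen).N))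

/-- the chambers of a residue of the base chamber -/
theorem mem_par_of_mem_Res {J : Set I} {k : Y}
    (hk : (QuotientGroup.mk k : Y ⧸ (R.bnPair hgen).B) ∈
      (bldg (R.bnPair hgen) (eS R hgen) cs' hcs).Res J (QuotientGroup.mk 1)) :
    k ∈ B cs h T X ⊔ Subgroup.closure (n '' J) := by
  rw [mem_Res, bldg_δ_mk, inv_one, one_mul] at hk
  have key : ∀ w ∈ WJ cs' J, ∃ m : (R.bnPair hgen).N, (m : Y) ∈ Subgroup.closure (n '' J) ∧
      QuotientGroup.mk m = w := by
    intro w hw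
    unfold WJ at hw
    induction hw using Subgroup.closure_induction with
    | mem x hx =>
      obtain ⟨i, hi, rfl⟩ := hx
      rw [hcs]
      exact ⟨_, Subgroup.subset_closure ⟨i, hi, rfl⟩, rfl⟩
    | one => exact ⟨1, one_mem _, rfl⟩
    | mul x y _ _ hx hy =>
      obtain ⟨m, hm, rfl⟩ := hx
      obtain ⟨m', hm', rfl⟩ := hy
      exact ⟨m * m', mul_mem hm hm', rfl⟩
    | inv x _ hx =>
      obtain ⟨m, hm, rfl⟩ := hx
      exact ⟨m⁻¹, inv_mem hm, rfl⟩
  obtain ⟨m, hm, e⟩ := key _ hk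
  have h1 := mem_C_of_wt (R.bnPair hgen) e.symm
  obtain ⟨b, hb, b', hb', e'⟩ := LieExceptional.BNPairCore.mem_C.1 h1
  rw [e']
  exact mul_mem (mul_mem (Subgroup.mem_sup_left hb) (Subgroup.mem_sup_right hm)) (Subgroup.mem_sup_left hb')

/-- `X α_a` lies in the unipotent radicals of the chambers of the residues of type `J ∌ a`. -/
theorem mem_U_of_mem_Res (S : Split (R.bnPair hgen) r (Sup X (Pos cs h))) {a : I} {J : Set I} (haJ : a ∉ J) {u : Y}
    (hu : u ∈ X (sr a)) {y : Y ⧸ (R.bnPair hgen).B}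
    (hy : y ∈ (bldg (R.bnPair hgen) (eS R hgen) cs' hcs).Res J (QuotientGroup.mk 1)) :
    u ∈ OfBN.UU (R.bnPair hgen) (Sup X (Pos cs h)) y := by
  obtain ⟨k, rfl⟩ := QuotientGroup.mk_surjective y
  have h1 := par_le_normalizer R haJ (mem_par_of_mem_Res R hgen cs' hcs hy)
  have h2 : u ∈ Sup X (PosAt cs h a) :=
    le_Sup (S := PosAt cs h a) ⟨isRoot_sr cs h a, sr_nonneg a, by rw [sr_self]; exact one_pos⟩ hu
  have h3 : k⁻¹ * u * k ∈ Sup X (PosAt cs h a) := by
    have h4 := (Subgroup.mem_normalizer_iff.1 (inv_mem h1) u).1 h2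
    rwa [inv_inv] at h4
  exact (OfBN.mem_UU S).2 (Sup_mono (S := PosAt cs h a) (S' := Pos cs h) (fun z hz => ⟨hz.1, hz.2.1⟩) h3)

end RGD

/-! ### the theorem -/

section Main

universe u

variable {I W : Type*} {Y : Type u} [Fintype I] [DecidableEq I] [Group W] [Group Y] {M : CoxeterMatrix I}
variable {cs : CoxeterSystem M W} {A : I → I → ℤ} {h : IsCartan M A} {r : ℕ} {T : Subgroup Y} {n : I → Y}
  {X : (I → ℤ) → Subgroup Y}

section TypePres

variable {K : Type*} [Group K] [Finite K] {P : Cfsg.BNPair K} {U : Subgroup K} {p : ℕ}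
  [Fact p.Prime] [hN : ((P.B ⊓ P.N).subgroupOf P.N).Normal] (S : Split P p U)
  {I : Type*} {M : CoxeterMatrix I} (e : I ≃ P.S) (cs : CoxeterSystem M (WP P))
  (hcs : ∀ i, cs.simple i = QuotientGroup.mk (⟨(e i : K), P.subset (e i).2⟩ : P.N))

include S in
/-- A subgroup containing a conjugate of `B` is mapped to one of its conjugates by a type preserving automorphism
(copy of `BpTri.map_eq_of_type`). -/
theorem map_eq_of_type (t : FixOdd.Tw (bldg P e cs hcs) K) (hσ : ∀ i, t.σ i = i) (L : Subgroup K) {g : K}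
    (hL : ∀ b ∈ P.B, g * b * g⁻¹ ∈ L) :
    ∃ k : K, L.map t.τ.toMonoidHom = L.map (MulAut.conj k).toMonoidHom := by
  have hφ : ∀ w, t.φ w = w := by
    intro w
    have h1 : t.φ.toMonoidHom = MonoidHom.id _ := cs.ext_simple fun i => by
      change t.φ (cs.simple i) = cs.simple i
      rw [t.φ_simple, hσ]
    exact DFunLike.congr_fun h1 w
  have hδ : ∀ x y, (bldg P e cs hcs).δ (t.θ x) (t.θ y) = (bldg P e cs hcs).δ x y := fun x y => by
    rw [t.δ_θ, hφ]
  set x₀ : K ⧸ P.B := QuotientGroup.mk g with hx₀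
  obtain ⟨g₁, hg₁⟩ := QuotientGroup.mk_surjective (t.θ x₀)
  set k : K := g₁ * g⁻¹ with hk
  have hkx : k • x₀ = t.θ x₀ := by
    rw [hx₀, OfBN.smul_mk, hk, inv_mul_cancel_right, hg₁]
  have hiso : ∀ (c : K) x y, (bldg P e cs hcs).δ (c • x) (c • y) = (bldg P e cs hcs).δ x y :=
    (OfBN.sys e cs hcs S).iso
  have hst : ∀ c : K, c • x₀ = x₀ → c ∈ L := by
    intro c hc
    rw [hx₀, OfBN.smul_mk_eq] at hc
    have h1 := hL _ hc
    have h2 : g * (g⁻¹ * c * g) * g⁻¹ = c := by group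
    rwa [h2] at h1
  have key : ∀ m ∈ L, k⁻¹ * t.τ m * k ∈ L := by
    intro m hm
    -- the distances agree
    have h1 : (bldg P e cs hcs).δ x₀ ((k⁻¹ * t.τ m * k) • x₀) = (bldg P e cs hcs).δ x₀ (m • x₀) := by
      rw [mul_smul, mul_smul, hkx, ← hiso k x₀, smul_inv_smul, hkx, ← t.θ_smul, hδ]
    obtain ⟨u, hu, hu2⟩ := OfBN.trans (P := P) (p := p) S h1.symm
    have hux : u • x₀ = x₀ := OfBN.fix S hu
    have h3 : (u * m)⁻¹ * (k⁻¹ * t.τ m * k) ∈ L := by
      apply hst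
      rw [mul_smul, inv_smul_eq_iff, mul_smul u m, hu2]
    have h4 : u * m ∈ L := mul_mem (hst u hux) hm
    have h5 := mul_mem h4 h3
    rwa [mul_inv_cancel_left] at h5
  refine ⟨k, Subgroup.eq_of_le_of_card_ge ?_ ?_⟩
  · rintro _ ⟨m, hm, rfl⟩
    refine ⟨k⁻¹ * t.τ m * k, key m hm, ?_⟩
    change k * (k⁻¹ * t.τ m * k) * k⁻¹ = t.τ m
    group
  · rw [Nat.card_congr (L.equivMapOfInjective _ (MulAut.conj k).injective).toEquiv.symm,
      Nat.card_congr (L.equivMapOfInjective _ t.τ.injective).toEquiv.symm]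

end TypePres

/-- **Automorphisms of order three** of groups with a root group datum of type `D₄`. -/
theorem fix_or_type [Finite W] [Finite Y] [Fact r.Prime] (R : RGD cs h r T n X)
    (hgen : RGD.B cs h T X ⊔ NN cs R.nsys = ⊤) (hcore : (RGD.B cs h T X).normalCore = ⊥) {a e b c : I}
    (N : ∀ (W' : Type u) [Group W'] (cs' : CoxeterSystem M W'), Nodes4 cs' a e b c) {x : MulAut Y} (hx3 : x ^ 3 = 1) :
    (∃ s : Y, x s = s ∧ s ≠ 1 ∧ s ^ r = 1) ∨ ∃ (B : Cfsg.BNPair Y) (U : Subgroup Y), Split B r U ∧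
      ∀ L : Subgroup Y, (∃ g, ∀ b ∈ B.B, g * b * g⁻¹ ∈ L) →
        ∃ k, L.map x.toMonoidHom = L.map (MulAut.conj k).toMonoidHom := by
  classical
  obtain ⟨hN, cs', hcs, hW, S⟩ := exists_setup R hgen hcore
  obtain ⟨t, ht, hθ⟩ := FixOdd.exists_tw S (eS R hgen) cs' hcs x
  have ho : t.Ord 3 := ⟨by rw [ht]; exact hx3, hθ 3 hx3⟩
  have hI : Finite I := inferInstance
  have hC : Tits.OppRes.Cox cs' := inferInstance
  have hinj : Function.Injective cs'.simple := hC.inj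
  have hth := thick (R.bnPair hgen) (eS R hgen) cs' hcs
  by_cases hσ : ∀ i, t.σ i = i
  · refine Or.inr ⟨R.bnPair hgen, _, S, ?_⟩
    rintro L ⟨g, hg⟩
    rw [← ht]
    exact map_eq_of_type S (eS R hgen) cs' hcs t hσ L hg
  left
  push Not at hσ
  have hcube : ∀ y, t.θ (t.θ (t.θ y)) = y := by
    intro y
    have h1 : (t.θ ^ 3 : Equiv.Perm _) y = y := by rw [ho.θ]; rfl
    exact h1
  -- the order of the type permutation
  have h3 : ∀ i, t.σ (t.σ (t.σ i)) = i := by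
    intro i
    apply hinj
    rw [← t.φ_simple, ← t.φ_simple, ← t.φ_simple]
    obtain ⟨y, hy⟩ := (bldg (R.bnPair hgen) (eS R hgen) cs' hcs).exists_δ
      (QuotientGroup.mk 1) (cs'.simple i)
    rw [← hy, ← t.δ_θ, ← t.δ_θ, ← t.δ_θ, hcube, hcube]
  obtain ⟨b', c', n4, hb, hc, ha, he⟩ := (N _ cs').cycle hinj t.φ_simple h3 hσ
  let Sy := OfBN.sys (eS R hgen) cs' hcs S
  have : Fintype (Y ⧸ (R.bnPair hgen).B) := Fintype.ofFinite _
  have hq : PanMod (bldg (R.bnPair hgen) (eS R hgen) cs' hcs) r := fun i x => Sy.card_Pan_eq hth x i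
  -- an invariant panel of type `e`
  obtain ⟨z, hz⟩ := exists_panel (bldg (R.bnPair hgen) (eS R hgen) cs' hcs) hq hinj n4 t.θ
    (map_Res_iff t fun i => by
      rw [Set.mem_ofPred_eq, Set.mem_ofPred_eq, not_iff_not, ← hb, t.σ.injective.eq_iff])
    (map_Res_iff t fun i => by
      rw [Set.mem_ofPred_eq, Set.mem_ofPred_eq, not_iff_not, ← hc, t.σ.injective.eq_iff])
    (map_Res_iff t fun i => by
      rw [Set.mem_ofPred_eq, Set.mem_ofPred_eq, not_iff_not, ← ha, t.σ.injective.eq_iff]) hcube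
  obtain ⟨g, rfl⟩ := QuotientGroup.mk_surjective z
  have hg1 : (QuotientGroup.mk g : Y ⧸ (R.bnPair hgen).B) = g • (QuotientGroup.mk 1 : Y ⧸ (R.bnPair hgen).B) := by
    rw [OfBN.smul_mk, mul_one]
  -- the root element
  obtain ⟨u, hu, hu1⟩ : ∃ u ∈ X (sr a), u ≠ 1 := by
    by_contra hcon
    push Not at hcon
    exact Cfsg.Agent.Nodes.Bruhat.X_ne_bot R (isRoot_sr cs h a) ((Subgroup.eq_bot_iff_forall _).2 hcon)
  have hfixJ : ∀ {J : Set I}, a ∉ J → ∀ y ∈ (bldg (R.bnPair hgen) (eS R hgen) cs' hcs).Res J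
      (QuotientGroup.mk g), (g * u * g⁻¹) • y = y := by
    intro J hJ y hy
    have h1 : g⁻¹ • y ∈ (bldg (R.bnPair hgen) (eS R hgen) cs' hcs).Res J (QuotientGroup.mk 1) := by
      have h2 := Sy.smul_mem_Res (g := g⁻¹) hy
      rwa [hg1, inv_smul_smul] at h2
    have h2 := OfBN.fix S (mem_U_of_mem_Res R hgen cs' hcs S hJ hu h1)
    rw [mul_smul, mul_smul, h2, smul_inv_smul]
  have hUR : g * u * g⁻¹ ∈ Sy.UR ((bldg (R.bnPair hgen) (eS R hgen) cs' hcs).Res {e} (QuotientGroup.mk g)) := by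
    rw [hg1, ← Sy.smul_Res, Sy.conj_mem_UR_iff]
    intro y hy
    exact mem_U_of_mem_Res R hgen cs' hcs S (fun h => n4.ae (Set.mem_singleton_iff.1 h)) hu hy
  -- a chamber which is not fixed
  have hy₀ : (QuotientGroup.mk (n a) : Y ⧸ (R.bnPair hgen).B) ∈
      (bldg (R.bnPair hgen) (eS R hgen) cs' hcs).Res {e, a} (QuotientGroup.mk 1) := by
    rw [mem_Res, bldg_δ_mk, inv_one, one_mul]
    have h1 : wt (R.bnPair hgen) (n a) = cs'.simple a := by
      rw [hcs]
      exact wt_of_mem (R.bnPair hgen) (LieExceptional.BNPairCore.self_mem_C _)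
    rw [h1]
    exact simple_mem_WJ cs' (Set.mem_insert_of_mem _ (Set.mem_singleton _))
  have hne : u • (QuotientGroup.mk (n a) : Y ⧸ (R.bnPair hgen).B) ≠ QuotientGroup.mk (n a) := by
    intro h1
    rw [OfBN.smul_mk_eq] at h1
    have h2 := R.conj_mem' (rp_simple cs R.nsys a) (isRoot_sr cs h a) hu
    rw [inv_simple, rep_simple_sr] at h2
    have h3 : (n a)⁻¹ * u * n a ∈ X (-sr a) ⊓ RGD.B cs h T X := ⟨h2, h1⟩
    rw [Cfsg.Agent.Nodes.Unique.neg_inf_B R, Subgroup.mem_bot] at h3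
    apply hu1
    have h4 : u = n a * ((n a)⁻¹ * u * n a) * (n a)⁻¹ := by group
    rw [h4, h3]
    group
  obtain ⟨v, hv, hτv, hv1⟩ := exists_fixed_of_tri Sy ho n4 hb hc ha he hz hUR
    (hfixJ (fun h => by
      rcases h with h | h
      · exact n4.ae h
      · exact n4.ab h))
    (hfixJ (fun h => by
      rcases h with h | h
      · exact n4.ae h
      · exact n4.ac h))
    (y₀ := g • (QuotientGroup.mk (n a) : Y ⧸ (R.bnPair hgen).B))
    (by rw [hg1]; exact Sy.smul_mem_Res hy₀)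
    (by
      rw [mul_smul, mul_smul, inv_smul_smul]
      exact fun h => hne (smul_left_cancel g h))
  -- a power has order `r`
  have hvp := Sy.UR_isP (Q := (bldg (R.bnPair hgen) (eS R hgen) cs' hcs).Res {e} (QuotientGroup.mk g))
    ⟨_, self_mem_Res _ _ _⟩ ⟨v, hv⟩
  obtain ⟨m, hm⟩ := hvp
  have hm' : v ^ r ^ m = 1 := congrArg Subtype.val hm
  have hex : ∃ j, v ^ r ^ j = 1 := ⟨m, hm'⟩
  have h0 : Nat.find hex ≠ 0 := by
    intro h0
    have h2 := Nat.find_spec hex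
    rw [h0, pow_zero, pow_one] at h2
    exact hv1 h2
  obtain ⟨j, hj⟩ := Nat.exists_eq_succ_of_ne_zero h0
  refine ⟨v ^ r ^ j, ?_, Nat.find_min hex (by rw [hj]; exact Nat.lt_succ_self j), ?_⟩
  · rw [map_pow, ← ht, hτv]
  · have h2 := Nat.find_spec hex
    rw [hj, Nat.succ_eq_add_one, pow_succ, pow_mul] at h2
    exact h2

end Main

end Cfsg.Agent.H522.FldTri
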