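import Cfsg.Agent.H522.FldTri
import Cfsg.Agent.ClassicalGeometry.OrthAut3
import Cfsg.Agent.AutOrth.Final
import Cfsg.Agent.S0296
import Cfsg.Agent.S1082

/-!
# `POmega8+(q)`: automorphisms of order three which are not induced by semisimilitudes fix elements of order `r`
(helper522)

The first two sections are copies of `BpTri.PtStab`, `BpTri.LinkPt` (BpTab/Final).
* `tri_fix` : `F` finite of characteristic `r`, `x` an automorphism of order three of `P (plusForm 4 F)` which is not in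
  the range of `Psi`: `x` fixes an element of order `r`.
-/

set_option autoImplicit false
set_option linter.unusedSectionVars false

namespace Cfsg.Agent.H522.FldTriO

open QuadraticMap Cfsg.Agent.LieClassical.OrthCore Cfsg.Agent.LieClassical.OrthTrans
  Cfsg.Agent.LieClassical.OrthSimple Cfsg.Agent.LieClassical.OrthFinite
  Cfsg.Agent.ClassicalGeometry.OrthAut1 Cfsg.Agent.ClassicalGeometry.OrthAut2
  Cfsg.Agent.ClassicalGeometry.OrthAut2b Cfsg.Agent.ClassicalGeometry.OrthAut3 Cfsg.Agent.AutOrth.Main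

section PtStab

variable {F V : Type*} [Field F] [AddCommGroup V] [Module F V] {Q : QuadraticForm F V}

theorem exists_perp_ne (hG : Good Q) {u v : V} (hu : Q u = 0) (hu0 : u ≠ 0) (hv : ∀ c : F, v ≠ c • u) : ∃ w, polar Q u w = 0 ∧ polar Q w v ≠ 0 := by
  by_contra hcon
  push Not at hcon
  obtain ⟨z, hz⟩ := Cfsg.Agent.LieClassical.OrthTrans.exists_hyp hG.nondeg hu hu0
  apply hv (polar Q z v)
  rw [← sub_eq_zero]
  apply hG.nondeg
  intro x
  -- decompose `x`
  have h1 : polar Q u (x - polar Q u x • z) = 0 := by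
    rw [polar_sub_right, polar_smul_right, hz.pair, smul_eq_mul, mul_one, sub_self]
  have h2 := hcon _ h1
  rw [polar_sub_left, polar_smul_left, sub_eq_zero, smul_eq_mul] at h2
  rw [polar_sub_left, polar_smul_left, polar_comm Q v x, h2, smul_eq_mul, mul_comm, sub_self]

theorem normalizer_le_stab [Finite F] [FiniteDimensional F V] (hG : Good Q) (p : ℕ)
    [hp : Fact p.Prime] [CharP F p] (S : Sylow p (P Q)) :
    ∃ u : V, u ≠ 0 ∧ Q u = 0 ∧
      Subgroup.normalizer ((S : Subgroup (P Q)) : Set (P Q)) ≤ stab hG (Submodule.span F {u}) := by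
  obtain ⟨u, hu0, hu, hS, hUP⟩ := sylow_ge hG p S
  refine ⟨u, hu0, hu, fun n hn => ?_⟩
  have hne : (S : Subgroup (P Q)) ≠ ⊤ := by
    intro h
    apply stab_ne_top hG (TS_span hu) (Submodule.mem_span_singleton_self u) hu0
    rw [h] at hS
    exact top_le_iff.1 hS
  obtain ⟨g, rfl⟩ := QuotientGroup.mk_surjective n
  have hv : Q ((g : V ≃ₗ[F] V) u) = 0 := by rw [Q_apply, hu]
  have hpact : pact hG (g : P Q) (Submodule.span F {u}) = Submodule.span F {(g : V ≃ₗ[F] V) u} := by
    rw [pact_mk, mapHom_span]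
  have hn' : ∀ s, s ∈ (S : Subgroup (P Q)) ↔ (g : P Q) * s * (g : P Q)⁻¹ ∈ (S : Subgroup (P Q)) :=
    Subgroup.mem_normalizer_iff.1 hn
  -- the second point
  have hUPv : UP Q (Submodule.span F {(g : V ≃ₗ[F] V) u}) ≤ S := by
    intro t ht
    have h1 : (g : P Q)⁻¹ * t * (g : P Q)⁻¹⁻¹ ∈ UP Q (Submodule.span F {u}) := by
      have h2 := conj_mem_UP hG (p := (g : P Q)⁻¹) ht
      rwa [← hpact, ← Equiv.Perm.mul_apply, ← map_mul, inv_mul_cancel, map_one] at h2
    have h3 := (hn' _).1 (hUP h1)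
    have h4 : (g : P Q) * ((g : P Q)⁻¹ * t * (g : P Q)⁻¹⁻¹) * (g : P Q)⁻¹ = t := by group
    rwa [h4] at h3
  have hSv : (S : Subgroup (P Q)) ≤ stab hG (Submodule.span F {(g : V ≃ₗ[F] V) u}) := by
    intro s hs
    have h1 : (g : P Q)⁻¹ * s * (g : P Q) ∈ (S : Subgroup (P Q)) := by
      rw [hn']
      have h4 : (g : P Q) * ((g : P Q)⁻¹ * s * (g : P Q)) * (g : P Q)⁻¹ = s := by group
      rwa [h4]
    have h2 := mem_stab.1 (hS h1)
    rw [mem_stab, ← hpact, ← Equiv.Perm.mul_apply, ← map_mul]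
    have h3 : s * (g : P Q) = (g : P Q) * ((g : P Q)⁻¹ * s * (g : P Q)) := by group
    rw [h3, map_mul, Equiv.Perm.mul_apply, h2]
  have hpol : polar Q u ((g : V ≃ₗ[F] V) u) = 0 :=
    polar_eq_zero_of_mem_spanW hG hne (Submodule.subset_span ⟨hu, hUP⟩) (Submodule.subset_span ⟨hv, hUPv⟩)
  rw [mem_stab, hpact]
  by_contra hcon
  have hnot : ∀ c : F, (g : V ≃ₗ[F] V) u ≠ c • u := by
    intro c hc
    apply hcon
    have hc0 : c ≠ 0 := by
      rintro rfl
      rw [zero_smul] at hc
      exact hu0 ((g : V ≃ₗ[F] V).map_eq_zero_iff.1 hc)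
    rw [hc]
    exact Submodule.span_singleton_smul_eq (IsUnit.mk0 c hc0) u
  obtain ⟨w, hw, hwv⟩ := exists_perp_ne hG hu hu0 hnot
  have h1 : ((sg u w hu hw : ↥(E Q)) : P Q) ∈ stab hG (Submodule.span F {(g : V ≃ₗ[F] V) u}) :=
    hSv (hUP ((mem_UP_span_iff hG.nondeg hu hu0).2 ⟨w, hw, rfl⟩))
  rw [mem_stab, pact_mk, mapHom_span] at h1
  have h2 : ((sg u w hu hw : ↥(E Q)) : V ≃ₗ[F] V) ((g : V ≃ₗ[F] V) u) ∈
      Submodule.span F {(g : V ≃ₗ[F] V) u} := by
    rw [← h1]
    exact Submodule.mem_span_singleton_self _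
  rw [sg_apply, hpol, zero_smul, add_zero, mul_zero, zero_smul, sub_zero] at h2
  have h3 : polar Q w ((g : V ≃ₗ[F] V) u) • u ∈ Submodule.span F {(g : V ≃ₗ[F] V) u} := by
    have h4 := Submodule.sub_mem _ (Submodule.mem_span_singleton_self ((g : V ≃ₗ[F] V) u)) h2
    rwa [sub_sub_cancel] at h4
  have h4 : u ∈ Submodule.span F {(g : V ≃ₗ[F] V) u} := by
    have h5 := Submodule.smul_mem _ (polar Q w ((g : V ≃ₗ[F] V) u))⁻¹ h3
    rwa [smul_smul, inv_mul_cancel₀ hwv, one_smul] at h5
  obtain ⟨c, hc⟩ := Submodule.mem_span_singleton.1 h4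
  have hc0 : c ≠ 0 := by
    rintro rfl
    rw [zero_smul] at hc
    exact hu0 hc.symm
  apply hnot c⁻¹
  rw [← hc, smul_smul, inv_mul_cancel₀ hc0, one_smul, hc]

end PtStab

section LinkPt

variable {F V : Type*} [Field F] [AddCommGroup V] [Module F V] {Q : QuadraticForm F V}

theorem map_conj_stab (hG : Good Q) (q : P Q) (W : Submodule F V) :
    (stab hG W).map (MulAut.conj q).toMonoidHom = stab hG (pact hG q W) := by
  ext m
  rw [mem_stab]
  constructor
  · rintro ⟨s, hs, rfl⟩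
    change pact hG (q * s * q⁻¹) (pact hG q W) = pact hG q W
    rw [← Equiv.Perm.mul_apply, ← map_mul, inv_mul_cancel_right, map_mul, Equiv.Perm.mul_apply]
    exact congrArg _ hs
  · intro h
    refine ⟨q⁻¹ * m * q, ?_, ?_⟩
    · change pact hG (q⁻¹ * m * q) W = W
      rw [map_mul, Equiv.Perm.mul_apply, map_mul, Equiv.Perm.mul_apply, h, ← Equiv.Perm.mul_apply, ← map_mul,
        inv_mul_cancel, map_one]
      rfl
    · change q * (q⁻¹ * m * q) * q⁻¹ = m
      group

theorem pt_of_map (hG : Good Q) {α : MulAut (P Q)} {u : V} (hu : Q u = 0) (hu0 : u ≠ 0) {k : P Q}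
    (h : (stab hG (Submodule.span F {u})).map α.toMonoidHom =
      (stab hG (Submodule.span F {u})).map (MulAut.conj k).toMonoidHom) : Pt hG α := by
  intro x hx hx0
  obtain ⟨q, hq⟩ := exists_pact_eq hG hu hx hu0 hx0
  obtain ⟨g, hg⟩ := QuotientGroup.mk_surjective (α q * k)
  refine ⟨(g : V ≃ₗ[F] V) u, by rw [Q_apply, hu], fun h0 => hu0 ((g : V ≃ₗ[F] V).map_eq_zero_iff.1 h0), ?_⟩
  rw [← mapHom_span, ← pact_mk hG, hg, ← hq, ← map_conj_stab, ← map_conj_stab, map_mul]
  -- both sides are conjugates of `stab u`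
  have h1 : (Subgroup.map (MulAut.conj q).toMonoidHom (stab hG (Submodule.span F {u}))).map α.toMonoidHom =
      ((stab hG (Submodule.span F {u})).map α.toMonoidHom).map (MulAut.conj (α q)).toMonoidHom := by
    rw [Subgroup.map_map, Subgroup.map_map]
    congr 1
    ext m
    change α (q * m * q⁻¹) = α q * α m * (α q)⁻¹
    rw [map_mul, map_mul, map_inv]
  rw [h1, h, Subgroup.map_map]
  rfl

open Cfsg.Agent.FixBN in
theorem pt_of_type [Finite F] [FiniteDimensional F V] (hG : Good Q) (r : ℕ) [hr : Fact r.Prime] [CharP F r]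
    {Y : Type*} [Group Y] [Finite Y] (e : Y ≃* P Q) {B : Cfsg.BNPair Y} {U : Subgroup Y} (S : Split B r U)
    (x : MulAut Y) (hx : ∀ L : Subgroup Y, (∃ g, ∀ b ∈ B.B, g * b * g⁻¹ ∈ L) →
      ∃ k, L.map x.toMonoidHom = L.map (MulAut.conj k).toMonoidHom) : Pt hG (MulAut.congr e x) := by
  obtain ⟨Sy⟩ : Nonempty (Sylow r (P Q)) := inferInstance
  obtain ⟨u, hu0, hu, hN⟩ := normalizer_le_stab hG r Sy
  -- the Sylow subgroup of `Y`
  set V' : Subgroup Y := (Sy : Subgroup (P Q)).map e.symm.toMonoidHom with hV'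
  have hVp : IsPGroup r V' := Sy.isPGroup'.map _
  obtain ⟨c, hc⟩ := OfBN.exists_fix S V' hVp
  have hle := OfBN.max S c V' hVp hc
  obtain ⟨g, rfl⟩ := QuotientGroup.mk_surjective c
  -- `e (g U g⁻¹) = Sy`
  have hSy : ((OfBN.UU B U (QuotientGroup.mk g)).map e.toMonoidHom) = (Sy : Subgroup (P Q)) := by
    refine Sy.is_maximal' ((OfBN.isP S _).map _) ?_
    intro s hs
    refine ⟨e.symm s, hle ⟨s, hs, rfl⟩, ?_⟩
    change e (e.symm s) = s
    exact e.apply_symm_apply s
  have hmem : ∀ v : Y, e v ∈ (Sy : Subgroup (P Q)) ↔ g⁻¹ * v * g ∈ U := by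
    intro v
    rw [← hSy, ← OfBN.mem_UU S]
    constructor
    · rintro ⟨w, hw, hw2⟩
      have : w = v := e.injective hw2
      rwa [← this]
    · exact fun h => ⟨v, h, rfl⟩
  set L : Subgroup Y := (stab hG (Submodule.span F {u})).comap e.toMonoidHom with hL
  obtain ⟨k, hk⟩ := hx L ⟨g, fun b hb => by
    change e (g * b * g⁻¹) ∈ stab hG (Submodule.span F {u})
    apply hN
    rw [Subgroup.mem_normalizer_iff]
    intro s
    obtain ⟨v, rfl⟩ := e.surjective s
    rw [← map_inv, ← map_mul, ← map_mul, hmem, hmem]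
    have h1 : g⁻¹ * (g * b * g⁻¹ * v * (g * b * g⁻¹)⁻¹) * g = b * (g⁻¹ * v * g) * b⁻¹ := by group
    rw [h1]
    have h2 : b ∈ Subgroup.normalizer (U : Set Y) := by rw [S.normalizer_eq]; exact hb
    exact Subgroup.mem_normalizer_iff.1 h2 _⟩
  refine pt_of_map hG hu hu0 (k := e k) ?_
  have hLmap : stab hG (Submodule.span F {u}) = L.map e.toMonoidHom := by
    rw [hL, Subgroup.map_comap_eq_self_of_surjective e.surjective]
  have h1 : (L.map e.toMonoidHom).map (MulAut.congr e x).toMonoidHom = (L.map x.toMonoidHom).map e.toMonoidHom := by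
    rw [Subgroup.map_map, Subgroup.map_map]
    congr 1
    ext m
    change e (x (e.symm (e m))) = e (x m)
    rw [e.symm_apply_apply]
  have h2 : (L.map e.toMonoidHom).map (MulAut.conj (e k)).toMonoidHom =
      (L.map (MulAut.conj k).toMonoidHom).map e.toMonoidHom := by
    rw [Subgroup.map_map, Subgroup.map_map]
    congr 1
    ext m
    change e k * e m * (e k)⁻¹ = e (k * m * k⁻¹)
    rw [map_mul, map_mul, map_inv]
  rw [hLmap, h1, h2, hk]

end LinkPt

section Tri

open Cfsg Cfsg.Lie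
open Cfsg.Agent.ChevalleyStructure Cfsg.Agent.ChevalleyStructure.CoxeterGeomTypes Cfsg.Agent.Nodes.RGDChev
  Cfsg.Agent.FixBN Cfsg.Agent.Nodes.BNOf
open Cfsg.Agent.LieClassical.OrthForms Cfsg.Agent.ClassicalGeometry.OrthSemi
  Cfsg.Agent.ClassicalGeometry.OrthSemiForms

theorem finite_linear {F V : Type*} [Field F] [AddCommGroup V] [Module F V] [Finite F] [Module.Finite F V]
    (C : Subgroup (V ≃ₗ[F] V)) : Finite ↥C := by
  have h1 : Finite V := Module.finite_of_finite F
  have h2 : Finite (V ≃ₗ[F] V) := DFunLike.finite _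
  exact inferInstance

theorem isType_D4 : IsType chevD4 4 coxeterD4 := by simp [IsType, typeList]

/-- `D₄(F)`, automorphisms of order three. -/
theorem d4_fix_or_type {F : Type} [Field F] [Fintype F] {r : ℕ} [Fact r.Prime] [CharP F r]
    {x : MulAut ↥(chevD4.group F)} (hx : orderOf x = 3) :
    (∃ s, x s = s ∧ s ≠ 1 ∧ s ^ r = 1) ∨ ∃ (B : Cfsg.BNPair ↥(chevD4.group F)) (U : Subgroup ↥(chevD4.group F)),
      Split B r U ∧ ∀ L : Subgroup ↥(chevD4.group F), (∃ g, ∀ b ∈ B.B, g * b * g⁻¹ ∈ L) →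
        ∃ k, L.map x.toMonoidHom = L.map (MulAut.conj k).toMonoidHom := by
  have hs : IsSimpleGroup ↥(chevD4.group F) := by
    obtain ⟨e⟩ := Cfsg.Agent.S1082.result (F := F)
    have h1 := Cfsg.Agent.S0296.result (F := F) 4 le_rfl
    exact e.isSimpleGroup
  have : Finite coxeterD4.Group := finite_W isType_D4 coxeterD4.toCoxeterSystem
  have hR := rgd (K := F) isType_D4 coxeterD4.toCoxeterSystem r
  have hgen := gen (K := F) isType_D4 coxeterD4.toCoxeterSystem r
  have hcore : (RGD.B coxeterD4.toCoxeterSystem isType_D4.isCartan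
      ((chevD4.diagonalSubgroup F).subgroupOf (chevD4.group F))
      (fun x => (XV chevD4 4 F x).subgroupOf (chevD4.group F))).normalCore = ⊥ := by
    rcases (inferInstance : (RGD.B coxeterD4.toCoxeterSystem isType_D4.isCartan
      ((chevD4.diagonalSubgroup F).subgroupOf (chevD4.group F))
      (fun x => (XV chevD4 4 F x).subgroupOf (chevD4.group F))).normalCore.Normal).eq_bot_or_eq_top with h1 | h1
    · exact h1
    · exfalso
      apply hR.not_neg_le_B 0
      intro x _
      have h2 : x ∈ (RGD.B coxeterD4.toCoxeterSystem isType_D4.isCartan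
        ((chevD4.diagonalSubgroup F).subgroupOf (chevD4.group F))
        (fun x => (XV chevD4 4 F x).subgroupOf (chevD4.group F))).normalCore := by rw [h1]; exact Subgroup.mem_top x
      exact Subgroup.normalCore_le _ h2
  exact FldTri.fix_or_type hR hgen hcore (fun W' _ cs' => BpTri.nodes4_D4 cs')
    (by rw [← hx]; exact pow_orderOf_eq_one x)

/-- **The triality automorphisms.** -/
theorem tri_fix {F : Type} [Field F] [Fintype F] {r : ℕ} (hr : r.Prime) [CharP F r]
    {x : MulAut (↥(E (plusForm 4 F)) ⧸ Subgroup.center ↥(E (plusForm 4 F)))} (hx : orderOf x = 3)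
    (hnot : x ∉ (Psi (plusForm 4 F)).range) : ∃ s, x s = s ∧ s ≠ 1 ∧ s ^ r = 1 := by
  have : Fact r.Prime := ⟨hr⟩
  have hG := Cfsg.Agent.ClassicalGeometry.OrthSemiForms.good_plus (F := F) (m := 4) (by omega)
  obtain ⟨e0⟩ := Cfsg.Agent.S1082.result (F := F)
  rw [← coe_plusForm] at e0
  let e : ↥(chevD4.group F) ≃* P (plusForm 4 F) := e0.trans (pomegaEquiv hG)
  have : Finite ↥(E (plusForm 4 F)) := finite_linear _
  let y : MulAut ↥(chevD4.group F) := (MulAut.congr e).symm x
  have hy : orderOf y = 3 := by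
    rw [← hx]
    exact orderOf_injective (MulAut.congr e).symm.toMonoidHom (MulAut.congr e).symm.injective x
  have key : ∀ k, e (y k) = x (e k) := by
    intro k
    change e (e.symm (x (e k))) = x (e k)
    exact e.apply_symm_apply _
  rcases d4_fix_or_type (r := r) hy with ⟨s, h1, h2, h3⟩ | ⟨B, U, S, hL⟩
  · refine ⟨e s, by rw [← key, h1], ?_, by rw [← map_pow, h3, map_one]⟩
    rw [Ne, map_eq_one_iff e e.injective]
    exact h2
  · exfalso
    apply hnot
    have h1 := pt_of_type hG r e S y hL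
    have h4 : MulAut.congr e y = x := (MulAut.congr e).apply_symm_apply x
    rw [h4] at h1
    refine AutOrth.Final.mem_range_of_pt hG ?_ h1
    rw [Module.finrank_fintype_fun_eq_card, Fintype.card_sum, Fintype.card_fin]
    omega

end Tri

end Cfsg.Agent.H522.FldTriO
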