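import Cfsg.Agent.H522.FpfHerm
import Cfsg.Agent.TwoFusion.SLTwoFacts

/-!
# Forms containing a nondegenerate minus type subspace; special unitary groups (helper522)

* `Cont Q m` : `Q` is the orthogonal sum of a minus type form in dimension `2m` and some form;
* `cont_minus`, `cont_plus`, `cont_odd` : the forms of `PΩ^-_{2m}`, `PΩ^+_{2m+2}`, `PΩ_{2m+1}`;
* `exists_psu` : `May r (PΩ(Q)) → May r (PSU_m(q))`, `m ≥ 3` odd.
-/

set_option autoImplicit false
set_option linter.unusedSectionVars false
set_option linter.style.haveILetI false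

namespace Cfsg.Agent.H522.FpfEmb

open QuadraticMap Cfsg
open Cfsg.Agent.LieClassical.OrthCore Cfsg.Agent.LieClassical.OrthForms Cfsg.Agent.H182.Sign Cfsg.Agent.H80.Fpf
open Cfsg.Agent.ClassicalGeometry.Reflection

/-- `Q` is the orthogonal sum of a minus type form in dimension `2m` and some form. -/
def Cont {ι : Type} [Fintype ι] [DecidableEq ι] {F : Type} [Field F] [Finite F] (Q : QuadraticForm F (ι → F))
    (m : ℕ) : Prop :=
  ∃ (V W : Type) (_ : AddCommGroup V) (_ : Module F V) (_ : Finite V) (_ : AddCommGroup W) (_ : Module F W)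
    (_ : Finite W) (P : QuadraticForm F V) (R : QuadraticForm F W) (e : (V × W) ≃ₗ[F] (ι → F)),
    Sg P m (-1) ∧ ∀ v, Q (e v) = prodForm P R v

section

variable {ι : Type} [Fintype ι] [DecidableEq ι] {F : Type} [Field F] [Finite F] {Q : QuadraticForm F (ι → F)} {m : ℕ}

theorem cont_of_minus (h : Sg Q m (-1)) : Cont Q m := by
  refine ⟨ι → F, PUnit, inferInstance, inferInstance, inferInstance, inferInstance, inferInstance, inferInstance,
    Q, 0, LinearEquiv.prodUnique, h, fun v => ?_⟩
  rw [prodForm_apply, QuadraticMap.zero_apply, add_zero]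
  rfl

theorem cont_of_plus (h : Sg Q (m + 1) 1) (hm : 1 ≤ m) : Cont Q m := by
  obtain ⟨ζ, hζ⟩ := exists_aniso F
  obtain ⟨k, rfl⟩ : ∃ k, m = k + 1 := ⟨m - 1, by omega⟩
  have h0 := sg_minusForm (F := F) k hζ
  have h1 := h0.prod (sg_minusForm (F := F) 0 hζ)
  rw [zero_add, show (-1 : ℤ) * (-1) = 1 from by norm_num] at h1
  obtain ⟨e, he⟩ := h1.exists_equiv h
  exact ⟨_, _, inferInstance, inferInstance, inferInstance, inferInstance, inferInstance, inferInstance, _, _, e,
    h0, he⟩

/-- **Restriction.** -/
theorem Cont.may (hC : Cont Q m) {H : Type*} [Group H] [Finite H] {V : Type*} [AddCommGroup V] [Module F V] [Finite V]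
    {P : QuadraticForm F V} (hP : Sg P m (-1)) (ρ : H →* Module.End F V)
    (hρ : ∀ h v, P (ρ h v) = P v) (hker : ∀ h, ρ h = 1 → h ∈ Subgroup.center H) (hperf : commutator H = ⊤) {r : ℕ}
    (hM : May r (Cfsg.POmega F ⇑Q)) : May r (H ⧸ Subgroup.center H) := by
  obtain ⟨V', W, _, _, _, _, _, _, P', R, e, hP', he⟩ := hC
  obtain ⟨f, hf⟩ := hP.exists_equiv hP'
  refine may_of_action_prod (P := P) (R := R) ((f.prodCongr (LinearEquiv.refl F W)).trans e) ?_ ρ hρ hker hperf hM
  intro v
  rw [LinearEquiv.trans_apply, he, prodForm_apply, prodForm_apply]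
  change P' (f v.1) + R v.2 = _
  rw [hf]

end

section targets

variable {F : Type} [Field F] [Finite F]

theorem cont_minus {k : ℕ} {a b : F} (hab : Cfsg.Agent.H403.Classify.Aniso a b) : Cont (minusForm k F a b) (k + 1) :=
  cont_of_minus (sg_minusForm k hab)

theorem cont_plus {m : ℕ} (hm : 1 ≤ m) : Cont (plusForm (m + 1) F) m :=
  cont_of_plus (sg_plusForm (m + 1)) hm

/-- The odd dimensional form, odd characteristic. -/
theorem cont_odd (h2 : (2 : F) ≠ 0) (k : ℕ) : Cont (oddForm (k + 1) F) (k + 1) := by
  obtain ⟨c, hc⟩ : ∃ c : F, ¬ IsSquare c := FiniteField.exists_nonsquare (F := F) (by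
    intro h
    apply h2
    haveI := ringChar.of_eq h
    exact CharTwo.two_eq_zero)
  have hc0 : c ≠ 0 := by
    rintro rfl
    exact hc ⟨0, by simp⟩
  -- the anisotropic plane
  let A : QuadraticForm F (F × F) :=
    QuadraticMap.linMulLin (LinearMap.snd F F F) (LinearMap.snd F F F) -
      c • QuadraticMap.linMulLin (LinearMap.fst F F F) (LinearMap.fst F F F)
  have hA : ∀ v : F × F, A v = v.2 * v.2 - c * (v.1 * v.1) := fun v => rfl
  have hA1 : Sg A 1 (-1) := by
    refine sg_of_aniso (by rw [Module.finrank_prod, Module.finrank_self]) ?_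
    rintro ⟨x, z⟩ hxz h
    rw [hA] at h
    simp only at h
    apply hxz
    by_cases hx : x = 0
    · subst hx
      have hz : z = 0 := by
        have h3 : z * z = 0 := by linear_combination h
        exact mul_self_eq_zero.1 h3
      rw [hz]
      rfl
    · exfalso
      apply hc
      refine ⟨z / x, ?_⟩
      field_simp
      linear_combination -h
  have hP := (sg_plusForm (F := F) k).prod hA1
  rw [one_mul] at hP
  let R : QuadraticForm F F := c • QuadraticMap.linMulLin LinearMap.id LinearMap.id
  have hR : ∀ w : F, R w = c * (w * w) := fun w => rfl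
  let f : (((Fin k ⊕ Fin k → F) × (F × F)) × F) →ₗ[F] (Unit ⊕ (Fin (k + 1) ⊕ Fin (k + 1)) → F) :=
    { toFun := fun v => Sum.elim (fun _ => v.1.2.2)
        (Sum.elim (Fin.cons (v.2 + v.1.2.1) (fun i => v.1.1 (Sum.inl i)))
          (Fin.cons (c * (v.2 - v.1.2.1)) (fun i => v.1.1 (Sum.inr i))))
      map_add' := by
        intro v w
        funext i
        rcases i with i | i | i
        · rfl
        · refine Fin.cases ?_ (fun j => ?_) i
          · simp only [Sum.elim_inr, Sum.elim_inl, Fin.cons_zero, Pi.add_apply, Prod.fst_add, Prod.snd_add]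
            ring
          · rfl
        · refine Fin.cases ?_ (fun j => ?_) i
          · simp only [Sum.elim_inr, Fin.cons_zero, Pi.add_apply, Prod.fst_add, Prod.snd_add]
            ring
          · rfl
      map_smul' := by
        intro a v
        funext i
        rcases i with i | i | i
        · rfl
        · refine Fin.cases ?_ (fun j => ?_) i
          · simp only [Sum.elim_inr, Sum.elim_inl, Fin.cons_zero, Pi.smul_apply, Prod.smul_fst, Prod.smul_snd,
              smul_eq_mul, RingHom.id_apply]
            ring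
          · rfl
        · refine Fin.cases ?_ (fun j => ?_) i
          · simp only [Sum.elim_inr, Fin.cons_zero, Pi.smul_apply, Prod.smul_fst, Prod.smul_snd, smul_eq_mul,
              RingHom.id_apply]
            ring
          · rfl }
  have hfinj : Function.Injective f := by
    rw [← LinearMap.ker_eq_bot, LinearMap.ker_eq_bot']
    rintro ⟨⟨u, x, z⟩, w⟩ hv
    have e1 : z = 0 := congrFun hv (Sum.inl ())
    have e2 : w + x = 0 := congrFun hv (Sum.inr (Sum.inl 0))
    have e3 : c * (w - x) = 0 := congrFun hv (Sum.inr (Sum.inr 0))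
    have e4 : ∀ i, u (Sum.inl i) = 0 := fun i => congrFun hv (Sum.inr (Sum.inl i.succ))
    have e5 : ∀ i, u (Sum.inr i) = 0 := fun i => congrFun hv (Sum.inr (Sum.inr i.succ))
    have e6 : w - x = 0 := (mul_eq_zero.1 e3).resolve_left hc0
    have e7 : w = 0 := by
      have h3 : 2 * w = 0 := by linear_combination e2 + e6
      exact (mul_eq_zero.1 h3).resolve_left h2
    have e8 : x = 0 := by linear_combination e2 - e7
    have e9 : u = 0 := by
      funext i
      rcases i with i | i
      · exact e4 i
      · exact e5 i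
    rw [e1, e7, e8, e9]
    rfl
  let e := LinearEquiv.ofBijective f ⟨hfinj, (LinearMap.injective_iff_surjective_of_finrank_eq_finrank (by
    rw [Module.finrank_prod, Module.finrank_prod, Module.finrank_prod, Module.finrank_self,
      Module.finrank_fintype_fun_eq_card, Module.finrank_fintype_fun_eq_card, Fintype.card_sum, Fintype.card_sum,
      Fintype.card_sum, Fintype.card_fin, Fintype.card_fin, Fintype.card_unit]
    ring)).1 hfinj⟩
  refine ⟨_, F, inferInstance, inferInstance, inferInstance, inferInstance, inferInstance, inferInstance, _, R, e,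
    hP, ?_⟩
  rintro ⟨⟨u, x, z⟩, w⟩
  have h1 : e (((u, (x, z)), w)) = f ((u, (x, z)), w) := rfl
  rw [h1, prodForm_apply, prodForm_apply, hR, hA, coe_oddForm, coe_plusForm]
  simp only [f, LinearMap.coe_mk, AddHom.coe_mk, Cfsg.quadFormOdd, Cfsg.quadFormPlus, Sum.elim_inl, Sum.elim_inr]
  rw [Fin.sum_univ_succ]
  simp only [Fin.cons_zero, Fin.cons_succ]
  ring

end targets

end Cfsg.Agent.H522.FpfEmb
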