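import Cfsg.Agent.H80.Fpf.Sub
import Cfsg.Agent.H182.PGOrth
import Cfsg.Agent.LieClassical.Grun

/-!
# Groups acting by isometries and the fixed point free primes of `PΩ(Q)` (helper522)

* `isoHom` : a linear action by isometries of a form isometric to `Q` gives a homomorphism to the isometry group;
* `may_of_action` : `H` perfect acting by isometries with kernel in the centre, then `May r (PΩ(Q)) → May r (H/Z(H))`.
-/

set_option autoImplicit false
set_option linter.unusedSectionVars false
set_option linter.style.haveILetI false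

namespace Cfsg.Agent.H522.FpfEmb

open QuadraticMap Cfsg
open Cfsg.Agent.LieClassical.OrthCore Cfsg.Agent.H182.Sign Cfsg.Agent.H80.Fpf
open Cfsg.Agent.ClassicalGeometry.Reflection

universe u

variable {ι : Type} [Fintype ι] [DecidableEq ι] {F : Type*} [Field F]
variable {V : Type*} [AddCommGroup V] [Module F V] {W : Type*} [AddCommGroup W] [Module F W]

/-- The ring homomorphism from endomorphisms of `V` to matrices, `V ≃ F^ι`. -/
noncomputable def matHom (e : V ≃ₗ[F] (ι → F)) : Module.End F V →* Matrix ι ι F :=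
  (LinearMap.toMatrixAlgEquiv' : Module.End F (ι → F) ≃ₐ[F] Matrix ι ι F).toAlgHom.toRingHom.toMonoidHom.comp
    (LinearEquiv.conjRingEquiv e).toRingHom.toMonoidHom

theorem matHom_mulVec (e : V ≃ₗ[F] (ι → F)) (g : Module.End F V) (x : ι → F) :
    (matHom e g).mulVec x = e (g (e.symm x)) := by
  change (LinearMap.toMatrix' (e.conj g)).mulVec x = _
  rw [LinearMap.toMatrix'_mulVec]
  rfl

variable {H : Type*} [Group H]

/-- A linear action by isometries as a homomorphism to the isometry group. -/
noncomputable def isoHom {Q : QuadraticForm F (ι → F)} {P : QuadraticForm F V} (e : V ≃ₗ[F] (ι → F))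
    (he : ∀ v, Q (e v) = P v) (ρ : H →* Module.End F V) (hρ : ∀ h v, P (ρ h v) = P v) :
    H →* Cfsg.isometryGroup F ⇑Q :=
  (((matHom e).comp ρ).toHomUnits).codRestrict _ fun h => by
    rw [mem_isometryGroup_iff]
    intro x
    have h1 : ((((matHom e).comp ρ).toHomUnits h : (Matrix ι ι F)ˣ) : Matrix ι ι F) = matHom e (ρ h) := rfl
    rw [h1, matHom_mulVec, he, hρ, ← he, LinearEquiv.apply_symm_apply]

theorem isoHom_ker {Q : QuadraticForm F (ι → F)} {P : QuadraticForm F V} (e : V ≃ₗ[F] (ι → F))
    (he : ∀ v, Q (e v) = P v) (ρ : H →* Module.End F V) (hρ : ∀ h v, P (ρ h v) = P v) {h : H}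
    (h1 : isoHom e he ρ hρ h = 1) : ρ h = 1 := by
  have h2 : matHom e (ρ h) = 1 := by
    have := congrArg (fun z : Cfsg.isometryGroup F ⇑Q => ((z : Matrix.GeneralLinearGroup ι F) : Matrix ι ι F)) h1
    exact this
  ext v
  have h3 := matHom_mulVec e (ρ h) (e v)
  rw [h2, Matrix.one_mulVec, LinearEquiv.symm_apply_apply] at h3
  exact (e.injective h3).symm

/-- **Restriction of `May r (PΩ(Q))` to a perfect group acting by isometries with central kernel.** -/
theorem may_of_action [Finite H] {Q : QuadraticForm F (ι → F)} {P : QuadraticForm F V} (e : V ≃ₗ[F] (ι → F))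
    (he : ∀ v, Q (e v) = P v) (ρ : H →* Module.End F V) (hρ : ∀ h v, P (ρ h v) = P v)
    (hker : ∀ h, ρ h = 1 → h ∈ Subgroup.center H) (hperf : commutator H = ⊤) {r : ℕ}
    (hM : May r (Cfsg.POmega F ⇑Q)) : May r (H ⧸ Subgroup.center H) := by
  let φ : H →* Cfsg.isometryGroup F ⇑Q := isoHom e he ρ hρ
  have hφ : ∀ h, φ h ∈ Cfsg.Omega F ⇑Q := by
    intro h
    have h1 : h ∈ commutator H := by rw [hperf]; trivial
    have h2 : φ h ∈ (commutator H).map φ := ⟨h, h1, rfl⟩
    have h3 : (commutator H).map φ ≤ commutator (Cfsg.isometryGroup F (⇑Q)) := by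
      rw [commutator_def, commutator_def, Subgroup.map_commutator]
      exact Subgroup.commutator_mono le_top le_top
    exact h3 h2
  let ψ : H →* Cfsg.Omega F ⇑Q := φ.codRestrict _ hφ
  let f : H →* Cfsg.POmega F ⇑Q := (QuotientGroup.mk' (Subgroup.center (Cfsg.Omega F ⇑Q))).comp ψ
  have hψ : ∀ h, ψ h = 1 → h ∈ Subgroup.center H := by
    intro h h1
    apply hker
    apply isoHom_ker e he ρ hρ
    exact congrArg Subtype.val h1
  refine hM.of_hom f (QuotientGroup.mk' (Subgroup.center H)) (QuotientGroup.mk'_surjective _)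
    (by rw [QuotientGroup.ker_mk']) ?_ hperf
  intro h hh
  rw [QuotientGroup.ker_mk']
  rw [MonoidHom.mem_ker] at hh
  have h1 : ψ h ∈ Subgroup.center (Cfsg.Omega F ⇑Q) := by
    rw [← QuotientGroup.eq_one_iff]
    exact hh
  apply Cfsg.Agent.LieClassical.Grun.mem_center_of_forall_commutator_mem hperf
  intro g
  apply hψ
  rw [map_mul, map_mul, map_mul, map_inv, map_inv]
  have h2 := Subgroup.mem_center_iff.1 h1 (ψ g)
  rw [← h2, mul_assoc, mul_assoc, mul_inv_cancel_left, mul_inv_cancel]

/-- The extension of an action by the identity. -/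
def extEnd : Module.End F V →* Module.End F (V × W) where
  toFun g := g.prodMap LinearMap.id
  map_one' := by ext <;> rfl
  map_mul' g h := by ext <;> rfl

/-- The same with an orthogonal complement on which the group acts trivially. -/
theorem may_of_action_prod [Finite F] [Finite V] [Finite W] [Finite H] {Q : QuadraticForm F (ι → F)}
    {P : QuadraticForm F V} {R : QuadraticForm F W}
    (e : (V × W) ≃ₗ[F] (ι → F)) (he : ∀ v, Q (e v) = prodForm P R v) (ρ : H →* Module.End F V)
    (hρ : ∀ h v, P (ρ h v) = P v) (hker : ∀ h, ρ h = 1 → h ∈ Subgroup.center H) (hperf : commutator H = ⊤) {r : ℕ}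
    (hM : May r (Cfsg.POmega F ⇑Q)) : May r (H ⧸ Subgroup.center H) := by
  refine may_of_action e he (extEnd.comp ρ) ?_ ?_ hperf hM
  · intro h v
    rw [prodForm_apply, prodForm_apply]
    change P (ρ h v.1) + R v.2 = _
    rw [hρ]
  · intro h h1
    apply hker
    ext v
    have h2 := LinearMap.congr_fun h1 (v, 0)
    exact congrArg Prod.fst h2

/-- Same dimension and sign. -/
theorem may_of_sg [Finite F] [Finite V] [Finite H] {Q : QuadraticForm F (ι → F)} {P : QuadraticForm F V} {m : ℕ}
    {ε : ℤ} (hP : Sg P m ε) (hQ : Sg Q m ε) (ρ : H →* Module.End F V)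
    (hρ : ∀ h v, P (ρ h v) = P v) (hker : ∀ h, ρ h = 1 → h ∈ Subgroup.center H) (hperf : commutator H = ⊤) {r : ℕ}
    (hM : May r (Cfsg.POmega F ⇑Q)) : May r (H ⧸ Subgroup.center H) := by
  obtain ⟨e, he⟩ := hP.exists_equiv hQ
  exact may_of_action e he ρ hρ hker hperf hM

/-- `V` of minus type in dimension `2m`, `Q` of plus type in dimension `2m + 2`. -/
theorem may_of_sg_plus [Finite F] [Finite V] [Finite H] {Q : QuadraticForm F (ι → F)} {P : QuadraticForm F V} {m : ℕ}
    (hP : Sg P m (-1)) (hQ : Sg Q (m + 1) 1) (ρ : H →* Module.End F V)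
    (hρ : ∀ h v, P (ρ h v) = P v) (hker : ∀ h, ρ h = 1 → h ∈ Subgroup.center H) (hperf : commutator H = ⊤) {r : ℕ}
    (hM : May r (Cfsg.POmega F ⇑Q)) : May r (H ⧸ Subgroup.center H) := by
  obtain ⟨ζ, hζ⟩ := exists_aniso F
  have h1 := hP.prod (sg_minusForm (F := F) 0 hζ)
  rw [zero_add, show (-1 : ℤ) * (-1) = 1 from by norm_num] at h1
  obtain ⟨e, he⟩ := h1.exists_equiv hQ
  exact may_of_action_prod e he ρ hρ hker hperf hM

end Cfsg.Agent.H522.FpfEmb
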