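import Cfsg.Agent.H522.FpfCont

/-!
# `SL_2(q^m)`, `m` even, in orthogonal groups of minus type (helper522)

* `Herm` : Hermitian `2 × 2` matrices, `sg_detForm`: the determinant is a form of minus type in dimension 4;
* `exists_psl` : `Cont Q m`, `m ≥ 2` even: `May r (PΩ(Q)) → May r (PSL_2(q^m))`.
-/

set_option autoImplicit false
set_option linter.unusedSectionVars false
set_option linter.style.haveILetI false

namespace Cfsg.Agent.H522.FpfEmb

open QuadraticMap Cfsg Matrix
open Cfsg.Agent.LieClassical.OrthCore Cfsg.Agent.LieClassical.OrthForms Cfsg.Agent.H182.Sign Cfsg.Agent.H80.Fpf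
open Cfsg.Agent.ClassicalGeometry.Reflection

section

variable {E : Type} [Field E] [Finite E] {K : Type} [Field K] [Finite K] [Algebra E K]

/-- The conjugate transpose. -/
noncomputable def ct (E : Type) [Field E] [Finite E] {K : Type} [Field K] [Algebra E K] (X : Matrix (Fin 2) (Fin 2) K) :
    Matrix (Fin 2) (Fin 2) K :=
  (X.map (letI := Fintype.ofFinite E; FiniteField.frobeniusAlgHom E K))ᵀ

theorem ct_apply (X : Matrix (Fin 2) (Fin 2) K) (i j : Fin 2) : ct E X i j = frob E K (X j i) := rfl

theorem ct_ct (h2 : Module.finrank E K = 2) (X : Matrix (Fin 2) (Fin 2) K) : ct E (ct E X) = X := by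
  ext i j
  rw [ct_apply, ct_apply, frob_frob h2]

theorem ct_mul (X Y : Matrix (Fin 2) (Fin 2) K) : ct E (X * Y) = ct E Y * ct E X := by
  ext i j
  rw [ct_apply, Matrix.mul_apply, Matrix.mul_apply, map_sum]
  apply Finset.sum_congr rfl
  intro k _
  rw [map_mul, ct_apply, ct_apply, mul_comm]

theorem ct_one : ct E (1 : Matrix (Fin 2) (Fin 2) K) = 1 := by
  ext i j
  rw [ct_apply, Matrix.one_apply, Matrix.one_apply]
  by_cases h : i = j
  · rw [if_pos h, if_pos h.symm, map_one]
  · rw [if_neg h, if_neg (fun h' => h h'.symm), map_zero]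

theorem det_ct (X : Matrix (Fin 2) (Fin 2) K) : (ct E X).det = frob E K X.det := by
  rw [Matrix.det_fin_two, Matrix.det_fin_two, ct_apply, ct_apply, ct_apply, ct_apply, map_sub, map_mul, map_mul]
  ring

variable (E K)

/-- Hermitian matrices. -/
noncomputable def Herm : Submodule E (Matrix (Fin 2) (Fin 2) K) where
  carrier := {X | ct E X = X}
  zero_mem' := by
    ext i j
    rw [ct_apply, Matrix.zero_apply, Matrix.zero_apply, map_zero]
  add_mem' {X Y} hX hY := by
    ext i j
    have h1 := congrFun (congrFun hX i) j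
    have h2 := congrFun (congrFun hY i) j
    rw [ct_apply] at h1 h2 ⊢
    rw [Matrix.add_apply, Matrix.add_apply, map_add, h1, h2]
  smul_mem' a X hX := by
    ext i j
    have h1 := congrFun (congrFun hX i) j
    rw [ct_apply] at h1 ⊢
    rw [Matrix.smul_apply, Matrix.smul_apply, map_smul, h1]

variable {E K}

theorem mem_Herm {X : Matrix (Fin 2) (Fin 2) K} : X ∈ Herm E K ↔ ct E X = X := Iff.rfl

theorem herm_apply (X : Herm E K) (i j : Fin 2) : frob E K (X.1 j i) = X.1 i j := by
  have h := congrFun (congrFun (mem_Herm.1 X.2) i) j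
  rwa [ct_apply] at h

variable (E K)

/-- An entry. -/
def ent (i j : Fin 2) : Herm E K →ₗ[E] K where
  toFun X := X.1 i j
  map_add' _ _ := rfl
  map_smul' _ _ := rfl

/-- The determinant of a Hermitian matrix. -/
noncomputable def detForm : QuadraticForm E (Herm E K) :=
  (retr E K).compQuadraticMap
    (QuadraticMap.linMulLin (ent E K 0 0) (ent E K 1 1) - QuadraticMap.linMulLin (ent E K 0 1) (ent E K 1 0))

variable {E K}

theorem detForm_def (X : Herm E K) : detForm E K X = retr E K X.1.det := by
  rw [Matrix.det_fin_two]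
  rfl

theorem algebraMap_detForm (X : Herm E K) : algebraMap E K (detForm E K X) = X.1.det := by
  rw [detForm_def]
  apply algebraMap_retr
  rw [← det_ct, mem_Herm.1 X.2]

/-- Coordinates. -/
noncomputable def hermEquiv (h2 : Module.finrank E K = 2) : ((E × E) × K) ≃ₗ[E] Herm E K where
  toFun v := ⟨!![algebraMap E K v.1.1, v.2; frob E K v.2, algebraMap E K v.1.2], by
    rw [mem_Herm]
    ext i j
    rw [ct_apply]
    fin_cases i <;> fin_cases j
    · exact (frob E K).commutes v.1.1
    · exact frob_frob h2 v.2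
    · rfl
    · exact (frob E K).commutes v.1.2⟩
  map_add' v w := by
    apply Subtype.ext
    ext i j
    fin_cases i <;> fin_cases j <;>
      simp [map_add]
  map_smul' a v := by
    apply Subtype.ext
    ext i j
    have hs : ∀ Y : Herm E K, ((RingHom.id E) a • Y : Herm E K).1 i j = algebraMap E K a * Y.1 i j := fun Y => by
      rw [← Algebra.smul_def]
      rfl
    rw [hs]
    fin_cases i <;> fin_cases j <;>
      simp [Algebra.smul_def]
  invFun X := ((retr E K (X.1 0 0), retr E K (X.1 1 1)), X.1 0 1)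
  left_inv v := by
    refine Prod.ext (Prod.ext ?_ ?_) ?_
    · exact retr_algebraMap v.1.1
    · exact retr_algebraMap v.1.2
    · rfl
  right_inv X := by
    apply Subtype.ext
    ext i j
    fin_cases i <;> fin_cases j
    · exact algebraMap_retr (herm_apply X 0 0)
    · rfl
    · exact herm_apply X 1 0
    · exact algebraMap_retr (herm_apply X 1 1)

theorem sg_detForm (h2 : Module.finrank E K = 2) : Sg (detForm E K) 2 (-1) := by
  have hN : Sg (-(normForm E K)) 1 (-1) := by
    refine sg_of_aniso h2 fun x hx h => ?_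
    have h1 := algebraMap_normForm h2 x
    have h3 : normForm E K x = 0 := by
      have h4 : -(normForm E K x) = 0 := h
      exact neg_eq_zero.1 h4
    rw [h3, map_zero] at h1
    rcases mul_eq_zero.1 h1.symm with h3 | h3
    · exact hx h3
    · rw [frob_apply] at h3
      exact hx (pow_eq_zero_iff (Nat.card_pos.ne') |>.1 h3)
  have h1 := (Cfsg.Agent.H182.Orth.sg_hypForm (F := E)).prod hN
  rw [one_mul] at h1
  refine h1.congr (hermEquiv h2) fun v => ?_
  apply (algebraMap E K).injective
  rw [algebraMap_detForm, prodForm_apply, Cfsg.Agent.H182.Orth.hypForm_apply, Matrix.det_fin_two]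
  have h3 : (-(normForm E K)) v.2 = -(normForm E K v.2) := rfl
  rw [h3, map_add, map_neg, map_mul, algebraMap_normForm h2]
  change algebraMap E K v.1.1 * algebraMap E K v.1.2 - v.2 * frob E K v.2 = _
  ring

/-- The action of `SL_2` on Hermitian matrices. -/
noncomputable def slRep (h2 : Module.finrank E K = 2) : SpecialLinearGroup (Fin 2) K →* Module.End E (Herm E K) where
  toFun g :=
    { toFun := fun X => ⟨g.1 * X.1 * ct E g.1, by
        rw [mem_Herm, ct_mul, ct_mul, ct_ct h2, mem_Herm.1 X.2, Matrix.mul_assoc]⟩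
      map_add' := fun X Y => by
        apply Subtype.ext
        change g.1 * (X.1 + Y.1) * ct E g.1 = g.1 * X.1 * ct E g.1 + g.1 * Y.1 * ct E g.1
        rw [Matrix.mul_add, Matrix.add_mul]
      map_smul' := fun a X => by
        apply Subtype.ext
        change g.1 * (a • X.1) * ct E g.1 = a • (g.1 * X.1 * ct E g.1)
        rw [Matrix.mul_smul, Matrix.smul_mul] }
  map_one' := by
    apply LinearMap.ext
    intro X
    apply Subtype.ext
    change (1 : Matrix (Fin 2) (Fin 2) K) * X.1 * ct E 1 = X.1
    rw [ct_one, Matrix.one_mul, Matrix.mul_one]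
  map_mul' g h := by
    apply LinearMap.ext
    intro X
    apply Subtype.ext
    change (g.1 * h.1) * X.1 * ct E (g.1 * h.1) = g.1 * (h.1 * X.1 * ct E h.1) * ct E g.1
    rw [ct_mul]
    simp only [Matrix.mul_assoc]

theorem slRep_coe (h2 : Module.finrank E K = 2) (g : SpecialLinearGroup (Fin 2) K) (X : Herm E K) :
    (slRep h2 g X).1 = g.1 * X.1 * ct E g.1 := rfl

theorem slRep_iso (h2 : Module.finrank E K = 2) (g : SpecialLinearGroup (Fin 2) K) (X : Herm E K) :
    detForm E K (slRep h2 g X) = detForm E K X := by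
  apply (algebraMap E K).injective
  rw [algebraMap_detForm, algebraMap_detForm, slRep_coe, Matrix.det_mul, Matrix.det_mul, det_ct, g.2, map_one,
    one_mul, mul_one]

theorem slRep_ker (h2 : Module.finrank E K = 2) (g : SpecialLinearGroup (Fin 2) K) (h : slRep h2 g = 1) :
    g ∈ Subgroup.center (SpecialLinearGroup (Fin 2) K) := by
  have key : ∀ X : Herm E K, g.1 * X.1 * ct E g.1 = X.1 := fun X =>
    congrArg Subtype.val (LinearMap.congr_fun h X)
  let σ := frob E K
  have hs0 : ∀ x : K, σ x = 0 → x = 0 := fun x hx => by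
    have h3 : σ x = x ^ Nat.card E := frob_apply x
    rw [h3] at hx
    exact pow_eq_zero_iff (Nat.card_pos.ne') |>.1 hx
  have hinj : Function.Injective σ := σ.toRingHom.injective
  have e0 := key (hermEquiv h2 ((1, 0), 0))
  have e1 := key (hermEquiv h2 ((0, 1), 0))
  have e2 := key (hermEquiv h2 ((0, 0), 1))
  have c0 : ∀ i j, g.1 i 0 * σ (g.1 j 0) = (hermEquiv h2 ((1, 0), 0)).1 i j := by
    intro i j
    rw [← e0, Matrix.mul_apply, Fin.sum_univ_two, Matrix.mul_apply, Fin.sum_univ_two, Matrix.mul_apply,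
      Fin.sum_univ_two, ct_apply, ct_apply]
    simp [hermEquiv, σ]
  have c1 : ∀ i j, g.1 i 1 * σ (g.1 j 1) = (hermEquiv h2 ((0, 1), 0)).1 i j := by
    intro i j
    rw [← e1, Matrix.mul_apply, Fin.sum_univ_two, Matrix.mul_apply, Fin.sum_univ_two, Matrix.mul_apply,
      Fin.sum_univ_two, ct_apply, ct_apply]
    simp [hermEquiv, σ]
  have c2 : ∀ i j, g.1 i 0 * σ (g.1 j 1) + g.1 i 1 * σ (g.1 j 0) = (hermEquiv h2 ((0, 0), 1)).1 i j := by
    intro i j
    rw [← e2, Matrix.mul_apply, Fin.sum_univ_two, Matrix.mul_apply, Fin.sum_univ_two, Matrix.mul_apply,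
      Fin.sum_univ_two, ct_apply, ct_apply]
    simp [hermEquiv, σ]
    ring
  have h10 : g.1 1 0 = 0 := by
    have h3 : g.1 1 0 * σ (g.1 1 0) = 0 := by
      rw [c0]
      simp [hermEquiv]
    rcases mul_eq_zero.1 h3 with h4 | h4
    · exact h4
    · exact hs0 _ h4
  have h01 : g.1 0 1 = 0 := by
    have h3 : g.1 0 1 * σ (g.1 0 1) = 0 := by
      rw [c1]
      simp [hermEquiv]
    rcases mul_eq_zero.1 h3 with h4 | h4
    · exact h4
    · exact hs0 _ h4
  have h00 : g.1 0 0 * σ (g.1 0 0) = 1 := by
    rw [c0]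
    simp [hermEquiv]
  have h0d : g.1 0 0 * σ (g.1 1 1) = 1 := by
    have h3 := c2 0 1
    rw [h01, zero_mul, add_zero] at h3
    rw [h3]
    simp [hermEquiv]
  have ha : g.1 0 0 ≠ 0 := left_ne_zero_of_mul_eq_one h00
  have hd : g.1 1 1 = g.1 0 0 := hinj (mul_left_cancel₀ ha (h0d.trans h00.symm))
  rw [Matrix.SpecialLinearGroup.mem_center_iff]
  refine ⟨g.1 0 0, ?_, ?_⟩
  · have hdet := g.2
    rw [Matrix.det_fin_two, h01, h10, hd] at hdet
    rw [Fintype.card_fin]
    linear_combination hdet
  · ext i j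
    fin_cases i <;> fin_cases j
    · simp
    · simpa using h01.symm
    · simpa using h10.symm
    · simpa using hd.symm

end

/-- **`PSL_2(q^m)` in `PΩ(Q)`.** -/
theorem exists_psl (F : Type) [Field F] [Finite F] {m : ℕ} (hm : Even m) (hm2 : 2 ≤ m) :
    ∃ (K : Type) (_ : Field K) (_ : Fintype K), Fintype.card K = Nat.card F ^ m ∧
      ∀ {ι : Type} [Fintype ι] [DecidableEq ι] (Q : QuadraticForm F (ι → F)), Cont Q m → ∀ {r : ℕ},
        May r (Cfsg.POmega F ⇑Q) → May r (Matrix.ProjectiveSpecialLinearGroup (Fin 2) K) := by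
  obtain ⟨p, hp⟩ := CharP.exists F
  haveI : Fact (Nat.Prime p) := ⟨CharP.char_is_prime F p⟩
  obtain ⟨k, hk⟩ := hm
  haveI : NeZero k := ⟨by omega⟩
  let E := FiniteField.Extension F p k
  haveI : CharP E p := charP_of_injective_algebraMap (algebraMap F E).injective p
  let K := FiniteField.Extension E p 2
  letI := Fintype.ofFinite K
  letI : Algebra F K := ((algebraMap E K).comp (algebraMap F E)).toAlgebra
  haveI : IsScalarTower F E K := IsScalarTower.of_algebraMap_eq fun x => rfl
  have h2 : Module.finrank E K = 2 := FiniteField.finrank_extension E p 2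
  have hcard : Fintype.card K = Nat.card F ^ m := by
    rw [← Nat.card_eq_fintype_card]
    have h3 : Nat.card K = Nat.card E ^ 2 := FiniteField.natCard_extension E p 2
    have h4 : Nat.card E = Nat.card F ^ k := FiniteField.natCard_extension F p k
    rw [h3, h4, ← pow_mul, hk]
    congr 1
    ring
  refine ⟨K, inferInstance, inferInstance, hcard, ?_⟩
  intro ι _ _ Q hC r hM
  have hP := (sg_detForm (E := E) (K := K) h2).res (F := F)
  rw [FiniteField.finrank_extension, show k * 2 = m from by omega] at hP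
  have hq : 3 < Fintype.card K := by
    rw [hcard]
    have h5 : 2 ≤ Nat.card F := Finite.one_lt_card
    calc 3 < 2 ^ 2 := by norm_num
      _ ≤ Nat.card F ^ 2 := Nat.pow_le_pow_left h5 2
      _ ≤ Nat.card F ^ m := Nat.pow_le_pow_right (by omega) hm2
  let ρ : SpecialLinearGroup (Fin 2) K →* Module.End F (Herm E K) :=
    { toFun := fun g => (slRep h2 g).restrictScalars F
      map_one' := by rw [map_one]; rfl
      map_mul' := fun g h => by rw [map_mul]; rfl }
  refine hC.may hP ρ ?_ ?_ (Cfsg.Agent.TwoFusion.SLTwoFacts.commutator_eq_top hq) hM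
  · intro g v
    rw [traceForm_apply, traceForm_apply]
    congr 1
    exact slRep_iso h2 g v
  · intro g hg
    apply slRep_ker h2 g
    apply LinearMap.ext
    intro X
    exact LinearMap.congr_fun hg X

end Cfsg.Agent.H522.FpfEmb
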