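import Cfsg.Agent.H200.RowOrthJ
import Cfsg.Agent.H80.Fpf.Loc

/-!
# Fixed point free primes of `E Q / Z` (helper522, task 1482)

* `not_may_sing` : an element of order `r` fixing a nonzero singular vector;
* `not_may_char` : `r` the characteristic;
* `not_may_ts` : an element of order `r` irreducible on a totally singular subspace of dimension at
  least 3 (`r` good);
* `exists_ts` : such a subspace if the order `d` of `q` modulo `r` is odd, `dim V < 3 d`.
-/

set_option autoImplicit false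
set_option linter.unusedSectionVars false
set_option linter.style.haveILetI false

namespace Cfsg.Agent.H522.FpfSing

open QuadraticMap Module Cfsg.Agent.LieClassical.OrthCore Cfsg.Agent.LieClassical.OrthTrans
open Cfsg.Agent.ClassicalGeometry.OrthSemi Cfsg.Agent.ClassicalGeometry.OrthAut1
open Cfsg.Agent.H200.LinFix Cfsg.Agent.H200.RowOrth

variable {F V : Type*} [Field F] [AddCommGroup V] [Module F V] {Q : QuadraticForm F V}

/-- The vectors orthogonal to `u`. -/
def pp (Q : QuadraticForm F V) (u : V) : Submodule F V := LinearMap.ker (polarBilin Q u)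

theorem mem_pp {u w : V} : w ∈ pp Q u ↔ polar Q u w = 0 := LinearMap.mem_ker

/-- The Siegel transformations of a singular vector `u`. -/
def sh (Q : QuadraticForm F V) (u : V) (hu : Q u = 0) : Multiplicative (pp Q u) →* ↥(E Q) where
  toFun w := ⟨siegel Q u ((Multiplicative.toAdd w : pp Q u) : V) hu (mem_pp.1 (Multiplicative.toAdd w).2),
    siegel_mem_E _ _⟩
  map_one' := Subtype.ext (LinearEquiv.ext fun v => by
    change siegelLin Q u ((0 : pp Q u) : V) v = v
    rw [siegelLin_apply]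
    simp)
  map_mul' a b := Subtype.ext (siegel_mul hu (mem_pp.1 (Multiplicative.toAdd a).2)
    (mem_pp.1 (Multiplicative.toAdd b).2) (mem_pp.1 (Multiplicative.toAdd (a * b)).2)).symm

theorem sh_apply {u : V} (hu : Q u = 0) (w : Multiplicative (pp Q u)) (v : V) :
    (sh Q u hu w : V ≃ₗ[F] V) v = v + polar Q u v • ((Multiplicative.toAdd w : pp Q u) : V)
      - polar Q ((Multiplicative.toAdd w : pp Q u) : V) v • u
      - (Q ((Multiplicative.toAdd w : pp Q u) : V) * polar Q u v) • u :=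
  siegel_apply hu (mem_pp.1 (Multiplicative.toAdd w).2) v

/-- The Siegel group of `u`. -/
def sg (Q : QuadraticForm F V) (u : V) (hu : Q u = 0) : Subgroup ↥(E Q) := (sh Q u hu).range

theorem sg_comm {u : V} (hu : Q u = 0) {a b : ↥(E Q)} (ha : a ∈ sg Q u hu) (hb : b ∈ sg Q u hu) : a * b = b * a := by
  obtain ⟨a, rfl⟩ := ha
  obtain ⟨b, rfl⟩ := hb
  rw [← map_mul, ← map_mul, mul_comm]

theorem sh_pow {u : V} (hu : Q u = 0) (l : ℕ) [CharP F l] (w : Multiplicative (pp Q u)) : sh Q u hu w ^ l = 1 := by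
  rw [← map_pow]
  have h1 : w ^ l = 1 := by
    change Multiplicative.ofAdd (l • (Multiplicative.toAdd w)) = 1
    rw [← Nat.cast_smul_eq_nsmul F, CharP.cast_eq_zero, zero_smul]
    rfl
  rw [h1, map_one]

theorem sg_isPGroup {u : V} (hu : Q u = 0) (l : ℕ) [CharP F l] : IsPGroup l (sg Q u hu) := by
  rintro ⟨_, w, rfl⟩
  refine ⟨1, Subtype.ext ?_⟩
  change sh Q u hu w ^ l ^ 1 = 1
  rw [pow_one, sh_pow hu l]

theorem sg_conj {u : V} (hu : Q u = 0) {y : ↥(E Q)} (hy : (y : V ≃ₗ[F] V) u = u) (w : pp Q u)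
    (hw : (y : V ≃ₗ[F] V) w ∈ pp Q u) :
    y * sh Q u hu (Multiplicative.ofAdd w) * y⁻¹ = sh Q u hu (Multiplicative.ofAdd ⟨(y : V ≃ₗ[F] V) w, hw⟩) := by
  apply Subtype.ext
  have hu' : Q ((y : V ≃ₗ[F] V) u) = 0 := by rw [hy, hu]
  have hw' : polar Q ((y : V ≃ₗ[F] V) u) ((y : V ≃ₗ[F] V) w) = 0 := by rw [hy]; exact mem_pp.1 hw
  have h1 := siegel_conj (E_le_O y.2) hu (mem_pp.1 w.2) hu' hw'
  refine Eq.trans h1 ?_
  ext v
  rw [siegel_apply, sh_apply, hy]
  rfl

theorem map_mem_pp {u : V} {y : ↥(E Q)} (hy : (y : V ≃ₗ[F] V) u = u) {w : V} (hw : w ∈ pp Q u) :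
    (y : V ≃ₗ[F] V) w ∈ pp Q u := by
  rw [mem_pp] at hw ⊢
  nth_rewrite 1 [← hy]
  rw [polar_map (E_le_O y.2), hw]

/-- An element of order prime to the characteristic fixing `u` and centralising the Siegel group of `u` is
trivial. -/
theorem eq_one_of_comm (hG : Good Q) {r : ℕ} (hrF : (r : F) ≠ 0) {y : ↥(E Q)} (hy : y ^ r = 1) {u : V} (hu : Q u = 0)
    (hu0 : u ≠ 0) (hyu : (y : V ≃ₗ[F] V) u = u) (hc : ∀ k ∈ sg Q u hu, y * k = k * y) : y = 1 := by
  have hy' : en Q y ^ r = 1 := by rw [← map_pow, hy, map_one]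
  obtain ⟨z, hz⟩ := Cfsg.Agent.LieClassical.OrthTrans.exists_hyp hG.nondeg hu hu0
  -- multiples of `u` in the range of `y - 1` vanish
  have key : ∀ w : V, (∃ c : F, en Q y w - w = c • u) → en Q y w = w := by
    rintro w ⟨c, hc⟩
    rw [← sub_eq_zero]
    refine eq_zero_of_mem hy' hrF ?_ (sub_mem_R (en Q y) w)
    rw [hc, map_smul, en_apply, hyu]
  have h1 : ∀ w ∈ pp Q u, en Q y w = w := by
    intro w hw
    apply key
    have h2 := hc (sh Q u hu (Multiplicative.ofAdd ⟨w, hw⟩)) ⟨_, rfl⟩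
    rw [← mul_inv_eq_iff_eq_mul, sg_conj hu hyu ⟨w, hw⟩ (map_mem_pp hyu hw)] at h2
    have h3 := congrArg (fun g : ↥(E Q) => (g : V ≃ₗ[F] V) z) h2
    simp only [sh_apply, toAdd_ofAdd, hz.pair, one_smul, mul_one] at h3
    refine ⟨polar Q ((y : V ≃ₗ[F] V) w) z + Q ((y : V ≃ₗ[F] V) w) - polar Q w z - Q w, ?_⟩
    have h4 : (y : V ≃ₗ[F] V) w - w = ((z + (y : V ≃ₗ[F] V) w - polar Q ((y : V ≃ₗ[F] V) w) z • u
      - Q ((y : V ≃ₗ[F] V) w) • u) - (z + w - polar Q w z • u - Q w • u)) +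
        (polar Q ((y : V ≃ₗ[F] V) w) z + Q ((y : V ≃ₗ[F] V) w) - polar Q w z - Q w) • u := by
      module
    rw [en_apply, h4, h3, sub_self, zero_add]
  have h2 : ∀ v : V, en Q y v = v := by
    intro v
    apply key
    refine ⟨polar Q z (en Q y v - v), ?_⟩
    -- `y v - v` is orthogonal to `u^⊥`
    have h3 : ∀ w ∈ pp Q u, polar Q w (en Q y v - v) = 0 := by
      intro w hw
      rw [polar_sub_right]
      nth_rewrite 1 [← h1 w hw]
      rw [en_apply, en_apply, polar_map (E_le_O y.2), sub_self]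
    have h4 : ∀ x : V, polar Q (en Q y v - v - polar Q z (en Q y v - v) • u) x = 0 := by
      intro x
      have h5 : x - polar Q u x • z ∈ pp Q u := by
        rw [mem_pp, polar_sub_right, polar_smul_right, hz.pair, smul_eq_mul, mul_one, sub_self]
      have h6 := h3 _ h5
      have h7 : polar Q (x - polar Q u x • z) u = 0 := by rw [polar_comm]; exact mem_pp.1 h5
      rw [polar_comm]
      have h8 : x = (x - polar Q u x • z) + polar Q u x • z := by abel
      rw [h8, polar_sub_right, polar_smul_right, polar_add_left, polar_add_left, h6, h7, polar_smul_left,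
        polar_smul_left, hz.pair']
      simp only [smul_eq_mul, zero_add]
      ring
    exact sub_eq_zero.1 (hG.nondeg _ h4)
  apply en_injective
  rw [map_one]
  exact LinearMap.ext h2

section crit

variable [Finite V]

open Cfsg.Agent.H80 in
/-- **An element of order `r` fixing a nonzero singular vector.** -/
theorem not_may_sing (hG : Good Q) [IsSimpleGroup (P Q)] {r l : ℕ} (hr : r.Prime) (hr2 : r ≠ 2) (hl : l.Prime)
    [CharP F l] (hlr : l ≠ r) (hgood : Fpf.Good l r ∨ ∃ m, Fpf.MultDvd (P Q) m ∧ ¬ l ∣ m) {y : ↥(E Q)} (hy : y ^ r = 1)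
    (hy1 : y ≠ 1) {u : V} (hu : Q u = 0) (hu0 : u ≠ 0) (hyu : (y : V ≃ₗ[F] V) u = u) : ¬ Fpf.May r (P Q) := by
  haveI : Finite ↥(E Q) := finite_E
  haveI : Fact r.Prime := ⟨hr⟩
  have hodd : Odd r := hr.odd_of_ne_two hr2
  have hrF : (r : F) ≠ 0 := by
    intro h0
    rw [CharP.cast_eq_zero_iff F l] at h0
    exact hlr ((Nat.prime_dvd_prime_iff_eq hl hr).1 h0)
  obtain ⟨k, hk, hne⟩ : ∃ k ∈ sg Q u hu, y * k ≠ k * y := by
    by_contra hcon
    push Not at hcon
    exact hy1 (eq_one_of_comm hG hrF hy hu hu0 hyu hcon)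
  let K : Subgroup (P Q) := (sg Q u hu).map (QuotientGroup.mk' (Subgroup.center ↥(E Q)))
  have hK : IsPGroup l K := (sg_isPGroup hu l).map _
  have hx : orderOf (QuotientGroup.mk y : P Q) = r := orderOf_mk hG hodd hy hy1
  have hxK : ∀ k ∈ K, (QuotientGroup.mk y : P Q) * k * (QuotientGroup.mk y)⁻¹ ∈ K := by
    rintro _ ⟨_, ⟨w, rfl⟩, rfl⟩
    refine ⟨y * sh Q u hu w * y⁻¹, ?_, rfl⟩
    have h1 := sg_conj hu hyu (Multiplicative.toAdd w) (map_mem_pp hyu (Multiplicative.toAdd w).2)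
    rw [ofAdd_toAdd] at h1
    rw [h1]
    exact ⟨_, rfl⟩
  have hkK : (QuotientGroup.mk k : P Q) ∈ K := ⟨k, hk, rfl⟩
  have hne' : (QuotientGroup.mk y : P Q) * QuotientGroup.mk k ≠ QuotientGroup.mk k * QuotientGroup.mk y :=
    fun h => hne (comm_of_mk hG hodd hy h)
  rcases hgood with hgood | ⟨m, hm, hlm⟩
  · exact Fpf.not_may_of_act hr hr2 hl hlr hgood hK hx hxK hkK hne'
  · refine Fpf.not_may_of_act_abelian hr hr2 hl hm hlm hK ?_ hx hxK hkK hne'
    rintro _ ⟨a, ha, rfl⟩ _ ⟨b, hb, rfl⟩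
    rw [← map_mul, ← map_mul, sg_comm hu ha hb]

open Cfsg.Agent.H80 in
/-- **The characteristic.** -/
theorem not_may_char (hG : Good Q) {l : ℕ} (hl : l.Prime) (hl2 : l ≠ 2) [CharP F l] : ¬ Fpf.May l (P Q) := by
  haveI : Finite ↥(E Q) := finite_E
  haveI : Fact l.Prime := ⟨hl⟩
  have hodd : Odd l := hl.odd_of_ne_two hl2
  obtain ⟨x, x', hx⟩ := hG.exists_hyp
  obtain ⟨z, w, hzw, hxz, hxw, hxz', hxw'⟩ := hG.exists_hyp2 hx
  let a : ↥(E Q) := sh Q x hx.left (Multiplicative.ofAdd ⟨z, mem_pp.2 hxz⟩)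
  let b : ↥(E Q) := sh Q x hx.left (Multiplicative.ofAdd ⟨w, mem_pp.2 hxw⟩)
  have happ : ∀ (v : V) (hv : polar Q x v = 0), polar Q x' v = 0 → Q v = 0 →
      (sh Q x hx.left (Multiplicative.ofAdd ⟨v, mem_pp.2 hv⟩) : V ≃ₗ[F] V) x' = x' + v := by
    intro v hv hv' hQv
    rw [sh_apply]
    simp only [toAdd_ofAdd, hx.pair, hQv, one_smul, zero_mul, zero_smul, sub_zero]
    rw [polar_comm, hv', zero_smul, sub_zero]
  have ha1 : a ≠ 1 := by
    intro h
    have h1 := happ z hxz hxz' hzw.left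
    change (a : V ≃ₗ[F] V) x' = x' + z at h1
    rw [h] at h1
    change x' = x' + z at h1
    exact hzw.left_ne (by simpa using h1)
  have hb1 : b ≠ 1 := by
    intro h
    have h1 := happ w hxw hxw' hzw.right
    change (b : V ≃ₗ[F] V) x' = x' + w at h1
    rw [h] at h1
    change x' = x' + w at h1
    exact hzw.right_ne (by simpa using h1)
  have ha : a ^ l = 1 := sh_pow _ l _
  have hb : b ^ l = 1 := sh_pow _ l _
  refine Fpf.not_may_of_comm hl hl2 (a := (QuotientGroup.mk a : P Q)) (b := QuotientGroup.mk b) ?_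
    (orderOf_mk hG hodd ha ha1) (orderOf_mk hG hodd hb hb1) ?_
  · rw [← QuotientGroup.mk_mul, ← QuotientGroup.mk_mul, sg_comm hx.left (a := a) (b := b) ⟨_, rfl⟩ ⟨_, rfl⟩]
  · rintro ⟨k, hk⟩
    have h1 : (a ^ k)⁻¹ * b ∈ Subgroup.center ↥(E Q) := by
      rw [← QuotientGroup.eq]
      exact hk
    have haS : a ∈ sg Q x hx.left := ⟨_, rfl⟩
    have hbS : b ∈ sg Q x hx.left := ⟨_, rfl⟩
    have h2 : (a ^ k)⁻¹ * b ∈ sg Q x hx.left := mul_mem (inv_mem (zpow_mem haS k)) hbS
    obtain ⟨c, hc⟩ := h2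
    have h3 : (a ^ k)⁻¹ * b = 1 := by
      apply center_pow_odd hG h1 hodd
      rw [← hc, sh_pow _ l]
    have h4 : b = a ^ k := by
      rw [inv_mul_eq_one] at h3
      exact h3.symm
    have h5 : a ^ k = sh Q x hx.left (Multiplicative.ofAdd (k • ⟨z, mem_pp.2 hxz⟩)) := by
      rw [ofAdd_zsmul, map_zpow]
    have h6 : polar Q x (k • z) = 0 := by
      rw [← Int.cast_smul_eq_zsmul F, polar_smul_right, hxz, smul_zero]
    have h7 : polar Q x' (k • z) = 0 := by
      rw [← Int.cast_smul_eq_zsmul F, polar_smul_right, hxz', smul_zero]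
    have h8 : Q (k • z) = 0 := by
      rw [← Int.cast_smul_eq_zsmul F, QuadraticMap.map_smul, hzw.left, smul_zero]
    have h9 := happ w hxw hxw' hzw.right
    have h10 := happ (k • z) h6 h7 h8
    have h11 : (b : V ≃ₗ[F] V) x' = x' + k • z := by
      rw [h4, h5]
      exact h10
    have h12 : x' + w = x' + k • z := by rw [← h9, ← h11]
    have h13 : w = k • z := add_left_cancel h12
    have h14 := hzw.pair
    rw [h13, ← Int.cast_smul_eq_zsmul F, polar_smul_right, hzw.polar_left, smul_zero] at h14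
    exact zero_ne_one h14

theorem mem_of_inv {r : ℕ} (hr : 0 < r) {y : ↥(E Q)} (hy : y ^ r = 1) {W : Submodule F V}
    (hyW : ∀ w ∈ W, en Q y w ∈ W) {w : V} (hw : w ∈ W) : en Q y⁻¹ w ∈ W := by
  have h1 : y⁻¹ = y ^ (r - 1) := by
    rw [inv_eq_iff_mul_eq_one, ← pow_succ', Nat.sub_add_cancel hr, hy]
  rw [h1, map_pow]
  exact pow_inv_mem hyW _ w hw

theorem conj_mem_U {y g : ↥(E Q)} {W : Submodule F V} (hyW : ∀ w ∈ W, en Q y w ∈ W)
    (hyW' : ∀ w ∈ W, en Q y⁻¹ w ∈ W) (hg : g ∈ U Q W) : y * g * y⁻¹ ∈ U Q W := by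
  refine ⟨fun w hw => ?_, fun v hv => ?_⟩
  · have h1 : en Q (y * g * y⁻¹) w = en Q y (en Q g (en Q y⁻¹ w)) := by
      rw [map_mul, map_mul]; rfl
    have h2 : en Q g (en Q y⁻¹ w) = en Q y⁻¹ w := hg.1 _ (hyW' w hw)
    have h3 : en Q y (en Q y⁻¹ w) = w := by
      rw [← Module.End.mul_apply, ← map_mul, mul_inv_cancel, map_one]; rfl
    exact h1.trans (by rw [h2, h3])
  · have h1 : en Q (y * g * y⁻¹) v = en Q y (en Q g (en Q y⁻¹ v)) := by
      rw [map_mul, map_mul]; rfl
    have h3 : en Q y (en Q y⁻¹ v) = v := by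
      rw [← Module.End.mul_apply, ← map_mul, mul_inv_cancel, map_one]; rfl
    have h4 : ∀ w ∈ W, polar Q w (en Q y⁻¹ v) = 0 := by
      intro w hw
      have h5 := hv _ (hyW w hw)
      rw [← h3, en_apply, en_apply y (en Q y⁻¹ v), polar_map (E_le_O y.2)] at h5
      exact h5
    have h5 := hyW _ (hg.2 _ h4)
    change en Q (y * g * y⁻¹) v - v ∈ W
    have h6 : en Q (y * g * y⁻¹) v - v = en Q y ((g : V ≃ₗ[F] V) (en Q y⁻¹ v) - en Q y⁻¹ v) := by
      rw [h1, map_sub, h3]; rfl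
    rw [h6]
    exact h5

open Cfsg.Agent.H80 in
/-- **An element of order `r` irreducible on a totally singular subspace of dimension at least 3.** -/
theorem not_may_ts (hG : Good Q) [IsSimpleGroup (P Q)] {r l : ℕ} (hr : r.Prime) (hr2 : r ≠ 2) (hl : l.Prime)
    [CharP F l] (hlr : l ≠ r) (hgood : Fpf.Good l r) {y : ↥(E Q)} (hy : y ^ r = 1)
    (hy1 : y ≠ 1) {W : Submodule F V} (hW : TS Q W) (hyW : ∀ w ∈ W, en Q y w ∈ W) (hirr : Irr (en Q y) W)
    (hdim : 3 ≤ finrank F W) : ¬ Fpf.May r (P Q) := by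
  haveI : Finite ↥(E Q) := finite_E
  haveI : Fact r.Prime := ⟨hr⟩
  haveI : Fact l.Prime := ⟨hl⟩
  haveI : FiniteDimensional F V := inferInstance
  have hodd : Odd r := hr.odd_of_ne_two hr2
  let K : Subgroup (P Q) := (U Q W).map (QuotientGroup.mk' (Subgroup.center ↥(E Q)))
  have hK : IsPGroup l K := (isPGroup_U l W).map _
  have hx : orderOf (QuotientGroup.mk y : P Q) = r := orderOf_mk hG hodd hy hy1
  have hyW' : ∀ w ∈ W, en Q y⁻¹ w ∈ W := fun w hw => mem_of_inv hr.pos hy hyW hw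
  obtain ⟨u, hu, hu0⟩ : ∃ u ∈ W, u ≠ 0 := by
    by_contra hcon
    push Not at hcon
    have h1 : W = ⊥ := (Submodule.eq_bot_iff W).2 hcon
    rw [h1, finrank_bot] at hdim
    omega
  obtain ⟨w, hw, hwu⟩ : ∃ w ∈ W, w ∉ Submodule.span F {u} := by
    by_contra hcon
    push Not at hcon
    have h1 : finrank F W ≤ finrank F (Submodule.span F ({u} : Set V)) := Submodule.finrank_mono hcon
    have h2 := finrank_span_singleton (K := F) hu0
    omega
  have huw : w ∈ pp Q u := mem_pp.2 (hW.polar hu hw)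
  obtain ⟨z, hz⟩ := Cfsg.Agent.LieClassical.OrthTrans.exists_hyp hG.nondeg (hW u hu) hu0
  set s : ↥(E Q) := sh Q u (hW u hu) (Multiplicative.ofAdd ⟨w, huw⟩) with hs
  have hsU : s ∈ U Q W := by
    refine ⟨fun v hv => ?_, fun v hv => ?_⟩
    · rw [hs, sh_apply]
      simp only [toAdd_ofAdd]
      rw [hW.polar hu hv, hW.polar hw hv]
      simp
    · rw [hs, sh_apply]
      simp only [toAdd_ofAdd]
      rw [hv u hu, hv w hw]
      simp
  have hs1 : en Q s z ≠ z := by
    intro h4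
    rw [en_apply, hs, sh_apply] at h4
    simp only [toAdd_ofAdd, hz.pair, one_smul, mul_one, hW w hw, zero_smul, sub_zero] at h4
    apply hwu
    rw [Submodule.mem_span_singleton]
    refine ⟨polar Q w z, ?_⟩
    have h5 : w - polar Q w z • u = (z + w - polar Q w z • u) - z := by abel
    rw [h4, sub_self, sub_eq_zero] at h5
    exact h5.symm
  have hRs : R (en Q s) ≤ Submodule.span F {u, w} := by
    rintro _ ⟨v, rfl⟩
    change (s : V ≃ₗ[F] V) v - v ∈ _
    rw [hs, sh_apply]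
    simp only [toAdd_ofAdd, hW w hw, zero_mul, zero_smul, sub_zero]
    have h1 : v + polar Q u v • w - polar Q w v • u - v = polar Q u v • w - polar Q w v • u := by abel
    rw [h1]
    exact Submodule.sub_mem _ (Submodule.smul_mem _ _ (Submodule.subset_span (by simp)))
      (Submodule.smul_mem _ _ (Submodule.subset_span (by simp)))
  have hsp : Submodule.span F ({u, w} : Set V) ≤ W := by
    rw [Submodule.span_le]
    intro x hx
    simp only [Set.mem_insert_iff, Set.mem_singleton_iff] at hx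
    rcases hx with rfl | rfl
    · exact hu
    · exact hw
  have hne : y * s ≠ s * y := by
    intro hc
    have hcom : en Q y * en Q s = en Q s * en Q y := by rw [← map_mul, hc, map_mul]
    rcases hirr (R (en Q s)) (hRs.trans hsp) (fun v hv => R_inv hcom hv) with h | h
    · apply hs1
      have h1 := sub_mem_R (en Q s) z
      rw [h, Submodule.mem_bot, sub_eq_zero] at h1
      exact h1
    · have h1 : finrank F W ≤ finrank F (Submodule.span F ({u, w} : Set V)) := by
        rw [← h]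
        exact Submodule.finrank_mono hRs
      have h2 : finrank F (Submodule.span F ({u, w} : Set V)) ≤ 2 := by
        classical
        have h3 := finrank_span_finset_le_card (R := F) ({u, w} : Finset V)
        rw [Finset.coe_insert, Finset.coe_singleton] at h3
        exact h3.trans Finset.card_le_two
      omega
  refine Fpf.not_may_of_act hr hr2 hl hlr hgood hK hx ?_ (k := QuotientGroup.mk s) ⟨s, hsU, rfl⟩
    (fun h => hne (comm_of_mk hG hodd hy h))
  rintro _ ⟨g, hg, rfl⟩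
  exact ⟨y * g * y⁻¹, conj_mem_U hyW hyW' hg, rfl⟩

/-- **Totally singular invariant subspaces.** -/
theorem exists_ts (hG : Good Q) {r d : ℕ} (hr : r.Prime) (hr2 : r ≠ 2) (hrF : (r : F) ≠ 0)
    (hd : Ordd r (Nat.card F) d) (hrd : r ∣ Nat.card F ^ d - 1) (hdo : Odd d) (hd3 : 3 ≤ d)
    (hV : finrank F V < 3 * d) {y : ↥(E Q)} (hy : y ^ r = 1) (hy1 : y ≠ 1) :
    ∃ W : Submodule F V, TS Q W ∧ (∀ w ∈ W, en Q y w ∈ W) ∧ Irr (en Q y) W ∧ 3 ≤ finrank F W := by
  haveI : Fact r.Prime := ⟨hr⟩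
  haveI : Finite F := finite_F hG
  haveI : FiniteDimensional F V := inferInstance
  have hfr := finrank_R_odd hG hr2 hrF hd hdo hV hy hy1
  have hy' : en Q y ^ r = 1 := by rw [← map_pow, hy, map_one]
  have hyW : ∀ w ∈ R (en Q y), en Q y w ∈ R (en Q y) := fun w hw => R_inv rfl hw
  have hW : R (en Q y) ≠ ⊥ := by
    intro h
    rw [h, finrank_bot] at hfr
    omega
  have hq1 : 1 ≤ Nat.card F ^ d := Nat.one_le_pow _ _ Nat.card_pos
  have hyb := isom_en y
  have hb := polar_nondeg hG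
  -- a proper invariant subspace
  obtain ⟨E₀, hEW, hyE, hE0, hEne⟩ : ∃ E₀ : Submodule F V, E₀ ≤ R (en Q y) ∧ (∀ w ∈ E₀, en Q y w ∈ E₀) ∧ E₀ ≠ ⊥ ∧
      E₀ ≠ R (en Q y) := by
    by_contra hcon
    push Not at hcon
    have hirr : Irr (en Q y) (R (en Q y)) := fun U hU hyU => by
      by_cases h : U = ⊥
      · exact Or.inl h
      · exact Or.inr (hcon U hU hyU h)
    obtain ⟨w, hw, hw0⟩ := Submodule.exists_mem_ne_zero_of_ne_bot hW
    obtain ⟨m, hm, hU⟩ := unitary_on (l := r - 1) hW hyW hirr (polarBilin Q) (fun u _ v _ => hyb u v)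
      (fun v hv hv' => nondeg_R hyb hb hy' hrF hv hv')
      (by rw [Nat.sub_add_cancel hr.one_le, hy'])
      ⟨w, hw, fun h1 => hw0 (eq_zero_of_mem hy' hrF (fix_of_sq hr2 hy' h1) hw)⟩
    have hmd : m = d := by omega
    subst hmd
    apply hw0
    refine eq_zero_of_mem hy' hrF ?_ hw
    refine fix_of_coprime (hU (en Q y) hyW (fun w _ => rfl) (fun u _ v _ => hyb u v) w hw)
      (by rw [hy']; rfl) ?_
    refine ((Nat.Prime.coprime_iff_not_dvd hr).2 fun h => ?_).symm
    apply hr2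
    have h3 : r ∣ 2 := by
      have h4 : Nat.card F ^ m + 1 - (Nat.card F ^ m - 1) = 2 := by omega
      rw [← h4]
      exact Nat.dvd_sub h hrd
    exact (Nat.prime_dvd_prime_iff_eq hr Nat.prime_two).1 h3
  have hEd : finrank F E₀ = d := by
    obtain ⟨c, hc⟩ := dvd_finrank_le hd hrF hy' hEW hyE
    have h1 : finrank F E₀ < finrank F (R (en Q y)) := Submodule.finrank_lt_finrank_of_lt (lt_of_le_of_ne hEW hEne)
    have h2 : finrank F E₀ ≠ 0 := fun h => hE0 (Submodule.finrank_eq_zero.1 h)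
    have h3 : c < 2 := by
      by_contra h
      push Not at h
      nlinarith
    interval_cases c <;> omega
  have hirr : Irr (en Q y) E₀ := irr_of_lt hd hrF hy' hEW hyE (by omega)
  have hnotEven : ¬ Even (finrank F E₀) := by rw [hEd]; exact Nat.not_even_iff_odd.2 hdo
  have hti : ∀ v ∈ E₀, ∀ u ∈ E₀, polarBilin Q u v = 0 := by
    rcases rad_of_irr hy' hyb hyE hirr with h | h
    · exact absurd (even_of_irr hr2 hrF hy' hEW hyE hirr hE0 (polarBilin Q) (fun u _ v _ => hyb u v) h) hnotEven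
    · exact h
  have hpol : ∀ v ∈ E₀, ∀ u ∈ E₀, polar Q u v = 0 := fun v hv u hu => hti v hv u hu
  -- a nonzero singular vector
  obtain ⟨v, hv, hv0, hQv⟩ : ∃ v ∈ E₀, v ≠ 0 ∧ Q v = 0 := by
    have h1 : Nat.card F < Nat.card E₀ := by
      rw [Module.natCard_eq_pow_finrank (K := F) (V := E₀), hEd]
      calc Nat.card F = Nat.card F ^ 1 := (pow_one _).symm
        _ < Nat.card F ^ d := Nat.pow_lt_pow_right Finite.one_lt_card (by omega)
    have h2 : ¬ Function.Injective (fun v : E₀ => Q (v : V)) := fun h =>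
      absurd (Nat.card_le_card_of_injective _ h) (not_le.2 h1)
    rw [Function.not_injective_iff] at h2
    obtain ⟨a, b, hab, hne⟩ := h2
    refine ⟨(a : V) - b, E₀.sub_mem a.2 b.2, fun h => hne (Subtype.ext (sub_eq_zero.1 h)), ?_⟩
    have h3 : polar Q (a : V) (-(b : V)) = 0 := hpol _ (E₀.neg_mem b.2) _ a.2
    have h4 : polar Q (a : V) (a : V) = 0 := hpol _ a.2 _ a.2
    rw [polar_self'] at h4
    have hab' : Q (a : V) = Q (b : V) := hab
    rw [sub_eq_add_neg, Q_add, QuadraticMap.map_neg, h3, ← hab', add_zero, ← two_mul, h4]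
  let S₀ : Submodule F V :=
    { carrier := {v | v ∈ E₀ ∧ Q v = 0}
      add_mem' := fun {a c} ha hc => ⟨E₀.add_mem ha.1 hc.1, by
        rw [Q_add, ha.2, hc.2, hpol _ hc.1 _ ha.1, add_zero, add_zero]⟩
      zero_mem' := ⟨E₀.zero_mem, QuadraticMap.map_zero Q⟩
      smul_mem' := fun c v hv => ⟨E₀.smul_mem c hv.1, by rw [QuadraticMap.map_smul, hv.2, smul_zero]⟩ }
  have hS : S₀ = E₀ := by
    rcases hirr S₀ (fun v hv => hv.1) (fun v hv => ⟨hyE v hv.1, by rw [en_apply, E_le_O y.2]; exact hv.2⟩) with h | h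
    · exfalso
      have h1 : v ∈ S₀ := ⟨hv, hQv⟩
      rw [h, Submodule.mem_bot] at h1
      exact hv0 h1
    · exact h
  refine ⟨E₀, fun w hw => ?_, hyE, hirr, by omega⟩
  rw [← hS] at hw
  exact hw.2

end crit

end Cfsg.Agent.H522.FpfSing
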