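import Mathlib
import Cfsg.Agent.H522.FrobAct

/-!
# The core lemma for `C_G(H)` nilpotent

`V` is a finite abelian `p`-group on which `A` acts, `T` a commutative group of automorphisms of
`V` of order prime to `p`, normalized by `A`.  `(F, H)` is a `FrobPair` in `A`, `p ∤ |F|`,
`C_V(F) = 1`.  If `Y ≤ T` is maximal subject to `C_V(Y) ≠ 1`, then `Y` contains every `x ∈ T` which
centralizes `C_V(H)`.
-/

set_option autoImplicit false

namespace Cfsg.Agent.H522

open Subgroup

theorem prod_split {A V : Type*} [Group A] [CommGroup V] (K S : Subgroup A) [Fintype K]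
    [Fintype (K.subgroupOf S)] (g : A → V) (hg : ∀ k ∈ K, k ∉ S → g k = 1) :
    ∏ k : K, g (k : A) = ∏ k : K.subgroupOf S, g ((k : S) : A) := by
  symm
  refine Fintype.prod_of_injective
    (fun k : K.subgroupOf S => (⟨((k : S) : A), Subgroup.mem_subgroupOf.mp k.2⟩ : K)) ?_ _ _ ?_ ?_
  · intro x y h
    exact Subtype.ext (Subtype.ext (congrArg (fun z : K => (z : A)) h))
  · intro k hk
    apply hg k k.2
    intro hkS
    apply hk
    exact ⟨⟨⟨(k : A), hkS⟩, Subgroup.mem_subgroupOf.mpr k.2⟩, rfl⟩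
  · intro k
    rfl

/-- in a `p`-group `v ^ n = 1` with `p ∤ n` forces `v = 1` -/
theorem eq_one_of_pow {V : Type*} [Group V] {p : ℕ} [hp : Fact p.Prime] (hV : IsPGroup p V)
    {v : V} {n : ℕ} (hn : ¬ p ∣ n) (h : v ^ n = 1) : v = 1 := by
  obtain ⟨k, hk⟩ := hV v
  have h1 : orderOf v ∣ p ^ k := orderOf_dvd_of_pow_eq_one hk
  have h2 : orderOf v ∣ n := orderOf_dvd_of_pow_eq_one h
  have h3 : Nat.Coprime (p ^ k) n := Nat.Coprime.pow_left k ((Nat.Prime.coprime_iff_not_dvd hp.out).mpr hn)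
  have h4 : orderOf v = 1 := Nat.eq_one_of_dvd_coprimes h3 h1 h2
  exact orderOf_eq_one_iff.mp h4

section core

variable {A : Type*} [Group A] {F H : Subgroup A} {V : Type*} [CommGroup V]
  [MulDistribMulAction A V]

theorem core (hp : FrobPair F H) [Finite F] [Finite H] [Finite V] (p : ℕ) [hpp : Fact p.Prime]
    (hV : IsPGroup p V) (hpF : ¬ p ∣ Nat.card F)
    (hCF : ∀ v : V, (∀ f ∈ F, f • v = v) → v = 1)
    (T : Subgroup (MulAut V)) (hTc : ∀ s ∈ T, ∀ t ∈ T, s * t = t * s) (hTp : ¬ p ∣ Nat.card T)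
    (hTA : ∀ a : A, ∀ t ∈ T, MulDistribMulAction.toMulAut A V a * t *
      (MulDistribMulAction.toMulAut A V a)⁻¹ ∈ T)
    (Y : Subgroup (MulAut V)) (hYT : Y ≤ T) (hY : ∃ v : V, v ≠ 1 ∧ ∀ y ∈ Y, y v = v)
    (hmax : ∀ Z : Subgroup (MulAut V), Z ≤ T → Y < Z → ∀ v : V, (∀ z ∈ Z, z v = v) → v = 1)
    (x : MulAut V) (hxT : x ∈ T)
    (hx : ∀ v : V, (∀ h ∈ H, h • v = v) → x v = v) : x ∈ Y := by
  classical
  have := Fintype.ofFinite F
  have := Fintype.ofFinite H
  have : Finite (MulAut V) := Finite.of_injective (fun e : MulAut V => (e : V → V))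
    (fun e e' h => MulEquiv.ext (fun v => congrFun h v))
  have := Fintype.ofFinite Y
  set ρ := MulDistribMulAction.toMulAut A V with hρ
  have hρa : ∀ (a : A) (v : V), ρ a v = a • v := fun a v => rfl
  have hYp : ¬ p ∣ Fintype.card Y := by
    intro h
    rw [← Nat.card_eq_fintype_card] at h
    exact hTp (h.trans (Subgroup.card_dvd_of_le hYT))
  -- the stabilizer of `Y`
  let S : Subgroup A := (Subgroup.normalizer (Y : Set (MulAut V))).comap ρ
  have hS : ∀ a : A, a ∈ S ↔ ∀ t, t ∈ Y ↔ ρ a * t * (ρ a)⁻¹ ∈ Y := by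
    intro a
    show ρ a ∈ Subgroup.normalizer (Y : Set (MulAut V)) ↔ _
    rw [Subgroup.mem_normalizer_iff]
  -- the norm map of `Y`
  let NY : V → V := fun v => ∏ y : Y, (y : MulAut V) v
  have hNYfix : ∀ v, ∀ y ∈ Y, y (NY v) = NY v := by
    intro v y hy
    show y (∏ z : Y, (z : MulAut V) v) = _
    rw [map_prod]
    exact Fintype.prod_equiv (Equiv.mulLeft (⟨y, hy⟩ : Y)) (fun z : Y => y ((z : MulAut V) v))
      (fun z : Y => (z : MulAut V) v) (fun z => rfl)
  have hNYprod : ∀ {ι : Type _} (s : Finset ι) (g : ι → V), NY (∏ i ∈ s, g i) = ∏ i ∈ s, NY (g i) := by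
    intro ι s g
    show ∏ y : Y, (y : MulAut V) (∏ i ∈ s, g i) = _
    simp only [map_prod]
    rw [Finset.prod_comm]
  have hNYcomm : ∀ t ∈ T, ∀ v, t (NY v) = NY (t v) := by
    intro t ht v
    show t (∏ z : Y, (z : MulAut V) v) = ∏ z : Y, (z : MulAut V) (t v)
    rw [map_prod]
    refine Finset.prod_congr rfl (fun z _ => ?_)
    have h1 := hTc t ht z (hYT z.2)
    exact congrArg (fun e : MulAut V => e v) h1
  have hNYpow : ∀ v, (∀ y ∈ Y, y v = v) → NY v = v ^ Fintype.card Y := by
    intro v hv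
    show ∏ z : Y, (z : MulAut V) v = _
    rw [Finset.prod_congr rfl (fun (z : Y) _ => hv (z : MulAut V) z.2), Finset.prod_const,
      Finset.card_univ]
  -- `S` preserves `C_V(Y)`
  have hSV : ∀ a ∈ S, ∀ v, (∀ y ∈ Y, y v = v) → ∀ y ∈ Y, y (a • v) = a • v := by
    intro a ha v hv y hy
    have h1 : a⁻¹ ∈ S := S.inv_mem ha
    rw [hS] at h1
    have h2 := (h1 y).mp hy
    have h3 := hv _ h2
    have h4 : (ρ a⁻¹ * y * (ρ a⁻¹)⁻¹) v = a⁻¹ • (y (a • v)) := by
      rw [map_inv, inv_inv]
      show (ρ a)⁻¹ (y (ρ a v)) = _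
      rw [← map_inv, hρa, hρa]
    rw [h4] at h3
    exact inv_smul_eq_iff.mp h3
  -- elements outside `S` kill
  have hout : ∀ a : A, a ∉ S → ∀ v, (∀ y ∈ Y, y v = v) → NY (a • v) = 1 := by
    intro a ha v hv
    let Y' : Subgroup (MulAut V) := Y.map (MulAut.conj (ρ a)).toMonoidHom
    have hY'T : Y' ≤ T := by
      rintro _ ⟨y, hy, rfl⟩
      exact hTA a y (hYT hy)
    have hY'v : ∀ z ∈ Y', z (a • v) = a • v := by
      rintro _ ⟨y, hy, rfl⟩
      show (ρ a * y * (ρ a)⁻¹) (a • v) = a • v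
      have : (ρ a * y * (ρ a)⁻¹) (a • v) = a • (y (a⁻¹ • (a • v))) := by
        rw [← hρa a⁻¹, map_inv]
        rfl
      rw [this, inv_smul_smul, hv y hy]
    have hlt : Y < Y ⊔ Y' := by
      refine lt_of_le_of_ne le_sup_left ?_
      intro he
      have h1 : Y' ≤ Y := by rw [he]; exact le_sup_right
      have h2 : Nat.card Y' = Nat.card Y :=
        Nat.card_congr (Y.equivMapOfInjective _ (MulAut.conj (ρ a)).injective).toEquiv.symm
      have h3 : Y' = Y := Subgroup.eq_of_le_of_card_ge h1 h2.ge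
      apply ha
      rw [hS]
      intro t
      constructor
      · intro ht
        exact h1 ⟨t, ht, rfl⟩
      · intro ht
        rw [← h3] at ht
        obtain ⟨s, hs, hst⟩ := ht
        have : s = t := (MulAut.conj (ρ a)).injective hst
        rw [← this]; exact hs
    apply hmax (Y ⊔ Y') (sup_le hYT hY'T) hlt
    have h5 : Y ⊔ Y' ≤ MulAction.stabilizer (MulAut V) (NY (a • v)) := by
      rw [sup_le_iff]
      refine ⟨fun y hy => hNYfix _ y hy, fun z hz => ?_⟩
      show z (NY (a • v)) = NY (a • v)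
      rw [hNYcomm z (hY'T hz), hY'v z hz]
    exact fun z hz => h5 hz
  -- the subgroup `C_V(Y)`
  let W : Subgroup V :=
    { carrier := {v | ∀ y ∈ Y, y v = v}
      one_mem' := fun y _ => map_one y
      mul_mem' := fun {a b} ha hb y hy => by rw [map_mul, ha y hy, hb y hy]
      inv_mem' := fun {a} ha y hy => by rw [map_inv, ha y hy] }
  let actW : MulDistribMulAction S W :=
    { smul := fun a w => ⟨(a : A) • (w : V), hSV a a.2 w w.2⟩
      one_smul := fun w => Subtype.ext (one_smul A (w : V))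
      mul_smul := fun a b w => Subtype.ext (mul_smul (a : A) (b : A) (w : V))
      smul_mul := fun a v w => Subtype.ext (smul_mul' (a : A) (v : V) (w : V))
      smul_one := fun a => Subtype.ext (smul_one (a : A)) }
  have hpS : FrobPair (F.subgroupOf S) (H.subgroupOf S) := by
    refine ⟨?_, ?_⟩
    · intro h hh f hf
      rw [Subgroup.mem_subgroupOf] at hh hf ⊢
      exact hp.conj_mem _ hh _ hf
    · intro h hh h1 f hf e
      rw [Subgroup.mem_subgroupOf] at hh hf
      apply Subtype.ext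
      exact hp.fpf _ hh (fun e' => h1 (Subtype.ext e')) _ hf (congrArg Subtype.val e)
  have hfinF : Finite (F.subgroupOf S) := Finite.of_injective
    (fun k : F.subgroupOf S => (⟨((k : S) : A), Subgroup.mem_subgroupOf.mp k.2⟩ : F)) (by
      intro x y h
      exact Subtype.ext (Subtype.ext (congrArg (fun z : F => (z : A)) h)))
  have hfinH : Finite (H.subgroupOf S) := Finite.of_injective
    (fun k : H.subgroupOf S => (⟨((k : S) : A), Subgroup.mem_subgroupOf.mp k.2⟩ : H)) (by
      intro x y h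
      exact Subtype.ext (Subtype.ext (congrArg (fun z : H => (z : A)) h)))
  have := Fintype.ofFinite (F.subgroupOf S)
  have := Fintype.ofFinite (H.subgroupOf S)
  have hpFS : ¬ p ∣ Fintype.card (F.subgroupOf S) := by
    rw [← Nat.card_eq_fintype_card]
    intro h
    apply hpF
    refine h.trans ?_
    have h1 : Nat.card (F.subgroupOf S) = Nat.card ((F.subgroupOf S).map S.subtype) :=
      Nat.card_congr ((F.subgroupOf S).equivMapOfInjective _ S.subtype_injective).toEquiv
    rw [h1]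
    apply Subgroup.card_dvd_of_le
    rintro _ ⟨k, hk, rfl⟩
    exact Subgroup.mem_subgroupOf.mp hk
  -- `C_W(F₁) = 1`
  have hCW : ∀ w : W, (∀ f ∈ F.subgroupOf S, f • w = w) → w = 1 := by
    intro w hw
    have h1 : ∏ f : F, (f : A) • (w : V) = 1 := FrobPair.prod_eq_one hCF (w : V)
    have h2 : NY (∏ f : F, (f : A) • (w : V)) = 1 := by
      rw [h1]
      show ∏ z : Y, (z : MulAut V) 1 = 1
      simp
    rw [hNYprod] at h2
    rw [prod_split F S (fun a => NY (a • (w : V))) (fun k _ hkS => hout k hkS w w.2)] at h2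
    have h3 : ∀ f : F.subgroupOf S, NY (((f : S) : A) • (w : V)) = (w : V) ^ Fintype.card Y := by
      intro f
      have h4 : ((f : S) : A) • (w : V) = w := congrArg Subtype.val (hw f f.2)
      rw [h4]
      exact hNYpow w w.2
    rw [Finset.prod_congr rfl (fun f _ => h3 f), Finset.prod_const, Finset.card_univ, ← pow_mul] at h2
    apply Subtype.ext
    refine eq_one_of_pow hV ?_ h2
    intro h
    rcases (Nat.Prime.dvd_mul hpp.out).mp h with h | h
    · exact hYp h
    · exact hpFS h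
  -- a nontrivial norm from `W`
  obtain ⟨v, hv1, hvY⟩ := hY
  obtain ⟨w₀, hw₀⟩ := hpS.exists_norm_ne_one hCW (⟨v, hvY⟩ : W) (by
    intro h
    have h1 : v ^ Fintype.card (F.subgroupOf S) = 1 := congrArg Subtype.val h
    exact hv1 (eq_one_of_pow hV hpFS h1))
  set w : W := ∏ h : H.subgroupOf S, (h : S) • w₀ with hw
  have hwV : (w : V) = ∏ h : H.subgroupOf S, ((h : S) : A) • (w₀ : V) := by
    rw [hw]
    exact map_prod W.subtype _ _
  have hwne : (w : V) ≠ 1 := fun e => hw₀ (Subtype.ext e)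
  -- the norm from `H`
  have hm : ∀ h ∈ H, h • (∏ k : H, (k : A) • (w₀ : V)) = ∏ k : H, (k : A) • (w₀ : V) :=
    fun h hh => FrobPair.smul_prod H (w₀ : V) h hh
  have hxm := hx _ hm
  have hNm : NY (∏ k : H, (k : A) • (w₀ : V)) = (w : V) ^ Fintype.card Y := by
    rw [hNYprod, prod_split H S (fun a => NY (a • (w₀ : V))) (fun k _ hkS => hout k hkS w₀ w₀.2),
      hwV, ← Finset.prod_pow]
    refine Finset.prod_congr rfl (fun h _ => ?_)
    exact hNYpow _ (hSV _ (h : S).2 _ w₀.2)
  have hxw : x ((w : V) ^ Fintype.card Y) = (w : V) ^ Fintype.card Y := by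
    rw [← hNm, hNYcomm x hxT, hxm]
  by_contra hxY
  have hlt : Y < Y ⊔ Subgroup.zpowers x := by
    refine lt_of_le_of_ne le_sup_left ?_
    intro he
    apply hxY
    rw [he]
    exact (le_sup_right : Subgroup.zpowers x ≤ _) (Subgroup.mem_zpowers x)
  have h1 := hmax (Y ⊔ Subgroup.zpowers x)
    (sup_le hYT (by rwa [Subgroup.zpowers_le])) hlt ((w : V) ^ Fintype.card Y) (by
      have h5 : Y ⊔ Subgroup.zpowers x ≤
          MulAction.stabilizer (MulAut V) ((w : V) ^ Fintype.card Y) := by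
        rw [sup_le_iff]
        refine ⟨fun y hy => ?_, ?_⟩
        · show y ((w : V) ^ Fintype.card Y) = _
          rw [map_pow, w.2 y hy]
        · rw [Subgroup.zpowers_le]
          exact hxw
      exact fun z hz => h5 hz)
  exact hwne (eq_one_of_pow hV hYp h1)

end core

end Cfsg.Agent.H522
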