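import Mathlib
import Cfsg.Agent.H522.FrobCore
import Cfsg.Agent.S0132

/-!
# Frobenius groups of automorphisms: `C_G(H)` nilpotent implies `G` nilpotent (solvable `G`)
-/

set_option autoImplicit false

namespace Cfsg.Agent.H522

open Subgroup
open scoped commutatorElement

universe u v

variable {A : Type v} [Group A]

theorem nilpotent_of_fixedBy_nilpotent {F H : Subgroup A} (hp : FrobPair F H) [Finite F] [Finite H]
    (hF : Group.IsNilpotent F) : ∀ (n : ℕ) (G : Type u) [Group G] [Finite G]
    [MulDistribMulAction A G], Nat.card G ≤ n → Group.IsSolvable G →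
    (∀ g : G, (∀ f ∈ F, f • g = g) → g = 1) → Group.IsNilpotent (fixedBy H G) →
    Group.IsNilpotent G := by
  intro n
  induction n with
  | zero =>
    intro N _ _ _ hn
    exact absurd (Nat.card_pos (α := N)) (by omega)
  | succ n ih =>
    intro G _ _ _ hn hG hCF hnil
    rcases subsingleton_or_nontrivial G with hs | hnt
    · infer_instance
    classical
    -- a minimal nontrivial invariant normal subgroup
    obtain ⟨M, ⟨hMn, hMA, hMne⟩, hMmin⟩ : ∃ M : Subgroup G, (M.Normal ∧
        (∀ (a : A) (m : G), m ∈ M → a • m ∈ M) ∧ M ≠ ⊥) ∧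
        ∀ D : Subgroup G, D.Normal → (∀ (a : A) (m : G), m ∈ D → a • m ∈ D) → D ≤ M → D ≠ ⊥ →
          D = M := by
      obtain ⟨M, hM, hmin⟩ := (Set.toFinite {D : Subgroup G | D.Normal ∧
        (∀ (a : A) (m : G), m ∈ D → a • m ∈ D) ∧ D ≠ ⊥}).exists_minimal
        ⟨⊤, inferInstance, fun _ _ _ => trivial, top_ne_bot⟩
      refine ⟨M, hM, fun D h1 h2 h3 h4 => le_antisymm h3 (hmin ⟨h1, h2, h4⟩ h3)⟩
    -- `M` is commutative
    have hMcomm : ∀ x ∈ M, ∀ y ∈ M, x * y = y * x := by
      by_contra hcon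
      have hne : ⁅M, M⁆ ≠ ⊥ := by
        intro h
        apply hcon
        intro x hx y hy
        have h1 := Subgroup.commutator_mem_commutator hx hy
        rw [h, Subgroup.mem_bot] at h1
        exact commutatorElement_eq_one_iff_mul_comm.mp h1
      have hinv : ∀ (a : A) (m : G), m ∈ ⁅M, M⁆ → a • m ∈ ⁅M, M⁆ := by
        intro a m hm
        have h1 : ⁅M, M⁆ ≤ (⁅M, M⁆).comap (MulDistribMulAction.toMonoidHom G a) := by
          rw [Subgroup.commutator_le]
          intro x hx y hy
          show a • ⁅x, y⁆ ∈ ⁅M, M⁆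
          rw [commutatorElement_def, smul_mul', smul_mul', smul_mul', smul_inv', smul_inv']
          exact Subgroup.commutator_mem_commutator (hMA a x hx) (hMA a y hy)
        exact h1 hm
      have h2 := hMmin ⁅M, M⁆ inferInstance hinv (Subgroup.commutator_le_right M M) hne
      have h3 : Nontrivial M := (Subgroup.nontrivial_iff_ne_bot M).mpr hMne
      have h4 := Group.IsSolvable.commutator_lt_top_of_nontrivial M
      apply h4.ne
      have h5 : (commutator M).map M.subtype = ⁅M, M⁆ := by
        rw [_root_.commutator_def, Subgroup.map_commutator, ← MonoidHom.range_eq_map, Subgroup.range_subtype]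
      apply Subgroup.map_injective M.subtype_injective
      rw [h5, h2, ← MonoidHom.range_eq_map, Subgroup.range_subtype]
    -- a prime
    have hMnt : Nontrivial M := (Subgroup.nontrivial_iff_ne_bot M).mpr hMne
    obtain ⟨p, hpp, hpd⟩ := Nat.exists_prime_and_dvd (Finite.one_lt_card (α := M)).ne'
    have hfact : Fact p.Prime := ⟨hpp⟩
    have hMp : ∀ m ∈ M, m ^ p = 1 := by
      let D : Subgroup G :=
        { carrier := {m | m ∈ M ∧ m ^ p = 1}
          one_mem' := ⟨M.one_mem, one_pow p⟩
          mul_mem' := by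
            rintro x y ⟨hx, hx'⟩ ⟨hy, hy'⟩
            refine ⟨M.mul_mem hx hy, ?_⟩
            have : Commute x y := hMcomm x hx y hy
            rw [this.mul_pow, hx', hy', one_mul]
          inv_mem' := by
            rintro x ⟨hx, hx'⟩
            exact ⟨M.inv_mem hx, by rw [inv_pow, hx', inv_one]⟩ }
      have hDn : D.Normal := by
        constructor
        rintro m ⟨hm, hm'⟩ g
        refine ⟨hMn.conj_mem m hm g, ?_⟩
        rw [conj_pow, hm']
        group
      have hDA : ∀ (a : A) (m : G), m ∈ D → a • m ∈ D := by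
        rintro a m ⟨hm, hm'⟩
        exact ⟨hMA a m hm, by rw [← smul_pow', hm', smul_one]⟩
      have hDne : D ≠ ⊥ := by
        obtain ⟨y, hy⟩ := exists_prime_orderOf_dvd_card' (G := M) p hpd
        intro h
        have h1 : (y : G) ∈ D := by
          refine ⟨y.2, ?_⟩
          have := pow_orderOf_eq_one y
          rw [hy] at this
          exact congrArg Subtype.val this
        rw [h, Subgroup.mem_bot] at h1
        have h2 : y = 1 := Subtype.ext h1
        rw [h2, orderOf_one] at hy
        exact hpp.one_lt.ne hy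
      have hDM := hMmin D hDn hDA (fun x hx => hx.1) hDne
      intro m hm
      rw [← hDM] at hm
      exact hm.2
    -- the quotient `G ⧸ M` is nilpotent
    have hQnil : Group.IsNilpotent (G ⧸ M) := by
      let _inst : MulDistribMulAction A (G ⧸ M) := quotAct M hMA
      apply ih (G ⧸ M)
      · have h1 : Nat.card (G ⧸ M) * Nat.card M = Nat.card G := by
          rw [← Subgroup.index_eq_card]; exact M.index_mul_card
        have h2 : 1 < Nat.card M := Finite.one_lt_card
        have h3 : 0 < Nat.card (G ⧸ M) := Nat.card_pos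
        nlinarith
      · infer_instance
      · intro v hv
        induction v using QuotientGroup.induction_on with
        | H g =>
          rw [QuotientGroup.eq_one_iff]
          apply fixed_quotient hF hG hCF M hMA
          intro f hf
          exact QuotientGroup.eq.mp (hv f hf).symm
      · let θ : fixedBy H G →* fixedBy H (G ⧸ M) :=
          { toFun := fun c => ⟨QuotientGroup.mk (c : G), fun h hh =>
              congrArg (QuotientGroup.mk (s := M)) (c.2 h hh)⟩
            map_one' := rfl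
            map_mul' := fun x y => rfl }
        refine Group.nilpotent_of_surjective θ ?_
        rintro ⟨v, hv⟩
        obtain ⟨g, rfl⟩ := QuotientGroup.mk_surjective v
        obtain ⟨c, hc, hcg⟩ := lift_fixed hp hF M inferInstance hMA (fun n _ h => hCF n h) g
          (fun h hh => QuotientGroup.eq.mp (hv h hh).symm)
        exact ⟨⟨c, hc⟩, Subtype.ext (QuotientGroup.eq.mpr hcg)⟩
    -- `M` as a module
    let instC : CommGroup M := { (inferInstance : Group M) with
      mul_comm := fun x y => Subtype.ext (hMcomm x x.2 y y.2) }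
    let instA : MulDistribMulAction A M := subAct M hMA
    have hMpg : IsPGroup p M := fun x => ⟨1, by
      rw [pow_one]; exact Subtype.ext (hMp x x.2)⟩
    have hMF : ∀ v : M, (∀ f ∈ F, f • v = v) → v = 1 := fun v hv =>
      Subtype.ext (hCF v (fun f hf => congrArg Subtype.val (hv f hf)))
    obtain ⟨Q, hQF, hpQ, hQc, hCQ⟩ := exists_pprime_part hp hF p hMpg hMF
    have hQfin : Finite Q := Finite.of_injective (fun y : Q => (⟨y, hQF y.2⟩ : F)) (by
      intro x y h
      exact Subtype.ext (congrArg (fun z : F => (z : A)) h))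
    let φ : G →* MulAut M := MulAut.conjNormal
    let ρ : A →* MulAut M := MulDistribMulAction.toMulAut A M
    have hφv : ∀ (g : G) (m : M), ((φ g m : M) : G) = g * m * g⁻¹ := fun g m => by
      simp [φ]
    have hρφ : ∀ (a : A) (g : G), ρ a * φ g * (ρ a)⁻¹ = φ (a • g) := by
      intro a g
      rw [mul_inv_eq_iff_eq_mul]
      ext m
      show a • ((φ g m : M) : G) = ((φ (a • g) (a • m) : M) : G)
      rw [hφv, hφv, smul_mul', smul_mul', smul_inv']
      rfl
    -- claim U
    have hU : ∀ N : Subgroup (MulAut M), (∀ g : G, ∀ t ∈ N, φ g * t * (φ g)⁻¹ ∈ N) →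
        (∀ a : A, ∀ t ∈ N, ρ a * t * (ρ a)⁻¹ ∈ N) → (∃ m : M, m ≠ 1 ∧ ∀ t ∈ N, t m = m) →
        N = ⊥ := by
      rintro N hNφ hNρ ⟨m, hm1, hm⟩
      let D : Subgroup G :=
        { carrier := {x | ∃ hx : x ∈ M, ∀ t ∈ N, t ⟨x, hx⟩ = ⟨x, hx⟩}
          one_mem' := ⟨M.one_mem, fun t _ => map_one t⟩
          mul_mem' := by
            rintro x y ⟨hx, hx'⟩ ⟨hy, hy'⟩
            refine ⟨M.mul_mem hx hy, fun t ht => ?_⟩
            have : (⟨x * y, M.mul_mem hx hy⟩ : M) = ⟨x, hx⟩ * ⟨y, hy⟩ := rfl
            rw [this, map_mul, hx' t ht, hy' t ht]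
          inv_mem' := by
            rintro x ⟨hx, hx'⟩
            refine ⟨M.inv_mem hx, fun t ht => ?_⟩
            have : (⟨x⁻¹, M.inv_mem hx⟩ : M) = (⟨x, hx⟩ : M)⁻¹ := rfl
            rw [this, map_inv, hx' t ht] }
      have hDn : D.Normal := by
        constructor
        rintro x ⟨hx, hx'⟩ g
        refine ⟨hMn.conj_mem x hx g, fun t ht => ?_⟩
        have h1 := hx' _ (hNφ g⁻¹ t ht)
        have h2 : (φ g⁻¹ * t * (φ g⁻¹)⁻¹) ⟨x, hx⟩ = (φ g)⁻¹ (t (φ g ⟨x, hx⟩)) := by
          rw [map_inv, inv_inv]; rfl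
        rw [h2] at h1
        have h3 : t (φ g ⟨x, hx⟩) = φ g ⟨x, hx⟩ := by
          have := congrArg (φ g) h1
          rwa [MulAut.apply_inv_self] at this
        have h4 : (⟨g * x * g⁻¹, hMn.conj_mem x hx g⟩ : M) = φ g ⟨x, hx⟩ :=
          Subtype.ext (hφv g ⟨x, hx⟩).symm
        rw [h4]; exact h3
      have hDA : ∀ (a : A) (m : G), m ∈ D → a • m ∈ D := by
        rintro a x ⟨hx, hx'⟩
        refine ⟨hMA a x hx, fun t ht => ?_⟩
        have h1 := hx' _ (hNρ a⁻¹ t ht)
        have h2 : (ρ a⁻¹ * t * (ρ a⁻¹)⁻¹) ⟨x, hx⟩ = (ρ a)⁻¹ (t (ρ a ⟨x, hx⟩)) := by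
          rw [map_inv, inv_inv]; rfl
        rw [h2] at h1
        have h3 : t (ρ a ⟨x, hx⟩) = ρ a ⟨x, hx⟩ := by
          have := congrArg (ρ a) h1
          rwa [MulAut.apply_inv_self] at this
        exact h3
      have hDne : D ≠ ⊥ := by
        intro h
        have h1 : (m : G) ∈ D := ⟨m.2, fun t ht => hm t ht⟩
        rw [h, Subgroup.mem_bot] at h1
        exact hm1 (Subtype.ext h1)
      have hDM := hMmin D hDn hDA (fun x hx => hx.1) hDne
      rw [Subgroup.eq_bot_iff_forall]
      intro t ht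
      ext x
      have hx : (x : G) ∈ D := by rw [hDM]; exact x.2
      obtain ⟨hx1, hx2⟩ := hx
      exact congrArg Subtype.val (hx2 t ht)
    have : Finite (MulAut M) := Finite.of_injective (fun e : MulAut M => (e : M → M))
      (fun e e' h => MulEquiv.ext (fun v => congrFun h v))
    -- `Ĝ`
    let Gh : Subgroup (MulAut M) := φ.range
    have hMker : M ≤ φ.ker := by
      intro x hx
      rw [MonoidHom.mem_ker]
      ext m
      rw [hφv, hMcomm x hx m m.2, mul_inv_cancel_right]
      rfl
    have hGhnil : Group.IsNilpotent Gh := by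
      refine Group.nilpotent_of_surjective (QuotientGroup.lift M φ.rangeRestrict (fun x hx => ?_)) ?_
      · exact Subtype.ext (hMker hx)
      · intro y
        obtain ⟨g, hg⟩ := φ.rangeRestrict_surjective y
        exact ⟨QuotientGroup.mk g, hg⟩
    have hGhφ : ∀ g : G, ∀ t ∈ Gh, φ g * t * (φ g)⁻¹ ∈ Gh := by
      rintro g _ ⟨x, rfl⟩
      exact ⟨g * x * g⁻¹, by rw [map_mul, map_mul, map_inv]⟩
    have hGhρ : ∀ a : A, ∀ t ∈ Gh, ρ a * t * (ρ a)⁻¹ ∈ Gh := by
      rintro a _ ⟨x, rfl⟩
      exact ⟨a • x, (hρφ a x).symm⟩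
    -- `Ĝ` is a `p'`-group
    have hGhp : ¬ p ∣ Nat.card Gh := by
      intro hdvd
      obtain ⟨P⟩ : Nonempty (Sylow p Gh) := inferInstance
      have hPn : (P : Subgroup Gh).Normal := by
        have h2 := (Group.isNilpotent_of_finite_tfae (G := Gh)).out 0 3
        exact (h2.mp hGhnil) p hfact P
      -- membership in `P`
      have hPmem : ∀ t : Gh, t ∈ (P : Subgroup Gh) ↔ ∃ k, t ^ (p ^ k) = 1 := by
        intro t
        constructor
        · intro ht
          obtain ⟨k, hk⟩ := P.isPGroup' ⟨t, ht⟩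
          exact ⟨k, congrArg Subtype.val hk⟩
        · rintro ⟨k, hk⟩
          have h3 : IsPGroup p (Subgroup.zpowers t) := by
            rintro ⟨y, hy⟩
            obtain ⟨j, rfl⟩ := Subgroup.mem_zpowers_iff.mp hy
            refine ⟨k, Subtype.ext ?_⟩
            show (t ^ j) ^ (p ^ k) = 1
            rw [← zpow_natCast, ← zpow_mul, mul_comm, zpow_mul, zpow_natCast, hk, one_zpow]
          obtain ⟨P', hP'⟩ := h3.exists_le_sylow
          have _uniq := Sylow.unique_of_normal P hPn
          rw [Subsingleton.elim P P']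
          exact hP' (Subgroup.mem_zpowers t)
      let Ph : Subgroup (MulAut M) := (P : Subgroup Gh).map Gh.subtype
      have hPhmem : ∀ t, t ∈ Ph ↔ t ∈ Gh ∧ ∃ k, t ^ (p ^ k) = 1 := by
        intro t
        constructor
        · rintro ⟨s, hs, rfl⟩
          refine ⟨s.2, ?_⟩
          obtain ⟨k, hk⟩ := (hPmem s).mp hs
          exact ⟨k, congrArg Subtype.val hk⟩
        · rintro ⟨ht, k, hk⟩
          exact ⟨⟨t, ht⟩, (hPmem ⟨t, ht⟩).mpr ⟨k, Subtype.ext hk⟩, rfl⟩
      have hPhconj : ∀ s : MulAut M, (∀ t ∈ Gh, s * t * s⁻¹ ∈ Gh) → ∀ t ∈ Ph, s * t * s⁻¹ ∈ Ph := by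
        intro s hs t ht
        rw [hPhmem] at ht ⊢
        obtain ⟨h1, k, hk⟩ := ht
        refine ⟨hs t h1, k, ?_⟩
        rw [conj_pow, hk]
        group
      have hbot := hU Ph (fun g => hPhconj _ (hGhφ g)) (fun a => hPhconj _ (hGhρ a)) (by
        -- `p`-group acting on a `p`-group
        have hPp : IsPGroup p Ph := P.isPGroup'.map Gh.subtype
        obtain ⟨k, hk⟩ := IsPGroup.iff_card.mp hMpg
        have h1 : (1 : M) ∈ MulAction.fixedPoints Ph M := fun y => smul_one (y : MulAut M)
        obtain ⟨w, hw, hw1⟩ := hPp.exists_fixed_point_of_prime_dvd_card_of_fixed_point M hpd h1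
        exact ⟨w, hw1.symm, fun t ht => hw ⟨t, ht⟩⟩)
      have h1 : (P : Subgroup Gh) = ⊥ := by
        rw [Subgroup.eq_bot_iff_forall]
        intro t ht
        have h2 : (t : MulAut M) ∈ Ph := ⟨t, ht, rfl⟩
        rw [hbot, Subgroup.mem_bot] at h2
        exact Subtype.ext h2
      have h2 := P.dvd_card_of_dvd_card hdvd
      rw [h1, Subgroup.card_bot] at h2
      exact hpp.one_lt.ne' (Nat.dvd_one.mp h2)
    -- the centre of `Ĝ`
    let T : Subgroup (MulAut M) := Gh ⊓ Subgroup.centralizer (Gh : Set (MulAut M))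
    have hTmem : ∀ t, t ∈ T ↔ t ∈ Gh ∧ ∀ s ∈ Gh, s * t = t * s := by
      intro t
      rw [Subgroup.mem_inf, Subgroup.mem_centralizer_iff]
      exact Iff.rfl
    have hTconj : ∀ s : MulAut M, (∀ t ∈ Gh, s * t * s⁻¹ ∈ Gh) → (∀ t ∈ Gh, s⁻¹ * t * s ∈ Gh) →
        ∀ t ∈ T, s * t * s⁻¹ ∈ T := by
      intro s hs hs' t ht
      rw [hTmem] at ht ⊢
      refine ⟨hs t ht.1, fun r hr => ?_⟩
      have h1 := ht.2 _ (hs' r hr)
      calc r * (s * t * s⁻¹) = s * ((s⁻¹ * r * s) * t) * s⁻¹ := by group
        _ = s * (t * (s⁻¹ * r * s)) * s⁻¹ := by rw [h1]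
        _ = (s * t * s⁻¹) * r := by group
    have hTφ : ∀ g : G, ∀ t ∈ T, φ g * t * (φ g)⁻¹ ∈ T := fun g =>
      hTconj _ (hGhφ g) (fun t ht => by
        have := hGhφ g⁻¹ t ht
        rwa [map_inv, inv_inv] at this)
    have hTρ : ∀ a : A, ∀ t ∈ T, ρ a * t * (ρ a)⁻¹ ∈ T := fun a =>
      hTconj _ (hGhρ a) (fun t ht => by
        have := hGhρ a⁻¹ t ht
        rwa [map_inv, inv_inv] at this)
    have hTc : ∀ s ∈ T, ∀ t ∈ T, s * t = t * s := fun s hs t ht =>
      ((hTmem t).mp ht).2 s ((hTmem s).mp hs).1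
    have hTp : ¬ p ∣ Nat.card T := fun h => hGhp (h.trans (Subgroup.card_dvd_of_le inf_le_left))
    -- the kernel
    have hkerA : ∀ (a : A) (m : G), m ∈ φ.ker → a • m ∈ φ.ker := by
      intro a m hm
      rw [MonoidHom.mem_ker] at hm ⊢
      rw [← hρφ, hm]
      group
    -- elements of `T` commuting with `H` centralize `C_M(H)`
    have hTH : ∀ x ∈ T, (∀ h ∈ H, ρ h * x * (ρ h)⁻¹ = x) → ∀ v : M, (∀ h ∈ H, h • v = v) →
        x v = v := by
      intro x hxT hxH v hv
      obtain ⟨⟨g, rfl⟩, -⟩ := (hTmem x).mp hxT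
      obtain ⟨c, hc, hcg⟩ := lift_fixed hp hF φ.ker inferInstance hkerA (fun n _ h => hCF n h) g
        (by
          intro h hh
          rw [MonoidHom.mem_ker, map_mul, map_inv, ← hρφ, hxH h hh, inv_mul_cancel])
      have hcφ : φ c = φ g := by
        rw [MonoidHom.mem_ker, map_mul, map_inv] at hcg
        exact inv_mul_eq_one.mp hcg
      -- the order of `φ c` is prime to `p`
      have hxo : (orderOf (φ c)).Coprime p := by
        have h1 : orderOf (φ c) ∣ Nat.card T := by
          have h2 := orderOf_dvd_natCard (⟨φ c, by rw [hcφ]; exact hxT⟩ : T)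
          rwa [Subgroup.orderOf_mk] at h2
        exact ((Nat.Prime.coprime_iff_not_dvd hpp).mpr (fun h => hTp (h.trans h1))).symm
      -- the `p'`-part of `c`
      obtain ⟨k, m, hm, hkm⟩ := Nat.exists_eq_pow_mul_and_not_dvd (orderOf_pos c).ne' p hpp.ne_one
      have hcopm : Nat.Coprime (p ^ k) m :=
        Nat.Coprime.pow_left k ((Nat.Prime.coprime_iff_not_dvd hpp).mpr hm)
      have hdm : orderOf (φ c) ∣ m := by
        have h1 : orderOf (φ c) ∣ p ^ k * m := by
          rw [← hkm]; exact orderOf_map_dvd φ c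
        exact (Nat.Coprime.pow_right k hxo).dvd_of_dvd_mul_left h1
      obtain ⟨j, hj⟩ : ∃ j, p ^ k * j ≡ 1 [MOD m] := by
        rcases Nat.lt_or_ge 1 m with h1 | h1
        · obtain ⟨j, -, hj⟩ := Nat.exists_mul_mod_eq_one_of_coprime hcopm h1
          exact ⟨j, by rw [Nat.ModEq, hj, Nat.mod_eq_of_lt h1]⟩
        · have hm1 : m = 1 := by
            rcases Nat.eq_zero_or_pos m with h2 | h2
            · rw [h2] at hm; exact absurd (dvd_zero p) hm
            · omega
          exact ⟨0, by rw [hm1]; exact Nat.modEq_one⟩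
      have hc'φ : φ (c ^ (p ^ k * j)) = φ c := by
        rw [map_pow]
        have h2 : p ^ k * j ≡ 1 [MOD orderOf (φ c)] := hj.of_dvd hdm
        have := pow_eq_pow_iff_modEq.mpr h2
        rwa [pow_one] at this
      have hc'o : (orderOf (c ^ (p ^ k * j))).Coprime p := by
        have h1 : orderOf (c ^ (p ^ k * j)) ∣ m := by
          apply orderOf_dvd_of_pow_eq_one
          rw [← pow_mul]
          have h3 : p ^ k * j * m = (p ^ k * m) * j := by ring
          rw [h3, ← hkm, pow_mul, pow_orderOf_eq_one, one_pow]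
        exact ((Nat.Prime.coprime_iff_not_dvd hpp).mpr (fun h => hm (h.trans h1))).symm
      -- in the nilpotent group `C_G(H)` it commutes with `v`
      have hc' : c ^ (p ^ k * j) ∈ fixedBy H G := (fixedBy H G).pow_mem hc _
      have hvH : (v : G) ∈ fixedBy H G := fun h hh => congrArg Subtype.val (hv h hh)
      have hcomm : (c ^ (p ^ k * j)) * (v : G) = v * c ^ (p ^ k * j) := by
        have hN : (M.subgroupOf (fixedBy H G)).Normal := inferInstance
        have hNp : IsPGroup p (M.subgroupOf (fixedBy H G)) := fun x => ⟨1, by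
          apply Subtype.ext
          apply Subtype.ext
          rw [pow_one]
          exact hMp _ x.2⟩
        have h4 := Cfsg.Agent.S0132.mem_centralizer_of_isNilpotent
          (M.subgroupOf (fixedBy H G)) hNp ⟨c ^ (p ^ k * j), hc'⟩ (by rwa [Subgroup.orderOf_mk])
        rw [Subgroup.mem_centralizer_iff] at h4
        have h5 := h4 ⟨(v : G), hvH⟩ v.2
        exact (congrArg Subtype.val h5).symm
      apply Subtype.ext
      rw [← hcφ, ← hc'φ, hφv, hcomm, mul_inv_cancel_right]
    -- a maximal `Y`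
    obtain ⟨Y, ⟨hYT, hY1⟩, hYmax⟩ : ∃ Y : Subgroup (MulAut M), (Y ≤ T ∧
        ∃ v : M, v ≠ 1 ∧ ∀ y ∈ Y, y v = v) ∧
        ∀ Z : Subgroup (MulAut M), Z ≤ T → Y < Z → ∀ v : M, (∀ z ∈ Z, z v = v) → v = 1 := by
      obtain ⟨v, hv⟩ := exists_ne (1 : M)
      obtain ⟨Y, hY, hmax⟩ := (Set.toFinite {Y : Subgroup (MulAut M) | Y ≤ T ∧
        ∃ v : M, v ≠ 1 ∧ ∀ y ∈ Y, y v = v}).exists_maximal
        ⟨⊥, bot_le, v, hv, fun y hy => by
          rw [Subgroup.mem_bot] at hy
          rw [hy]; rfl⟩
      refine ⟨Y, hY, fun Z hZT hYZ v hv => ?_⟩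
      by_contra hv1
      exact hYZ.not_ge (hmax ⟨hZT, v, hv1, hv⟩ hYZ.le)
    -- all of `T` is in `Y`
    have hTY : T ≤ Y := by
      let instT : MulDistribMulAction A T :=
        { smul := fun a t => ⟨ρ a * (t : MulAut M) * (ρ a)⁻¹, hTρ a t t.2⟩
          one_smul := fun t => Subtype.ext (by
            show ρ 1 * (t : MulAut M) * (ρ 1)⁻¹ = t
            rw [map_one]; group)
          mul_smul := fun a b t => Subtype.ext (by
            show ρ (a * b) * (t : MulAut M) * (ρ (a * b))⁻¹ = ρ a * (ρ b * t * (ρ b)⁻¹) * (ρ a)⁻¹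
            rw [map_mul]; group)
          smul_mul := fun a s t => Subtype.ext (by
            show ρ a * ((s : MulAut M) * t) * (ρ a)⁻¹ = (ρ a * s * (ρ a)⁻¹) * (ρ a * t * (ρ a)⁻¹)
            group)
          smul_one := fun a => Subtype.ext (by
            show ρ a * 1 * (ρ a)⁻¹ = 1
            group) }
      have hTsol : Group.IsSolvable T :=
        Group.isSolvable_of_comm (fun s t => Subtype.ext (hTc s s.2 t t.2))
      have hTF : ∀ t : T, (∀ f ∈ F, f • t = t) → t = 1 := by
        intro t ht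
        obtain ⟨⟨g, hg⟩, -⟩ := (hTmem t).mp t.2
        have h1 : g ∈ φ.ker := by
          apply fixed_quotient hF hG hCF φ.ker hkerA
          intro f hf
          rw [MonoidHom.mem_ker, map_mul, map_inv, ← hρφ, hg]
          have h2 : ρ f * (t : MulAut M) * (ρ f)⁻¹ = t := congrArg Subtype.val (ht f hf)
          rw [h2, inv_mul_cancel]
        apply Subtype.ext
        rw [← hg]
        exact h1
      have htop := closure_eq_top hp hF (Nat.card T) T le_rfl hTsol hTF
      intro t ht
      have h1 : (⟨t, ht⟩ : T) ∈ Subgroup.closure {x : T | ∃ f ∈ F, ∃ c : T,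
          (∀ h ∈ H, h • c = c) ∧ x = f • c} := by
        rw [htop]; trivial
      have h2 : Subgroup.closure {x : T | ∃ f ∈ F, ∃ c : T,
          (∀ h ∈ H, h • c = c) ∧ x = f • c} ≤ Y.comap T.subtype := by
        rw [Subgroup.closure_le]
        rintro x ⟨f, hf, c, hc, rfl⟩
        show ρ f * (c : MulAut M) * (ρ f)⁻¹ ∈ Y
        -- the conjugate `Y' = ρ(f)⁻¹ Y ρ(f)` is maximal as well
        let Y' : Subgroup (MulAut M) := Y.comap (MulAut.conj (ρ f)).toMonoidHom
        have hY'mem : ∀ s, s ∈ Y' ↔ ρ f * s * (ρ f)⁻¹ ∈ Y := fun s => Iff.rfl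
        have hρT' : ∀ a : A, ∀ s, ρ a * s * (ρ a)⁻¹ ∈ T → s ∈ T := by
          intro a s hs
          have := hTρ a⁻¹ _ hs
          rw [map_inv, inv_inv] at this
          have h3 : (ρ a)⁻¹ * (ρ a * s * (ρ a)⁻¹) * ρ a = s := by group
          rwa [h3] at this
        have hcY' : (c : MulAut M) ∈ Y' := by
          refine core hpQ p hMpg hQc hCQ T hTc hTp hTρ Y' ?_ ?_ ?_ c c.2 ?_
          · intro s hs
            exact hρT' f s (hYT ((hY'mem s).mp hs))
          · obtain ⟨v, hv1, hv⟩ := hY1
            refine ⟨(ρ f)⁻¹ v, fun e => hv1 ?_, fun y hy => ?_⟩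
            · have := congrArg (ρ f) e
              rwa [MulAut.apply_inv_self, map_one] at this
            · have h3 := hv _ ((hY'mem y).mp hy)
              have h4 : (ρ f * y * (ρ f)⁻¹) v = ρ f (y ((ρ f)⁻¹ v)) := rfl
              rw [h4] at h3
              have h6 : (ρ f)⁻¹ (ρ f (y ((ρ f)⁻¹ v))) = (ρ f)⁻¹ v := by rw [h3]
              rwa [MulAut.inv_apply_self] at h6
          · intro Z hZT hlt v hv
            let Z' : Subgroup (MulAut M) := Z.map (MulAut.conj (ρ f)).toMonoidHom
            have hZ'T : Z' ≤ T := by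
              rintro _ ⟨z, hz, rfl⟩
              exact hTρ f z (hZT hz)
            have hYY' : Y = Y'.map (MulAut.conj (ρ f)).toMonoidHom := by
              show Y = (Y.comap (MulAut.conj (ρ f)).toMonoidHom).map _
              rw [Subgroup.map_comap_eq_self_of_surjective]
              exact (MulAut.conj (ρ f)).surjective
            have hlt' : Y < Z' := by
              rw [hYY']
              exact (Subgroup.map_lt_map_iff_of_injective (MulAut.conj (ρ f)).injective).mpr hlt
            have h5 := hYmax Z' hZ'T hlt' (ρ f v) (by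
              rintro _ ⟨z, hz, rfl⟩
              show (ρ f * z * (ρ f)⁻¹) (ρ f v) = ρ f v
              have : (ρ f * z * (ρ f)⁻¹) (ρ f v) = ρ f (z ((ρ f)⁻¹ (ρ f v))) := rfl
              rw [this, MulAut.inv_apply_self, hv z hz])
            exact (ρ f).injective (by rw [h5, map_one])
          · exact hTH c c.2 (fun h hh => congrArg Subtype.val (hc h hh))
        exact (hY'mem _).mp hcY'
      exact h2 h1
    -- hence `T = ⊥`
    have hTbot : T = ⊥ := by
      apply hU T hTφ hTρ
      obtain ⟨v, hv1, hv⟩ := hY1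
      exact ⟨v, hv1, fun t ht => hv t (hTY ht)⟩
    have hGhbot : Gh = ⊥ := by
      by_contra hne
      have h1 : Nontrivial Gh := (Subgroup.nontrivial_iff_ne_bot Gh).mpr hne
      have h2 : Nontrivial (Subgroup.center Gh) :=
        (Subgroup.nontrivial_iff_ne_bot _).mpr (Group.IsNilpotent.center_ne_bot _)
      obtain ⟨z, hz⟩ := exists_ne (1 : Subgroup.center Gh)
      apply hz
      have h3 : ((z : Gh) : MulAut M) ∈ T := by
        rw [hTmem]
        refine ⟨(z : Gh).2, fun s hs => ?_⟩
        have := Subgroup.mem_center_iff.mp z.2 ⟨s, hs⟩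
        exact congrArg Subtype.val this
      rw [hTbot, Subgroup.mem_bot] at h3
      exact Subtype.ext (Subtype.ext h3)
    -- so `M` is central
    have hMZ : (QuotientGroup.mk' M).ker ≤ Subgroup.center G := by
      rw [QuotientGroup.ker_mk']
      intro m hm
      rw [Subgroup.mem_center_iff]
      intro g
      have h1 : φ g ∈ Gh := ⟨g, rfl⟩
      rw [hGhbot, Subgroup.mem_bot] at h1
      have h2 : ((φ g ⟨m, hm⟩ : M) : G) = m := by rw [h1]; rfl
      rw [hφv] at h2
      exact mul_inv_eq_iff_eq_mul.mp h2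
    have := hQnil
    exact Subgroup.isNilpotent_of_ker_le_center (QuotientGroup.mk' M) hMZ

end Cfsg.Agent.H522
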